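import Mathlib
import Cfsg.Agent.S0004
import Cfsg.Agent.S0005

/-!
# Two element orders forcing non-solvable generation: the common interface

`Core G`: there are prime powers `r ^ a`, `s ^ b` (`r ≠ s`) which are element orders of `G`, and any two elements
of these orders generate a non-solvable group.
-/

set_option autoImplicit false

namespace Cfsg.Agent.H518.Dghp

universe u v

/-- Two prime powers for different primes, both element orders of `G`, such that any two elements of these orders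
generate a non-solvable subgroup. -/
def Core (G : Type*) [Group G] : Prop :=
  ∃ r s a b : ℕ, r.Prime ∧ s.Prime ∧ r ≠ s ∧ 0 < a ∧ 0 < b ∧ (∃ x : G, orderOf x = r ^ a) ∧
    (∃ y : G, orderOf y = s ^ b) ∧
    ∀ x y : G, orderOf x = r ^ a → orderOf y = s ^ b →
      ¬ Group.IsSolvable (Subgroup.closure ({x, y} : Set G))

/-- `Core` is transported along isomorphisms. -/
theorem Core.congr {G : Type u} {H : Type v} [Group G] [Group H] (e : G ≃* H) (h : Core G) : Core H := by
  obtain ⟨r, s, a, b, hr, hs, hrs, ha, hb, ⟨x, hx⟩, ⟨y, hy⟩, hK⟩ := h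
  refine ⟨r, s, a, b, hr, hs, hrs, ha, hb, ⟨e x, by rw [MulEquiv.orderOf_eq, hx]⟩,
    ⟨e y, by rw [MulEquiv.orderOf_eq, hy]⟩, fun x' y' hx' hy' hsol => ?_⟩
  refine hK (e.symm x') (e.symm y') (by rw [MulEquiv.orderOf_eq, hx']) (by rw [MulEquiv.orderOf_eq, hy']) ?_
  have himg : (Subgroup.closure ({e.symm x', e.symm y'} : Set G)).map e.toMonoidHom =
      Subgroup.closure ({x', y'} : Set H) := by
    rw [MonoidHom.map_closure]
    congr 1
    rw [Set.image_pair]
    simp
  have e1 := (Subgroup.closure ({e.symm x', e.symm y'} : Set G)).equivMapOfInjective e.toMonoidHom e.injective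
  rw [himg] at e1
  exact Group.isSolvable_of_isSolvable_injective (f := e1.toMonoidHom) e1.injective

/-- If no solvable subgroup contains elements of order `r ^ a` and of order `s ^ b`, then `Core G`. -/
theorem Core.of_subgroup {G : Type u} [Group G] {r s a b : ℕ} (hr : r.Prime) (hs : s.Prime) (hrs : r ≠ s)
    (ha : 0 < a) (hb : 0 < b) (hx : ∃ x : G, orderOf x = r ^ a) (hy : ∃ y : G, orderOf y = s ^ b)
    (h : ∀ K : Subgroup G, Group.IsSolvable K → (∃ x ∈ K, orderOf x = r ^ a) → (∃ y ∈ K, orderOf y = s ^ b) → False) :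
    Core G :=
  ⟨r, s, a, b, hr, hs, hrs, ha, hb, hx, hy, fun x y hx hy hsol =>
    h _ hsol ⟨x, Subgroup.subset_closure (by simp), hx⟩ ⟨y, Subgroup.subset_closure (by simp), hy⟩⟩

/-- In a finite solvable group `K` with elements of order `r ^ a` and `s ^ b` there is a subgroup whose order is only
divisible by the primes `r` and `s` (at most) and which contains elements of order `r ^ a` and `s ^ b`. -/
theorem exists_hall_subgroup {K : Type u} [Group K] [Finite K] [Group.IsSolvable K] {r s a b : ℕ} (hr : r.Prime)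
    (hs : s.Prime) (hx : ∃ x : K, orderOf x = r ^ a) (hy : ∃ y : K, orderOf y = s ^ b) :
    ∃ H : Subgroup K, (∀ p : ℕ, p.Prime → p ∣ Nat.card H → p = r ∨ p = s) ∧ (∃ x ∈ H, orderOf x = r ^ a) ∧
      ∃ y ∈ H, orderOf y = s ^ b := by
  classical
  obtain ⟨x, hx⟩ := hx
  obtain ⟨y, hy⟩ := hy
  have hK0 : Nat.card K ≠ 0 := Nat.card_pos.ne'
  -- the `{r, s}`-part of `|K|`
  set m : ℕ := if r = s then r ^ (Nat.card K).factorization r
    else r ^ (Nat.card K).factorization r * s ^ (Nat.card K).factorization s with hm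
  have hm0 : m ≠ 0 := by
    rw [hm]
    split_ifs
    · exact pow_ne_zero _ hr.ne_zero
    · exact mul_ne_zero (pow_ne_zero _ hr.ne_zero) (pow_ne_zero _ hs.ne_zero)
  have hmp : ∀ p : ℕ, p.Prime → p ∣ m → p = r ∨ p = s := by
    intro p hp hpm
    rw [hm] at hpm
    split_ifs at hpm
    · exact Or.inl ((Nat.prime_dvd_prime_iff_eq hp hr).1 (hp.dvd_of_dvd_pow hpm))
    · rcases (Nat.Prime.dvd_mul hp).1 hpm with h | h
      · exact Or.inl ((Nat.prime_dvd_prime_iff_eq hp hr).1 (hp.dvd_of_dvd_pow h))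
      · exact Or.inr ((Nat.prime_dvd_prime_iff_eq hp hs).1 (hp.dvd_of_dvd_pow h))
  have hmd : m ∣ Nat.card K := by
    rw [hm]
    split_ifs with h
    · exact Nat.ordProj_dvd _ _
    · exact Nat.Coprime.mul_dvd_of_dvd_of_dvd
        (Nat.Coprime.pow _ _ ((Nat.coprime_primes hr hs).2 h)) (Nat.ordProj_dvd _ _) (Nat.ordProj_dvd _ _)
  obtain ⟨n, hn⟩ := hmd
  have hn0 : n ≠ 0 := fun h => hK0 (by rw [hn, h, mul_zero])
  have hrn : ¬ r ∣ n := by
    intro h
    have h1 : (Nat.card K).factorization r = m.factorization r + n.factorization r := by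
      rw [hn, Nat.factorization_mul hm0 hn0, Finsupp.add_apply]
    have h2 := (hr.dvd_iff_one_le_factorization hn0).1 h
    have h3 : (Nat.card K).factorization r ≤ m.factorization r := by
      refine (hr.pow_dvd_iff_le_factorization hm0).1 ?_
      rw [hm]
      split_ifs
      · exact dvd_rfl
      · exact dvd_mul_right _ _
    omega
  have hsn : ¬ s ∣ n := by
    intro h
    have h1 : (Nat.card K).factorization s = m.factorization s + n.factorization s := by
      rw [hn, Nat.factorization_mul hm0 hn0, Finsupp.add_apply]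
    have h2 := (hs.dvd_iff_one_le_factorization hn0).1 h
    have h3 : (Nat.card K).factorization s ≤ m.factorization s := by
      refine (hs.pow_dvd_iff_le_factorization hm0).1 ?_
      rw [hm]
      split_ifs with h
      · rw [h]
      · exact dvd_mul_left _ _
    omega
  have hmn : m.Coprime n := by
    refine Nat.coprime_of_dvd fun p hp hpm hpn => ?_
    rcases hmp p hp hpm with rfl | rfl
    · exact hrn hpn
    · exact hsn hpn
  -- Hall subgroups containing `x` and `y`
  obtain ⟨H₁, hH₁, hx₁⟩ := Cfsg.Agent.S0005.result m n hn hmn (Subgroup.zpowers x) (by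
    rw [Nat.card_zpowers, hx]
    exact Nat.Coprime.pow_left _ ((Nat.Prime.coprime_iff_not_dvd hr).2 hrn))
  obtain ⟨H₂, hH₂, hy₂⟩ := Cfsg.Agent.S0005.result m n hn hmn (Subgroup.zpowers y) (by
    rw [Nat.card_zpowers, hy]
    exact Nat.Coprime.pow_left _ ((Nat.Prime.coprime_iff_not_dvd hs).2 hsn))
  obtain ⟨g, hg⟩ := Cfsg.Agent.S0004.result m n hn hmn H₂ H₁ hH₂ hH₁
  refine ⟨H₁, fun p hp hpd => hmp p hp (hH₁ ▸ hpd), ⟨x, hx₁ (Subgroup.mem_zpowers x), hx⟩,
    ⟨MulAut.conj g y, ?_, by rw [MulEquiv.orderOf_eq, hy]⟩⟩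
  rw [← hg]
  exact ⟨y, hy₂ (Subgroup.mem_zpowers y), rfl⟩

/-- Reduction to `{r, s}`-groups: it is enough that no solvable subgroup whose order is only divisible by `r` and `s`
contains elements of order `r ^ a` and of order `s ^ b`. -/
theorem Core.of_hall {G : Type u} [Group G] [Finite G] {r s a b : ℕ} (hr : r.Prime) (hs : s.Prime) (hrs : r ≠ s)
    (ha : 0 < a) (hb : 0 < b) (hx : ∃ x : G, orderOf x = r ^ a) (hy : ∃ y : G, orderOf y = s ^ b)
    (h : ∀ K : Subgroup G, Group.IsSolvable K → (∀ p : ℕ, p.Prime → p ∣ Nat.card K → p = r ∨ p = s) →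
      (∃ x ∈ K, orderOf x = r ^ a) → (∃ y ∈ K, orderOf y = s ^ b) → False) : Core G := by
  refine Core.of_subgroup hr hs hrs ha hb hx hy fun K hK hxK hyK => ?_
  obtain ⟨x, hxK, hx⟩ := hxK
  obtain ⟨y, hyK, hy⟩ := hyK
  obtain ⟨H, hH, ⟨x', hx', hx''⟩, ⟨y', hy', hy''⟩⟩ := exists_hall_subgroup (K := K) hr hs
    ⟨⟨x, hxK⟩, by rw [Subgroup.orderOf_mk, hx]⟩ ⟨⟨y, hyK⟩, by rw [Subgroup.orderOf_mk, hy]⟩
  have e1 := H.equivMapOfInjective K.subtype K.subtype_injective
  refine h (H.map K.subtype) ?_ ?_ ?_ ?_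
  · exact Group.isSolvable_of_isSolvable_injective (f := e1.symm.toMonoidHom) e1.symm.injective
  · intro p hp hpd
    exact hH p hp (by rwa [Nat.card_congr e1.toEquiv])
  · exact ⟨x', ⟨x', hx', rfl⟩, by rw [← hx'', Subgroup.orderOf_coe]⟩
  · exact ⟨y', ⟨y', hy', rfl⟩, by rw [← hy'', Subgroup.orderOf_coe]⟩

/-- `(r, s)`-separation: no solvable subgroup of `G` has order divisible by `r` and by `s`. -/
def Sep (G : Type*) [Group G] (r s : ℕ) : Prop :=
  ∀ K : Subgroup G, Group.IsSolvable K → r ∣ Nat.card K → s ∣ Nat.card K → False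

/-- Separation passes to subgroups. -/
theorem Sep.subgroup {G : Type u} [Group G] {r s : ℕ} (h : Sep G r s) (L : Subgroup G) : Sep L r s := by
  intro K hK hrK hsK
  have e1 := K.equivMapOfInjective L.subtype L.subtype_injective
  refine h (K.map L.subtype) ?_ ?_ ?_
  · exact Group.isSolvable_of_isSolvable_injective (f := e1.symm.toMonoidHom) e1.symm.injective
  · rwa [← Nat.card_congr e1.toEquiv]
  · rwa [← Nat.card_congr e1.toEquiv]

/-- Separation passes to groups embedding in `G`. -/
theorem Sep.of_injective {G : Type u} {L : Type v} [Group G] [Group L] {r s : ℕ} (h : Sep G r s) (f : L →* G)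
    (hf : Function.Injective f) : Sep L r s := by
  intro K hK hrK hsK
  have e1 := K.equivMapOfInjective f hf
  refine h (K.map f) ?_ ?_ ?_
  · exact Group.isSolvable_of_isSolvable_injective (f := e1.symm.toMonoidHom) e1.symm.injective
  · rwa [← Nat.card_congr e1.toEquiv]
  · rwa [← Nat.card_congr e1.toEquiv]

/-- Separation passes to quotients by solvable normal subgroups. -/
theorem Sep.of_surjective {G : Type u} {L : Type v} [Group G] [Finite G] [Group L] {r s : ℕ} (h : Sep G r s)
    (f : G →* L) (hf : Function.Surjective f) (hker : Group.IsSolvable f.ker) : Sep L r s := by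
  intro K hK hrK hsK
  have hKf : (K.comap f).map f = K := Subgroup.map_comap_eq_self_of_surjective hf K
  have hdvd : Nat.card K ∣ Nat.card (K.comap f) := by
    have h1 := Subgroup.card_map_dvd (H := K.comap f) f
    rwa [hKf] at h1
  refine h (K.comap f) ?_ (hrK.trans hdvd) (hsK.trans hdvd)
  -- `K.comap f` is an extension of a subgroup of `ker f` by a subgroup of `K`
  let φ : K.comap f →* K := f.subgroupComap K
  haveI := hker
  haveI := hK
  refine Group.isSolvable_of_ker_le_range (G' := f.ker) (G'' := K)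
    (Subgroup.inclusion (show f.ker ≤ K.comap f from fun x hx => by
      rw [Subgroup.mem_comap, (MonoidHom.mem_ker).1 hx]; exact K.one_mem)) φ ?_
  intro x hx
  have hx1 : f x = 1 := congrArg Subtype.val hx
  exact ⟨⟨x, hx1⟩, rfl⟩

/-- Separation passes to isomorphic groups. -/
theorem Sep.congr {G : Type u} {L : Type v} [Group G] [Group L] {r s : ℕ} (e : G ≃* L) (h : Sep G r s) : Sep L r s :=
  h.of_injective e.symm.toMonoidHom e.symm.injective

/-- Reduction of separation to `{r, s}`-groups. -/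
theorem Sep.of_hall {G : Type u} [Group G] [Finite G] {r s : ℕ} (hr : r.Prime) (hs : s.Prime)
    (h : ∀ K : Subgroup G, Group.IsSolvable K → (∀ p : ℕ, p.Prime → p ∣ Nat.card K → p = r ∨ p = s) →
      r ∣ Nat.card K → s ∣ Nat.card K → False) : Sep G r s := by
  intro K hK hrK hsK
  haveI := Fact.mk hr
  haveI := Fact.mk hs
  obtain ⟨x, hx⟩ := exists_prime_orderOf_dvd_card' r hrK
  obtain ⟨y, hy⟩ := exists_prime_orderOf_dvd_card' s hsK
  obtain ⟨H, hH, ⟨x', hx', hx''⟩, ⟨y', hy', hy''⟩⟩ := exists_hall_subgroup (K := K) (a := 1) (b := 1) hr hs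
    ⟨x, by rw [hx, pow_one]⟩ ⟨y, by rw [hy, pow_one]⟩
  have e1 := H.equivMapOfInjective K.subtype K.subtype_injective
  refine h (H.map K.subtype) ?_ ?_ ?_ ?_
  · exact Group.isSolvable_of_isSolvable_injective (f := e1.symm.toMonoidHom) e1.symm.injective
  · intro p hp hpd
    exact hH p hp (by rwa [Nat.card_congr e1.toEquiv])
  · rw [← Nat.card_congr e1.toEquiv]
    have h1 := orderOf_dvd_natCard (⟨x', hx'⟩ : H)
    rwa [Subgroup.orderOf_mk, hx'', pow_one] at h1
  · rw [← Nat.card_congr e1.toEquiv]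
    have h1 := orderOf_dvd_natCard (⟨y', hy'⟩ : H)
    rwa [Subgroup.orderOf_mk, hy'', pow_one] at h1

/-- Separation gives `Core` when both primes divide the order. -/
theorem Sep.core {G : Type u} [Group G] [Finite G] {r s : ℕ} (h : Sep G r s) (hr : r.Prime) (hs : s.Prime)
    (hrs : r ≠ s) (hrG : r ∣ Nat.card G) (hsG : s ∣ Nat.card G) : Core G := by
  haveI := Fact.mk hr
  haveI := Fact.mk hs
  obtain ⟨x, hx⟩ := exists_prime_orderOf_dvd_card' r hrG
  obtain ⟨y, hy⟩ := exists_prime_orderOf_dvd_card' s hsG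
  refine Core.of_subgroup hr hs hrs one_pos one_pos ⟨x, by rw [hx, pow_one]⟩ ⟨y, by rw [hy, pow_one]⟩ ?_
  rintro K hK ⟨x', hx', hx''⟩ ⟨y', hy', hy''⟩
  refine h K hK ?_ ?_
  · have h1 := Subgroup.orderOf_dvd_natCard K hx'
    rwa [hx'', pow_one] at h1
  · have h1 := Subgroup.orderOf_dvd_natCard K hy'
    rwa [hy'', pow_one] at h1

end Cfsg.Agent.H518.Dghp
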