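import Mathlib
import Cfsg.Agent.H518.DghpPSp
import Cfsg.Agent.S0278
import Cfsg.Agent.S0279
import Cfsg.Agent.S0822

/-!
# The groups `PSU_n(q)`
-/

set_option autoImplicit false

namespace Cfsg.Agent.H518.DghpMat

open Module Cfsg.Agent.H518.Dghp Cfsg.Agent.H518.DghpSep Cfsg.Agent.H518.DghpPrim

universe u v w

/-- The inclusion of the special unitary group into matrices. -/
def suHom (n : ℕ) (F : Type u) [Field F] (q : ℕ) : Cfsg.SU n F q →* Matrix (Fin n) (Fin n) F :=
  (slHom (Fin n) F).comp (Cfsg.SU n F q).subtype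

theorem suHom_injective (n : ℕ) (F : Type u) [Field F] (q : ℕ) : Function.Injective (suHom n F q) :=
  (slHom_injective (Fin n) F).comp (Cfsg.SU n F q).subtype_injective

section

variable {F : Type} [Field F] [Fintype F] {n q : ℕ}

theorem card_SU_succ (hF : Fintype.card F = q ^ 2) (m : ℕ) :
    Nat.card (Cfsg.SU (m + 1) F q) = q ^ ((m + 1) * m / 2) *
      ∏ i ∈ Finset.range m, (if Even (i + 1) then q ^ (i + 1 + 1) + 1 else q ^ (i + 1 + 1) - 1) := by
  have h := Cfsg.Agent.S0278.result hF (m + 1) (by omega)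
  rw [Finset.prod_range_succ'] at h
  simp only [Nat.add_sub_cancel, Nat.zero_add, pow_one, Even.zero, if_true] at h
  have h2 : (q + 1) * Nat.card (Cfsg.SU (m + 1) F q) = (q + 1) * (q ^ ((m + 1) * m / 2) *
      ∏ i ∈ Finset.range m, (if Even (i + 1) then q ^ (i + 1 + 1) + 1 else q ^ (i + 1 + 1) - 1)) := by
    rw [h]
    ring
  exact Nat.eq_of_mul_eq_mul_left (by omega) h2

/-- The factors of `|SU_n(q)|`. -/
theorem factor_dvd_card_SU (hF : Fintype.card F = q ^ 2) {i : ℕ} (hi : 1 ≤ i) (hin : i < n) :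
    (if Even i then q ^ (i + 1) + 1 else q ^ (i + 1) - 1) ∣ Nat.card (Cfsg.SU n F q) := by
  obtain ⟨m, rfl⟩ : ∃ m, n = m + 1 := ⟨n - 1, by omega⟩
  rw [card_SU_succ hF]
  refine Dvd.dvd.mul_left ?_ _
  have h1 := Finset.dvd_prod_of_mem
    (fun i => (if Even (i + 1) then q ^ (i + 1 + 1) + 1 else q ^ (i + 1 + 1) - 1))
    (Finset.mem_range.2 (show i - 1 < m by omega))
  have h2 : i - 1 + 1 = i := by omega
  simp only [h2] at h1
  exact h1

theorem dvd_card_SU_char (hF : Fintype.card F = q ^ 2) (hn : 2 ≤ n) : q ∣ Nat.card (Cfsg.SU n F q) := by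
  obtain ⟨m, rfl⟩ : ∃ m, n = m + 1 := ⟨n - 1, by omega⟩
  rw [card_SU_succ hF]
  refine Dvd.dvd.mul_right (dvd_pow_self q ?_) _
  have h1 : 2 ≤ (m + 1) * m := by nlinarith
  omega

theorem one_lt_of_sq (hF : Fintype.card F = q ^ 2) : 1 < q := by
  have h1 : 1 < q ^ 2 := hF ▸ Fintype.one_lt_card
  by_contra hcon
  have : q ^ 2 ≤ 1 ^ 2 := Nat.pow_le_pow_left (by omega) 2
  omega

theorem finrank_fin : finrank F (Fin n → F) = n := by
  rw [finrank_pi_fin, Fintype.card_fin]

/-- A prime dividing `q + 1` has `q ^ 2 ≡ 1`. -/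
theorem not_dvd_add_one {r e : ℕ} (hq : 1 < q) (he : orderOf ((q ^ 2 : ℕ) : ZMod r) = e) (he2 : 2 ≤ e) :
    ¬ r ∣ q + 1 := by
  intro h
  refine not_dvd_pred (Nat.one_le_pow _ _ (by omega)) he he2 ?_
  have := Nat.sq_sub_sq q 1
  rw [one_pow] at this
  rw [this]
  exact Dvd.dvd.mul_right h _

/-- `PSU_n(q)`, `n ≥ 3` odd. -/
theorem core_psu_odd (hF : Fintype.card F = q ^ 2) (hn : 3 ≤ n) (hodd : Odd n) (h32 : ¬ (n = 3 ∧ q = 2)) :
    Core (Cfsg.PSU n F q) := by
  have hq : 1 < q := one_lt_of_sq hF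
  have hn2 : ¬ 2 ∣ n := fun h => (Nat.not_even_iff_odd.2 hodd) (even_iff_two_dvd.2 h)
  obtain ⟨r, hr, hord⟩ := Lib.Zsigmondy.exists_prime_orderOf (a := q) (n := 2 * n) (by omega) (by omega)
    (fun h => by omega) (fun h => h32 (by omega))
  have he : orderOf ((q ^ 2 : ℕ) : ZMod r) = n := orderOf_sq hord (by omega)
  have hrF : ¬ r ∣ Fintype.card F := by
    rw [hF]
    exact not_dvd_of_orderOf hr he (by omega)
  have hrn : 2 * n < r := lt_prime hr hord (by omega)
  have hcen : Nat.card (Subgroup.center (Cfsg.SU n F q)) = Nat.gcd n (q + 1) := Cfsg.Agent.S0279.result hF n hn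
  have hrG : r ∣ Nat.card (Cfsg.SU n F q) := by
    have h1 := factor_dvd_card_SU hF (i := n - 1) (n := n) (by omega) (by omega)
    have h2 : Even (n - 1) := by
      obtain ⟨k, hk⟩ := hodd
      exact ⟨k, by omega⟩
    rw [if_pos h2, Nat.sub_add_cancel (by omega)] at h1
    exact (dvd_pow_add_one hr (by omega) (by omega) hord).trans h1
  have h2G : 2 ∣ Nat.card (Cfsg.SU n F q) := by
    rcases Nat.even_or_odd q with h | h
    · exact (even_iff_two_dvd.1 h).trans (dvd_card_SU_char hF (by omega))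
    · have h1 := factor_dvd_card_SU hF (i := 1) (n := n) le_rfl (by omega)
      rw [if_neg (by decide)] at h1
      refine dvd_trans ?_ h1
      have h3 : Odd (q ^ 2) := h.pow
      exact (Nat.Odd.sub_odd h3 odd_one).two_dvd
  have hsep : Sep (Cfsg.SU n F q) r 2 := by
    rcases Nat.even_or_odd q with h | h
    · refine sep_char (matRep (suHom n F q)) (matRep_injective (suHom_injective _ _ _)) hr Nat.prime_two hrF
        (by rw [hF]; exact (even_iff_two_dvd.1 h).trans (dvd_pow_self q two_ne_zero)) (d := n) (by rw [hF, he])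
        finrank_fin (by omega) hn2
    · refine sep_two (matRep (suHom n F q)) (matRep_injective (suHom_injective _ _ _)) hr hrF
        (by
          rw [hF]
          exact fun h' => (Nat.not_even_iff_odd.2 h) (even_iff_two_dvd.2 (Nat.prime_two.dvd_of_dvd_pow h')))
        (d := n) (by rw [hF, he]) finrank_fin hn2 ?_
      intro y hy
      have h1 := matRep_eq_neg_one hy
      have h2 : (y : Matrix.SpecialLinearGroup (Fin n) F).1.det = 1 := (y : Matrix.SpecialLinearGroup (Fin n) F).2
      have h3 : (y : Matrix.SpecialLinearGroup (Fin n) F).1 = -1 := h1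
      rw [h3, Matrix.det_neg, Matrix.det_one, mul_one, Fintype.card_fin, hodd.neg_one_pow] at h2
      have h4 : (2 : F) = 0 := by
        have : (1 : F) + 1 = 0 := by
          nth_rewrite 1 [← h2]
          ring
        rwa [one_add_one_eq_two] at this
      have h6 : ringChar F = 2 := by
        have h7 : ringChar F ∣ 2 := (ringChar.spec F 2).1 (by exact_mod_cast h4)
        exact (Nat.prime_dvd_prime_iff_eq (CharP.char_is_prime F (ringChar F)) Nat.prime_two).1 h7
      have h7 := FiniteField.even_card_of_char_two h6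
      rw [hF] at h7
      have h8 := Nat.odd_iff.1 (h.pow (n := 2))
      omega
  have hr2 : r ≠ 2 := by omega
  refine core_center_quotient hsep hr Nat.prime_two hr2 (dvd_card_quot_center hr hrG ?_)
    (dvd_card_quot_center Nat.prime_two h2G ?_)
  · rw [hcen]
    exact fun h => not_dvd_add_one hq he (by omega) (h.trans (Nat.gcd_dvd_right _ _))
  · rw [hcen]
    exact fun h => hn2 (h.trans (Nat.gcd_dvd_left _ _))

/-- `PSU_n(q)`, `n ≥ 4` even. -/
theorem core_psu_even (hF : Fintype.card F = q ^ 2) (hn : 4 ≤ n) (heven : Even n) : Core (Cfsg.PSU n F q) := by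
  have hq : 1 < q := one_lt_of_sq hF
  have hcen : Nat.card (Subgroup.center (Cfsg.SU n F q)) = Nat.gcd n (q + 1) :=
    Cfsg.Agent.S0279.result hF n (by omega)
  have main : ∀ r s e f : ℕ, r.Prime → s.Prime → orderOf ((q ^ 2 : ℕ) : ZMod r) = e →
      orderOf ((q ^ 2 : ℕ) : ZMod s) = f → 2 ≤ e → 2 ≤ f → r ∣ Nat.card (Cfsg.SU n F q) →
      s ∣ Nat.card (Cfsg.SU n F q) → n < 2 * e → n < e + f → ¬ f ∣ e → ¬ s ∣ e → ¬ r ∣ f → n < r * f → r ≠ s →
      Core (Cfsg.PSU n F q) := by
    intro r s e f hr hs he hf he2 hf2 hrG hsG h1 h2 h3 h4 h5 h6 hrs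
    have hsep : Sep (Cfsg.SU n F q) r s :=
      sep_linear (matRep (suHom n F q)) (matRep_injective (suHom_injective _ _ _)) hr hs
        (by rw [hF]; exact not_dvd_of_orderOf hr he (by omega)) (by rw [hF]; exact not_dvd_of_orderOf hs hf (by omega))
        (e := e) (f := f) (d := n) (by rw [hF, he]) (by rw [hF, hf]) finrank_fin h1 h2 h3 h4 h5 h6
    refine core_center_quotient hsep hr hs hrs (dvd_card_quot_center hr hrG ?_) (dvd_card_quot_center hs hsG ?_)
    · rw [hcen]
      exact fun h => not_dvd_add_one hq he he2 (h.trans (Nat.gcd_dvd_right _ _))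
    · rw [hcen]
      exact fun h => not_dvd_add_one hq hf hf2 (h.trans (Nat.gcd_dvd_right _ _))
  by_cases h42 : n = 4 ∧ q = 2
  · obtain ⟨rfl, rfl⟩ := h42
    obtain ⟨e⟩ := Cfsg.Agent.S0822.result (F := F) (K := ZMod 3) (by rw [hF]; norm_num) (ZMod.card 3)
    exact Core.congr e.symm (core_psp_four_odd (F := ZMod 3) (q := 3) (ZMod.card 3) (by decide))
  by_cases h62 : n = 6 ∧ q = 2
  · obtain ⟨rfl, rfl⟩ := h62
    refine main 11 7 5 3 (by norm_num) (by norm_num) orderOf_four_11 orderOf_four_seven (by norm_num) (by norm_num)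
      ?_ ?_ (by norm_num) (by norm_num) (by norm_num) (by norm_num) (by norm_num) (by norm_num) (by norm_num)
    · have h1 := factor_dvd_card_SU hF (i := 4) (n := 6) (by norm_num) (by norm_num)
      rw [if_pos (by decide)] at h1
      exact dvd_trans (by norm_num) h1
    · have h1 := factor_dvd_card_SU hF (i := 5) (n := 6) (by norm_num) (by norm_num)
      rw [if_neg (by decide)] at h1
      exact dvd_trans (by norm_num) h1
  obtain ⟨m, hm⟩ := heven
  obtain ⟨r, hr, hordr⟩ := Lib.Zsigmondy.exists_prime_orderOf (a := q) (n := 2 * (n - 1)) (by omega) (by omega)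
    (fun h => by omega) (fun h => h42 (by omega))
  obtain ⟨s, hs, hords⟩ := Lib.Zsigmondy.exists_prime_orderOf (a := q) (n := 2 * m) (by omega) (by omega)
    (fun h => by omega) (fun h => h62 (by omega))
  have he : orderOf ((q ^ 2 : ℕ) : ZMod r) = n - 1 := orderOf_sq hordr (by omega)
  have hf : orderOf ((q ^ 2 : ℕ) : ZMod s) = m := orderOf_sq hords (by omega)
  have hrn := lt_prime hr hordr (by omega)
  have hsn := lt_prime hs hords (by omega)
  refine main r s (n - 1) m hr hs he hf (by omega) (by omega) ?_ ?_ (by omega) (by omega) ?_ ?_ ?_ ?_ ?_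
  · have h1 := factor_dvd_card_SU hF (i := n - 2) (n := n) (by omega) (by omega)
    have h2 : Even (n - 2) := ⟨m - 1, by omega⟩
    have h3 : n - 2 + 1 = n - 1 := by omega
    rw [if_pos h2, h3] at h1
    exact (dvd_pow_add_one hr (by omega) (by omega) hordr).trans h1
  · have h1 := factor_dvd_card_SU hF (i := n - 1) (n := n) (by omega) (by omega)
    have h2 : ¬ Even (n - 1) := by
      rintro ⟨k, hk⟩
      omega
    have h3 : n - 1 + 1 = 2 * m := by omega
    rw [if_neg h2, h3] at h1
    exact (dvd_pow_sub_one (by omega) hords).trans h1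
  · intro h
    have h1 : m ∣ 2 * m - (n - 1) := Nat.dvd_sub (Dvd.intro_left _ rfl) h
    have h2 : 2 * m - (n - 1) = 1 := by omega
    rw [h2] at h1
    have := Nat.le_of_dvd one_pos h1
    omega
  · intro h
    have := Nat.le_of_dvd (by omega) h
    omega
  · intro h
    have := Nat.le_of_dvd (by omega) h
    omega
  · calc n < r := by omega
      _ = r * 1 := (mul_one r).symm
      _ ≤ r * m := Nat.mul_le_mul_left r (by omega)
  · intro h
    rw [h, hords] at hordr
    omega

end

/-- **The unitary groups.** -/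
theorem core_isPSU {G : Type u} [Group G] (h : Cfsg.IsPSU G) : Core G := by
  obtain ⟨F, _, _, n, q, hF, hn, h32, ⟨e⟩⟩ := h
  refine Core.congr e.symm ?_
  rcases Nat.even_or_odd n with h4 | h4
  · refine core_psu_even hF ?_ h4
    obtain ⟨k, hk⟩ := h4
    omega
  · exact core_psu_odd hF hn h4 h32

end Cfsg.Agent.H518.DghpMat
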