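import Mathlib
import Cfsg.Agent.H518.SURow
import Cfsg.Agent.LieClassical.OrthCenter

/-!
# Solvably unique elements of the orthogonal groups `PΩ_{2m+1}(q)`, `PΩ⁻_{2m}(q)`
-/

set_option autoImplicit false

namespace Cfsg.Agent.H518.SU

open Module Cfsg.Agent.H518.DghpFix Cfsg.Agent.H518.DghpPrim Cfsg.Agent.H518.DghpMat QuadraticMap
open Cfsg.Agent.LieClassical.OmegaReindex

universe u v w

section

variable {ι : Type} [Fintype ι] [DecidableEq ι] {F : Type} [Field F] [Fintype F]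

theorem not_dvd_center_omega {Q : QuadraticForm F (ι → F)} (hQ : (polarBilin Q).Nondegenerate)
    (hn : 3 ≤ Fintype.card ι) (hs : ∃ u : ι → F, u ≠ 0 ∧ Q u = 0) {p : ℕ} (hp : p.Prime) (hp2 : p ≠ 2) :
    ¬ p ∣ Nat.card (Subgroup.center (Cfsg.Omega F (⇑Q))) := by
  intro h
  have : Fact p.Prime := ⟨hp⟩
  obtain ⟨z, hz⟩ := exists_prime_orderOf_dvd_card' p h
  have h1 := (LieClassical.OrthCenter.mem_center_omega_iff hQ hn hs z.1).1 z.2
  have h2 : z ^ 2 = 1 := by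
    apply Subtype.ext
    apply Subtype.ext
    apply Subtype.ext
    apply Units.ext
    show ((((z.1 : Cfsg.isometryGroup F (⇑Q)) : Matrix.GeneralLinearGroup ι F) : Matrix ι ι F)) ^ 2 = 1
    rcases h1 with h1 | h1
    · rw [h1, one_pow]
    · rw [h1, neg_one_sq]
  have h3 := orderOf_dvd_of_pow_eq_one h2
  rw [hz] at h3
  exact hp2 ((Nat.prime_dvd_prime_iff_eq hp Nat.prime_two).1 h3)

/-- The polar form. -/
theorem frm_polar {Q : QuadraticForm F (ι → F)} (hQ : (polarBilin Q).Nondegenerate) :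
    Frm (fun x y : ι → F => polar (⇑Q) x y) where
  add x y z := polar_add_right Q x y z
  smul c x y := by
    show polar (⇑Q) x (c • y) = c * polar (⇑Q) x y
    rw [polar_smul_right, smul_eq_mul]
  symm x y h := by
    show polar (⇑Q) y x = 0
    rw [polar_comm]
    exact h
  nondeg x h := hQ.1 x h

omit [Fintype F] in
theorem omHom_preserves (Q : QuadraticForm F (ι → F)) (g : Cfsg.Omega F (⇑Q)) (v : ι → F) :
    Q (matRep (omHom (⇑Q)) g v) = Q v := g.1.2 v v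

omit [Fintype F] in
theorem omHom_polar (Q : QuadraticForm F (ι → F)) (g : Cfsg.Omega F (⇑Q)) (u v : ι → F) :
    polar (⇑Q) (matRep (omHom (⇑Q)) g u) (matRep (omHom (⇑Q)) g v) = polar (⇑Q) u v := by
  simp only [polar, ← map_add, omHom_preserves]

/-- The general orthogonal row. -/
theorem row_orth_ofW {Q : QuadraticForm F (ι → F)} (hQ : (polarBilin Q).Nondegenerate)
    (hn : 3 ≤ Fintype.card ι) (hs : ∃ u : ι → F, u ≠ 0 ∧ Q u = 0) {p a f : ℕ} (hp : p.Prime) (hp5 : 5 ≤ p)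
    (ha : 1 ≤ a) (hpf : ¬ p ∣ f) (h1 : p ^ a ∣ Nat.card (Cfsg.POmega F (⇑Q)))
    (h2 : ¬ p ^ (a + 1) ∣ Nat.card (Cfsg.POmega F (⇑Q))) (hpF : ¬ p ∣ Fintype.card F)
    (h2e : finrank F (ι → F) < 2 * orderOf ((Fintype.card F : ℕ) : ZMod p))
    (hsize : Size (Fintype.card F) (finrank F (ι → F)) p a)
    (hcore : ∀ y : Cfsg.Omega F (⇑Q), orderOf y = p ^ a → ∀ M : Subgroup (Cfsg.Omega F (⇑Q)),
      Group.IsSolvable M → y ∈ M → ∀ ℓ : ℕ, ℓ.Prime →
      ℓ ∣ Fintype.card F → ∀ P : Subgroup (Cfsg.Omega F (⇑Q)), P ≤ M → (∀ g ∈ M, ∀ n ∈ P, g * n * g⁻¹ ∈ P) →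
      IsPGroup ℓ P → P = ⊥)
    (hw : ∀ y : Cfsg.Omega F (⇑Q), orderOf y = p ^ a → El p (y ^ p ^ (a - 1)) ∨
      ∃ s, s.Prime ∧ s ≠ p ∧ s ∣ Nat.card (Cfsg.POmega F (⇑Q)) ∧ Dghp.Sep (Cfsg.Omega F (⇑Q)) p s) :
    RowW f (Cfsg.POmega F (⇑Q)) := by
  have hc := not_dvd_center_omega hQ hn hs hp (by omega)
  have hcard : Nat.card (Cfsg.Omega F (⇑Q)) =
      Nat.card (Cfsg.POmega F (⇑Q)) * Nat.card (Subgroup.center (Cfsg.Omega F (⇑Q))) :=
    Subgroup.card_eq_card_quotient_mul_card_subgroup _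
  have hG : p ^ a ∣ Nat.card (Cfsg.Omega F (⇑Q)) := by
    rw [hcard]
    exact Dvd.dvd.mul_right h1 _
  have hG' : ¬ p ^ (a + 1) ∣ Nat.card (Cfsg.Omega F (⇑Q)) := by
    rw [hcard, mul_comm]
    exact not_pow_dvd_mul_of_not_dvd hp hc h2
  obtain ⟨y, hy⟩ := exists_orderOf hp (by omega) (commuting_of_rep (matRep (omHom (⇑Q)))
    (matRep_injective (omHom_injective _)) hp hpF h2e) hG
  exact row_center_W hp hp5 ha hpf hG' hy (el_of_size (matRep (omHom (⇑Q))) (matRep_injective (omHom_injective _)) hp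
    (by omega) ha hpF h2e hsize hy (hcore y hy)) (hw y hy) hc

/-- The separation from a pair of primitive primes. -/
theorem sep_orth (Q : (ι → F) → F) {q d : ℕ} (hF : Fintype.card F = q) (hd : Fintype.card ι = d) {r s e f : ℕ}
    (hr : r.Prime) (hs : s.Prime) (he : orderOf (q : ZMod r) = e) (hf : orderOf (q : ZMod s) = f) (he2 : 2 ≤ e)
    (hf2 : 2 ≤ f)
    (h1 : d < 2 * e) (h2 : d < e + f) (h3 : ¬ f ∣ e) (h4 : ¬ s ∣ e) (h5 : ¬ r ∣ f) (h6 : d < r * f) :
    Dghp.Sep (Cfsg.Omega F Q) r s :=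
  DghpSep.sep_linear (matRep (omHom Q)) (matRep_injective (omHom_injective _)) hr hs
      (by rw [hF]; exact not_dvd_of_orderOf hr he (by omega)) (by rw [hF]; exact not_dvd_of_orderOf hs hf (by omega))
      (e := e) (f := f) (d := d) (by rw [hF, he]) (by rw [hF, hf]) (by rw [finrank_pi_fin, hd]) h1 h2 h3 h4 h5 h6

end

theorem pow_dvd_of_dvd_four_mul {p g n k : ℕ} (hp : p.Prime) (hp2 : p ≠ 2) (hg : g ∣ 4) (h : p ^ k ∣ g * n) :
    p ^ k ∣ n := by
  refine Nat.Coprime.dvd_of_dvd_mul_left (Nat.Coprime.pow_left k ?_) h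
  refine Nat.Coprime.coprime_dvd_right hg ?_
  rw [show (4 : ℕ) = 2 ^ 2 from rfl]
  exact Nat.Coprime.pow_right 2 ((Nat.coprime_primes hp Nat.prime_two).2 hp2)

section

variable {F : Type} [Field F] [Fintype F] {m q p₀ f : ℕ}

/-- `PΩ⁻_{2m}(q)`. -/
theorem row_minus_genW {g : ℕ} (hg : Cond q f g) (hp₀ : p₀.Prime) (hf : 1 ≤ f) (hq : q = p₀ ^ f)
    (hF : Fintype.card F = q) (hm : 4 ≤ m) (a b : F)
    (hab : ∀ z₁ z₂ : F, z₁ ^ 2 + a * z₁ * z₂ + b * z₂ ^ 2 = 0 → z₁ = 0 ∧ z₂ = 0) :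
    RowW g (Cfsg.POmega F (Cfsg.quadFormMinus (m - 1) F a b)) := by
  have hq1 : 1 < q := hF ▸ Fintype.one_lt_card
  have hp₀q : p₀ ∣ q := by
    rw [hq]
    exact dvd_pow_self _ (by omega)
  obtain ⟨p, k, ⟨hp, hp5, hk, hord, hdvd, hdvd', hpf⟩, hs⟩ := exists_pack_irred (e := 2 * m) hp₀ hf hq (by omega)
    (by omega) (by omega)
  obtain ⟨h1, h2⟩ := add_one_facts hp (by omega) (by omega) hord hdvd hdvd'
  have hpq : ¬ p ∣ q := not_dvd_of_orderOf hp hord (by omega)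
  have hcard := Cfsg.Agent.S0294.result hF m hm a b hab
  have hdim : Fintype.card ((Fin (m - 1) ⊕ Fin (m - 1)) ⊕ Fin 2) = 2 * m := by
    simp only [Fintype.card_sum, Fintype.card_fin]
    omega
  have hd : finrank F ((Fin (m - 1) ⊕ Fin (m - 1)) ⊕ Fin 2 → F) = 2 * m := by rw [finrank_pi_fin, hdim]
  rw [← coe_quadMinus] at hcard ⊢
  have hQ : (polarBilin (quadMinus (m - 1) F a b)).Nondegenerate := quadMinus_nondegenerate hab
  refine row_orth_ofW hQ (by omega) (quadMinus_isotropic (by omega) a b) hp hp5 hk (hg p hp hp5 hpf (by omega))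
    ?_ ?_ (by rwa [hF])
    (by rw [hd, hF, hord]; omega) (by rw [hF, hd]; exact hs) ?_ ?_
  · refine pow_dvd_of_dvd_four_mul hp (by omega) (Nat.gcd_dvd_left 4 (q ^ m + 1)) ?_
    rw [hcard]
    exact Dvd.dvd.mul_right (Dvd.dvd.mul_left h1 _) _
  · intro h3
    have h4 : p ^ (k + 1) ∣ q ^ (m * (m - 1)) * (q ^ m + 1) * ∏ i ∈ Finset.range (m - 1), (q ^ (2 * (i + 1)) - 1) := by
      rw [← hcard]
      exact Dvd.dvd.mul_left h3 _
    rw [mul_comm] at h4
    refine not_pow_dvd_mul_of_not_dvd hp ?_ (not_pow_dvd_mul_of_not_dvd hp (not_dvd_pow hp hpq) h2) h4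
    rw [← Nat.Prime.coprime_iff_not_dvd hp, Nat.coprime_prod_right_iff]
    intro i hi
    have := Finset.mem_range.1 hi
    exact (Nat.Prime.coprime_iff_not_dvd hp).2 (not_dvd_of_lt (by omega) hord (by omega) (by omega))
  · intro y hy
    exact core_irred (matRep (omHom _)) (matRep_injective (omHom_injective _)) hp (by rwa [hF])
      (by rw [hF, hord, hd]) hk hy
  · intro y hy
    refine (wit_irred (matRep (omHom _)) (matRep_injective (omHom_injective _)) hp (by omega) hk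
      (by rwa [hF]) (by rw [hF, hord, hd]) (by rw [hd]; omega) hy hp₀ (by rwa [hF])).imp id
      fun h => ⟨p₀, hp₀, h.1, ?_, h.2⟩
    have h3 : p₀ ∣ Nat.gcd 4 (q ^ m + 1) *
        Nat.card (Cfsg.POmega F (⇑(quadMinus (m - 1) F a b))) := by
      rw [hcard]
      exact Dvd.dvd.mul_right (Dvd.dvd.mul_right (hp₀q.trans (dvd_pow_self _ (by
        have : 0 < m * (m - 1) := Nat.mul_pos (by omega) (by omega)
        omega))) _) _
    refine ((Nat.Prime.dvd_mul hp₀).1 h3).resolve_left fun h4 => ?_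
    have h5 : p₀ ∣ q ^ m + 1 - q ^ m := Nat.dvd_sub (h4.trans (Nat.gcd_dvd_right _ _))
      (hp₀q.trans (dvd_pow_self _ (by omega)))
    rw [Nat.add_sub_cancel_left] at h5
    exact hp₀.one_lt.ne' (Nat.dvd_one.1 h5)

theorem row_minus_gen {g : ℕ} (hg : Cond q f g) (hp₀ : p₀.Prime) (hf : 1 ≤ f) (hq : q = p₀ ^ f)
    (hF : Fintype.card F = q) (hm : 4 ≤ m) (a b : F)
    (hab : ∀ z₁ z₂ : F, z₁ ^ 2 + a * z₁ * z₂ + b * z₂ ^ 2 = 0 → z₁ = 0 ∧ z₂ = 0) :
    Row g (Cfsg.POmega F (Cfsg.quadFormMinus (m - 1) F a b)) :=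
  (row_minus_genW hg hp₀ hf hq hF hm a b hab).row

theorem row_minus (hp₀ : p₀.Prime) (hf : 1 ≤ f) (hq : q = p₀ ^ f) (hF : Fintype.card F = q) (hm : 4 ≤ m) (a b : F)
    (hab : ∀ z₁ z₂ : F, z₁ ^ 2 + a * z₁ * z₂ + b * z₂ ^ 2 = 0 → z₁ = 0 ∧ z₂ = 0) :
    Row f (Cfsg.POmega F (Cfsg.quadFormMinus (m - 1) F a b)) :=
  row_minus_gen (cond_self q f) hp₀ hf hq hF hm a b hab

set_option maxHeartbeats 1600000 in
/-- `PΩ_{2m+1}(q)`. -/
theorem row_odd_genW {g : ℕ} (hg : Cond q f g) (hp₀ : p₀.Prime) (hf : 1 ≤ f) (hq : q = p₀ ^ f)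
    (hF : Fintype.card F = q) (hm : 3 ≤ m) (hodd : Odd q)
    (h36 : ¬ (q = 3 ∧ m = 3)) (h56 : ¬ (q = 5 ∧ m = 3)) : RowW g (Cfsg.POmega F (Cfsg.quadFormOdd m F)) := by
  have hq1 : 1 < q := hF ▸ Fintype.one_lt_card
  have hexc : ¬ Exc q (2 * m) := by
    obtain ⟨j, hj⟩ := hodd
    unfold Exc
    omega
  obtain ⟨p, k, ⟨hp, hp5, hk, hord, hdvd, hdvd', hpf⟩, hs⟩ := exists_pack (e := 2 * m) hp₀ hf hq (by omega) hexc
  have hpq : ¬ p ∣ q := not_dvd_of_orderOf hp hord (by omega)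
  have hcard := Cfsg.Agent.S0292.result hF hodd m hm
  have hdim : Fintype.card (Unit ⊕ (Fin m ⊕ Fin m)) = 2 * m + 1 := by
    simp only [Fintype.card_sum, Fintype.card_fin, Fintype.card_unit]
    omega
  have hd : finrank F (Unit ⊕ (Fin m ⊕ Fin m) → F) = 2 * m + 1 := by rw [finrank_pi_fin, hdim]
  have h2F : (2 : F) ≠ 0 := by
    intro h
    have h6 : ringChar F = 2 := by
      have h7 : ringChar F ∣ 2 := (ringChar.spec F 2).1 (by exact_mod_cast h)
      exact (Nat.prime_dvd_prime_iff_eq (CharP.char_is_prime F (ringChar F)) Nat.prime_two).1 h7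
    have h7 := FiniteField.even_card_of_char_two h6
    rw [hF] at h7
    have h8 := Nat.odd_iff.1 hodd
    omega
  rw [← coe_quadOdd] at hcard ⊢
  have hQ : (polarBilin (quadOdd m F)).Nondegenerate := quadOdd_nondegenerate h2F
  have hsing : ∃ u : Unit ⊕ (Fin m ⊕ Fin m) → F, u ≠ 0 ∧ quadOdd m F u = 0 := quadOdd_isotropic (by omega)
  refine row_orth_ofW hQ (by omega) hsing hp hp5 hk (hg p hp hp5 hpf (by omega)) ?_ ?_ (by rwa [hF])
    (by rw [hd, hF, hord]; omega) (by rw [hF, hd]; exact Or.inl (hs _ (by omega))) ?_ ?_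
  · refine pow_dvd_of_dvd_four_mul (g := 2) hp (by omega) (by norm_num) ?_
    rw [hcard]
    exact Dvd.dvd.mul_left (hdvd.trans (dvd_prod_factor (by omega) le_rfl)) _
  · intro h3
    have h4 : p ^ (k + 1) ∣ q ^ (m ^ 2) * ∏ i ∈ Finset.range m, (q ^ (2 * (i + 1)) - 1) := by
      rw [← hcard]
      exact Dvd.dvd.mul_left h3 _
    refine not_pow_dvd_mul_of_not_dvd hp (not_dvd_pow hp hpq) ?_ h4
    refine not_pow_dvd_prod hp (Finset.range m) _ (m - 1) ?_ ?_ (Finset.mem_range.2 (by omega))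
    · have : m - 1 + 1 = m := by omega
      rw [this]
      exact hdvd'
    · intro i hi hi'
      have := Finset.mem_range.1 hi
      exact not_dvd_of_lt (by omega) hord (by omega) (by omega)
  · intro y hy
    exact core_fix_one (matRep (omHom _)) (matRep_injective (omHom_injective _)) (frm_polar hQ)
      (fun g u v => omHom_polar _ g u v) hp (by rwa [hF]) (by rw [hd, hF, hord]; omega) (by rw [hd, hF, hord]) hk hy
  · intro y hy
    by_cases hpe : p = 2 * m + 1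
    · right
      obtain ⟨j, hj⟩ := hodd
      obtain ⟨s, hs', hf'⟩ := Lib.Zsigmondy.exists_prime_orderOf (a := q) (n := 2 * (m - 1)) (by omega) (by omega)
        (fun h => by omega) (fun h => by omega)
      have hsn := lt_prime hs' hf' (by omega)
      have hsp : s ≠ p := by
        rintro rfl
        omega
      refine ⟨s, hs', hsp, ?_, sep_orth _ hF hdim hp hs' hord hf' (by omega) (by omega) (by omega) (by omega) ?_ ?_ ?_ ?_⟩
      · refine dvd_of_dvd_four_mul (g := 2) hs' (by omega) (by norm_num) ?_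
        rw [hcard]
        exact Dvd.dvd.mul_left ((dvd_pow_sub_one hq1.le hf').trans (dvd_prod_factor (by omega) (by omega))) _
      · intro h
        have h1 : 2 * (m - 1) ∣ 2 * m - 2 * (m - 1) := Nat.dvd_sub h dvd_rfl
        have h2 : 2 * m - 2 * (m - 1) = 2 := by omega
        rw [h2] at h1
        have := Nat.le_of_dvd two_pos h1
        omega
      · intro h
        have h1 : s ∣ m := by
          rcases (Nat.Prime.dvd_mul hs').1 h with h' | h'
          · have := Nat.le_of_dvd two_pos h'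
            omega
          · exact h'
        have := Nat.le_of_dvd (by omega) h1
        omega
      · intro h
        have := Nat.le_of_dvd (by omega) h
        omega
      · calc 2 * m + 1 < p * 2 := by omega
          _ ≤ p * (2 * (m - 1)) := Nat.mul_le_mul_left p (by omega)
    · left
      have h3 := mul_le_of_orderOf hp hord (by omega) hpe
      have hy' : orderOf (y ^ p ^ (k - 1)) = p ^ 1 := by rw [orderOf_pow_pred hp hk hy, pow_one]
      refine el_of_size (matRep (omHom _)) (matRep_injective (omHom_injective _)) hp (by omega) le_rfl (by rwa [hF])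
        (by rw [hd, hF, hord]; omega) (Or.inl ?_) hy' ?_
      · rw [hd, Nat.sub_self, pow_zero, pow_one]
        omega
      · exact core_fix_one (matRep (omHom _)) (matRep_injective (omHom_injective _)) (frm_polar hQ)
          (fun g u v => omHom_polar _ g u v) hp (by rwa [hF]) (by rw [hd, hF, hord]; omega) (by rw [hd, hF, hord])
          le_rfl hy'

theorem row_odd_gen {g : ℕ} (hg : Cond q f g) (hp₀ : p₀.Prime) (hf : 1 ≤ f) (hq : q = p₀ ^ f)
    (hF : Fintype.card F = q) (hm : 3 ≤ m) (hodd : Odd q)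
    (h36 : ¬ (q = 3 ∧ m = 3)) (h56 : ¬ (q = 5 ∧ m = 3)) : Row g (Cfsg.POmega F (Cfsg.quadFormOdd m F)) :=
  (row_odd_genW hg hp₀ hf hq hF hm hodd h36 h56).row

theorem row_odd (hp₀ : p₀.Prime) (hf : 1 ≤ f) (hq : q = p₀ ^ f) (hF : Fintype.card F = q) (hm : 3 ≤ m) (hodd : Odd q)
    (h36 : ¬ (q = 3 ∧ m = 3)) (h56 : ¬ (q = 5 ∧ m = 3)) : Row f (Cfsg.POmega F (Cfsg.quadFormOdd m F)) :=
  row_odd_gen (cond_self q f) hp₀ hf hq hF hm hodd h36 h56

end

end Cfsg.Agent.H518.SU
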