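import Mathlib
import Cfsg.Agent.H518.SUOrth
import Cfsg.Agent.LieClassical.QuadCount
import Cfsg.Agent.ClassicalGeometry.OrthDickson

/-!
# Solvably unique elements of `PΩ⁺_{2m}(q)`
-/

set_option autoImplicit false

namespace Cfsg.Agent.H518.SU

open Module Cfsg.Agent.H518.DghpFix Cfsg.Agent.H518.DghpPrim Cfsg.Agent.H518.DghpMat QuadraticMap
open Cfsg.Agent.LieClassical.OmegaReindex

universe u v w

section Gen

variable {F : Type u} [Field F] {V : Type v} [AddCommGroup V] [Module F V]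

/-- Counting fixed points on an invariant set. -/
theorem card_modEq_set [Finite V] {f : V →ₗ[F] V} {r k : ℕ} (hr : r.Prime) (hf : f ^ r ^ k = 1) (S : Set V)
    (hS : ∀ v ∈ S, f v ∈ S) : Nat.card S ≡ Nat.card {v : V // v ∈ S ∧ f v = v} [MOD r] := by
  classical
  have : Fact r.Prime := ⟨hr⟩
  have : Fintype S := Fintype.ofFinite _
  let g : Function.End S := fun w => ⟨f w, hS w w.2⟩
  have hit : ∀ (m : ℕ) (w : S), (((g ^ m : Function.End S) w : S) : V) = (f ^ m) (w : V) := by
    intro m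
    induction m with
    | zero => intro w; rfl
    | succ m ih =>
      intro w
      rw [pow_succ, pow_succ]
      show (((g ^ m : Function.End S) (g w) : S) : V) = _
      rw [ih]
      rfl
  have hg : g ^ r ^ k = 1 := by
    funext w
    apply Subtype.ext
    rw [hit, hf]
    rfl
  have h1 := Equiv.Perm.card_fixedPoints_modEq (f := g) (p := r) (n := k) hg
  rw [← Nat.card_eq_fintype_card, ← Nat.card_eq_fintype_card] at h1
  have h2 : Nat.card (Function.fixedPoints g) = Nat.card {v : V // v ∈ S ∧ f v = v} := by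
    refine Nat.card_congr
      { toFun := fun w => ⟨(w.1 : V), w.1.2, congrArg Subtype.val w.2⟩
        invFun := fun w => ⟨⟨w.1, w.2.1⟩, Subtype.ext w.2.2⟩
        left_inv := fun w => rfl
        right_inv := fun w => rfl }
  rw [h2] at h1
  exact h1

/-- The dimension of the fixed space. -/
theorem finrank_fixS_add [Fintype F] [FiniteDimensional F V] {y : V →ₗ[F] V} {p a e : ℕ} (hp : p.Prime)
    (hpF : ¬ p ∣ Fintype.card F) (hy : y ^ p ^ a = 1) (hy1 : y ≠ 1)
    (he : orderOf ((Fintype.card F : ℕ) : ZMod p) = e) (h2e : finrank F V < 2 * e) :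
    finrank F (fixS y) + e = finrank F V := by
  obtain ⟨d, hd⟩ : ∃ d, finrank F V = d := ⟨_, rfl⟩
  rw [hd] at h2e ⊢
  have htop : finrank F (⊤ : Submodule F V) = d := by rw [finrank_top, hd]
  have hcx : finrank F (fixS y) < d := by
    rw [← hd]
    refine lt_of_le_of_ne (Submodule.finrank_le _) fun h => hy1 ?_
    exact fixS_eq_top_iff.1 (Submodule.eq_top_of_finrank_eq h)
  have h1 := finrank_fix hp hpF hy ⊤ (fun _ _ => trivial)
  rw [top_inf_eq, htop, he] at h1
  obtain ⟨m, hm⟩ := h1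
  have hm0 : m ≠ 0 := by
    rintro rfl
    omega
  have hm1 : m < 2 := by
    by_contra hcon
    have : e * 2 ≤ e * m := Nat.mul_le_mul_left e (by omega)
    omega
  have : m = 1 := by omega
  subst this
  omega

/-- Fixed points modulo an invariant subspace of fixed vectors. -/
theorem exists_fix_mod [Fintype F] [FiniteDimensional F V] {G : Type w} [Group G] (φ : G →* (V →ₗ[F] V))
    {P : Subgroup G} {ℓ : ℕ} (hℓ : ℓ.Prime) (hℓF : ℓ ∣ Fintype.card F) (hP : IsPGroup ℓ P) (W H : Submodule F V)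
    (hW : ∀ m ∈ P, ∀ v ∈ W, φ m v ∈ W) (hH : ∀ m ∈ P, ∀ v ∈ H, φ m v ∈ H) (hHW : ¬ H ≤ W) :
    ∃ v ∈ H, v ∉ W ∧ ∀ m ∈ P, φ m v - v ∈ W := by
  let ψ : P →* ((V ⧸ W) →ₗ[F] (V ⧸ W)) :=
    { toFun := fun m => W.mapQ W (φ m) (fun v hv => hW m m.2 v hv)
      map_one' := by
        apply Submodule.linearMap_qext
        ext v
        simp
      map_mul' := fun a b => by
        apply Submodule.linearMap_qext
        ext v
        simp }
  have hψ : ∀ (m : P) (v : V), ψ m (W.mkQ v) = W.mkQ (φ m v) := fun m v => rfl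
  have h1 := fixSub_inf_ne_bot ψ (P := ⊤) hℓ hℓF (hP.of_equiv Subgroup.topEquiv.symm) (H.map W.mkQ) (by
    rintro m - _ ⟨v, hv, rfl⟩
    exact ⟨φ m v, hH m m.2 v hv, (hψ m v).symm⟩) (by
    intro h
    apply hHW
    intro v hv
    have h2 : W.mkQ v ∈ H.map W.mkQ := ⟨v, hv, rfl⟩
    rw [h, Submodule.mem_bot] at h2
    exact (Submodule.Quotient.mk_eq_zero W).1 h2)
  obtain ⟨x, ⟨⟨v, hv, rfl⟩, hx⟩, hx0⟩ := (Submodule.ne_bot_iff _).1 h1
  refine ⟨v, hv, fun h => hx0 ((Submodule.Quotient.mk_eq_zero W).2 h), fun m hm => ?_⟩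
  have h2 := hx ⟨m, hm⟩ trivial
  rw [hψ] at h2
  exact (Submodule.Quotient.eq W).1 h2

end Gen

section

variable {F : Type} [Field F] [Fintype F] {m q : ℕ}

/-- The number of singular vectors modulo `p`. -/
theorem card_sing_modEq (hF : Fintype.card F = q) (hm : 2 ≤ m) {p : ℕ} (hp : p.Prime) (hpq : ¬ p ∣ q)
    (h : p ∣ q ^ (m - 1) + 1) :
    Nat.card {v : Fin m ⊕ Fin m → F // Cfsg.quadFormPlus m F v = 0} ≡ 1 [MOD p] := by
  classical
  have h1 := LieClassical.QuadCount.card_plus (F := F) m 0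
  rw [if_pos rfl, hF] at h1
  set N := Nat.card {v : Fin m ⊕ Fin m → F // Cfsg.quadFormPlus m F v = 0} with hN
  obtain ⟨k, hk⟩ : ∃ k, m = k + 1 := ⟨m - 1, by omega⟩
  subst hk
  rw [Nat.add_sub_cancel] at h
  have h2 : (q : ZMod p) ^ k = -1 := by
    have h3 : ((q ^ k + 1 : ℕ) : ZMod p) = 0 := (ZMod.natCast_eq_zero_iff _ _).2 h
    push_cast at h3
    exact eq_neg_of_add_eq_zero_left h3
  have hpf : Fact p.Prime := ⟨hp⟩
  have hq0 : (q : ZMod p) ≠ 0 := fun h3 => hpq ((ZMod.natCast_eq_zero_iff _ _).1 h3)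
  have h3 : (q : ZMod p) * N + (q : ZMod p) ^ (k + 1) = (q : ZMod p) ^ (2 * (k + 1)) + (q : ZMod p) ^ (k + 1 + 1) := by
    exact_mod_cast congrArg (Nat.cast : ℕ → ZMod p) h1
  have h4 : (q : ZMod p) ^ (k + 1) = -q := by rw [pow_succ, h2]; ring
  have h5 : (q : ZMod p) ^ (2 * (k + 1)) = q ^ 2 := by rw [mul_comm, pow_mul, h4]; ring
  have h6 : (q : ZMod p) ^ (k + 1 + 1) = -q ^ 2 := by rw [pow_succ, h4]; ring
  rw [h4, h5, h6] at h3
  have h7 : (q : ZMod p) * ((N : ZMod p) - 1) = 0 := by linear_combination h3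
  have h8 : (N : ZMod p) = 1 := sub_eq_zero.1 ((mul_eq_zero.1 h7).resolve_left hq0)
  have h9 : (N : ZMod p) = ((1 : ℕ) : ZMod p) := by rw [h8, Nat.cast_one]
  exact (ZMod.natCast_eq_natCast_iff _ _ _).1 h9

/-- **The fixed space of `y` is anisotropic.** -/
theorem aniso (hF : Fintype.card F = q) (hm : 4 ≤ m) {p a : ℕ} (hp : p.Prime) (hp5 : 5 ≤ p)
    (hord : orderOf (q : ZMod p) = 2 * (m - 1)) {y : (Fin m ⊕ Fin m → F) →ₗ[F] (Fin m ⊕ Fin m → F)}
    (hy : y ^ p ^ a = 1) (hy1 : y ≠ 1) (hyQ : ∀ v, quadPlus m F (y v) = quadPlus m F v) {u : Fin m ⊕ Fin m → F}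
    (hu : u ∈ fixS y) (hQu : quadPlus m F u = 0) : u = 0 := by
  classical
  by_contra hu0
  have hq1 : 1 < q := hF ▸ Fintype.one_lt_card
  have hpq : ¬ p ∣ q := not_dvd_of_orderOf hp hord (by omega)
  have hpF : ¬ p ∣ Fintype.card F := by rwa [hF]
  have hQ : (polarBilin (quadPlus m F)).Nondegenerate := quadPlus_nondegenerate
  have hyB : ∀ u v, polar (⇑(quadPlus m F)) (y u) (y v) = polar (⇑(quadPlus m F)) u v := by
    intro u v
    simp only [polar, ← map_add, hyQ]
  have hdim : Fintype.card (Fin m ⊕ Fin m) = 2 * m := by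
    simp only [Fintype.card_sum, Fintype.card_fin]
    omega
  have hd : finrank F (Fin m ⊕ Fin m → F) = 2 * m := by rw [finrank_pi_fin, hdim]
  have hC : finrank F (fixS y) = 2 := by
    have := finrank_fixS_add hp hpF hy hy1 (by rw [hF, hord]) (by rw [hd]; omega)
    omega
  -- a hyperbolic pair
  have hpF' : ((p ^ a : ℕ) : F) ≠ 0 := by
    rw [Nat.cast_pow]
    exact pow_ne_zero _ (cast_ne_zero_of_not_dvd hp hpF)
  obtain ⟨c, hc, huc⟩ : ∃ c ∈ fixS y, polar (⇑(quadPlus m F)) u c ≠ 0 := by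
    by_contra hcon
    push Not at hcon
    exact hu0 (eq_zero_of_fix (frm_polar hQ) hpF' hy hyB hu hcon)
  obtain ⟨c', hc'C, huc'⟩ : ∃ c' ∈ fixS y, polar (⇑(quadPlus m F)) u c' = 1 := by
    refine ⟨(polar (⇑(quadPlus m F)) u c)⁻¹ • c, (fixS y).smul_mem _ hc, ?_⟩
    rw [polar_smul_right, smul_eq_mul, inv_mul_cancel₀ huc]
  have huu : polar (⇑(quadPlus m F)) u u = 0 := by
    rw [polar_self, hQu, smul_zero]
  obtain ⟨w, hwC, huw, hQw⟩ : ∃ w ∈ fixS y, polar (⇑(quadPlus m F)) u w = 1 ∧ quadPlus m F w = 0 := by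
    refine ⟨c' + (-(quadPlus m F c')) • u, (fixS y).add_mem hc'C ((fixS y).smul_mem _ hu), ?_, ?_⟩
    · rw [polar_add_right, polar_smul_right, huc', huu, smul_zero, add_zero]
    · rw [QuadraticMap.map_add (quadPlus m F), QuadraticMap.map_smul, hQu, polar_smul_right, polar_comm, huc']
      simp
  -- the coordinates
  let T : (Fin 1 ⊕ Fin 1 → F) →ₗ[F] (Fin m ⊕ Fin m → F) :=
    { toFun := fun v => v (.inl 0) • u + v (.inr 0) • w
      map_add' := fun v v' => by
        simp only [Pi.add_apply, add_smul]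
        abel
      map_smul' := fun c v => by
        simp only [Pi.smul_apply, smul_eq_mul, mul_smul, RingHom.id_apply, smul_add] }
  have hT : ∀ v, T v = v (.inl 0) • u + v (.inr 0) • w := fun v => rfl
  have hTQ : ∀ v, quadPlus m F (T v) = Cfsg.quadFormPlus 1 F v := by
    intro v
    rw [hT, QuadraticMap.map_add (quadPlus m F), QuadraticMap.map_smul, QuadraticMap.map_smul, hQu, hQw,
      polar_smul_left, polar_smul_right, huw]
    simp [Cfsg.quadFormPlus]
  have hTinj : Function.Injective T := by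
    rw [← LinearMap.ker_eq_bot, LinearMap.ker_eq_bot']
    intro v hv
    rw [hT] at hv
    have h1 : polar (⇑(quadPlus m F)) u (v (.inl 0) • u + v (.inr 0) • w) = 0 := by rw [hv, polar_zero_right]
    rw [polar_add_right, polar_smul_right, polar_smul_right, huu, huw, smul_zero, zero_add, smul_eq_mul,
      mul_one] at h1
    rw [h1, zero_smul, add_zero] at hv
    have h2 := (smul_eq_zero.1 hv).resolve_right hu0
    funext i
    rcases i with i | i
    · rw [Subsingleton.elim i 0, h2]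
      rfl
    · rw [Subsingleton.elim i 0, h1]
      rfl
  have hTrange : LinearMap.range T = fixS y := by
    refine Submodule.eq_of_le_of_finrank_le ?_ ?_
    · rintro _ ⟨v, rfl⟩
      rw [hT]
      exact (fixS y).add_mem ((fixS y).smul_mem _ hu) ((fixS y).smul_mem _ hwC)
    · rw [LinearMap.finrank_range_of_inj hTinj, hC, finrank_pi_fin]
      simp
  -- counting
  have hcard1 : Nat.card {v : Fin 1 ⊕ Fin 1 → F // Cfsg.quadFormPlus 1 F v = 0} =
      Nat.card {v : Fin m ⊕ Fin m → F // v ∈ {v | quadPlus m F v = 0} ∧ y v = v} := by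
    refine Nat.card_congr (Equiv.ofBijective (fun v => ⟨T v.1, by
      show quadPlus m F (T v.1) = 0
      rw [hTQ, v.2], by
      have : T v.1 ∈ fixS y := by rw [← hTrange]; exact ⟨_, rfl⟩
      exact this⟩) ⟨?_, ?_⟩)
    · intro a b hab
      exact Subtype.ext (hTinj (congrArg Subtype.val hab))
    · rintro ⟨v, hv, hv'⟩
      have h1 : v ∈ LinearMap.range T := by rw [hTrange]; exact hv'
      obtain ⟨x, hx⟩ := h1
      refine ⟨⟨x, ?_⟩, Subtype.ext hx⟩
      rw [← hTQ, hx]
      exact hv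
  have h1 := card_modEq_set hp hy {v | quadPlus m F v = 0} (fun v hv => by
    show quadPlus m F (y v) = 0
    rw [hyQ]
    exact hv)
  rw [← hcard1] at h1
  have h2 := LieClassical.QuadCount.card_plus (F := F) 1 0
  rw [if_pos rfl, hF] at h2
  set N' := Nat.card {v : Fin 1 ⊕ Fin 1 → F // Cfsg.quadFormPlus 1 F v = 0} with hN'
  have h3 : N' + 1 = 2 * q := by
    have h4 : q * (N' + 1) = q * (2 * q) := by
      have : q * N' + q ^ 1 = q ^ (2 * 1) + q ^ (1 + 1) := h2
      rw [pow_one] at this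
      rw [mul_add, mul_one, this]
      ring
    exact Nat.eq_of_mul_eq_mul_left (by omega) h4
  have h4 : Nat.card {v : Fin m ⊕ Fin m → F // Cfsg.quadFormPlus m F v = 0} ≡ 1 [MOD p] := by
    refine card_sing_modEq hF (by omega) hp hpq (dvd_pow_add_one hp (by omega) (by omega) hord)
  have h5 : Nat.card {v | quadPlus m F v = 0} = Nat.card {v : Fin m ⊕ Fin m → F // Cfsg.quadFormPlus m F v = 0} := by
    rw [← coe_quadPlus]
    rfl
  rw [h5] at h1
  have h6 : 1 ≡ N' [MOD p] := h4.symm.trans h1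
  have h7 : p ∣ N' - 1 := (Nat.modEq_iff_dvd' (by omega)).1 h6
  have h8 : N' - 1 = 2 * (q - 1) := by omega
  rw [h8] at h7
  rcases (Nat.Prime.dvd_mul hp).1 h7 with h9 | h9
  · have := Nat.le_of_dvd two_pos h9
    omega
  · exact not_dvd_pred (by omega) hord (by omega) h9

/-- Elements of `Ω` fixing a hyperplane are trivial. -/
theorem eq_one_of_hyperplane {ι : Type} [Fintype ι] [DecidableEq ι] {Q : QuadraticForm F (ι → F)}
    (hQ : (polarBilin Q).Nondegenerate) (h4 : Fintype.card ι ≠ 4) (heven : Even (Fintype.card ι))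
    (g : Cfsg.Omega F (⇑Q)) (H : Submodule F (ι → F)) (hH : Fintype.card ι ≤ finrank F H + 1)
    (hgH : ∀ v ∈ H, matRep (omHom (⇑Q)) g v = v) : g = 1 := by
  have h1 := ClassicalGeometry.OrthDickson.dsign_eq_one_of_mem_commutator Q hQ (Or.inr h4) g.1 g.2
  rw [ClassicalGeometry.OrthDickson.dsign_def] at h1
  set S := ClassicalGeometry.OrthCharTwo.fixSp (g.1 : Cfsg.isometryGroup F (⇑Q)) with hS
  have h2 : H ≤ S := fun v hv => hgH v hv
  have h3 := Submodule.finrank_mono h2
  have h5 : finrank F S ≤ Fintype.card ι := by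
    have := Submodule.finrank_le S
    rwa [finrank_pi_fin] at this
  obtain ⟨k, hk⟩ := heven
  have h6 : finrank F S = Fintype.card ι := by
    by_contra hne
    have h7 : finrank F S + Fintype.card ι = 2 * (2 * k - 1) + 1 := by omega
    rw [h7, pow_succ, pow_mul] at h1
    simp at h1
  have h7 : S = ⊤ := Submodule.eq_top_of_finrank_eq (by rw [h6, finrank_pi_fin])
  have h8 : (g.1 : Cfsg.isometryGroup F (⇑Q)) = 1 := ClassicalGeometry.OrthCharTwo.fixSp_eq_top_iff.1 h7
  exact Subtype.ext h8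

/-- **The characteristic condition for `Ω⁺`.** -/
theorem core_plus (hF : Fintype.card F = q) (hm : 4 ≤ m) {p a : ℕ} (hp : p.Prime) (hp5 : 5 ≤ p) (ha : 1 ≤ a)
    (hord : orderOf (q : ZMod p) = 2 * (m - 1)) {y : Cfsg.Omega F (⇑(quadPlus m F))} (hy : orderOf y = p ^ a) :
    ∀ M : Subgroup (Cfsg.Omega F (⇑(quadPlus m F))), Group.IsSolvable M → y ∈ M → ∀ ℓ : ℕ, ℓ.Prime →
      ℓ ∣ Fintype.card F → ∀ P : Subgroup (Cfsg.Omega F (⇑(quadPlus m F))), P ≤ M →
      (∀ g ∈ M, ∀ n ∈ P, g * n * g⁻¹ ∈ P) → IsPGroup ℓ P → P = ⊥ := by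
  intro M _ hyM ℓ hℓ hℓF P hPM hn hP
  have hq1 : 1 < q := hF ▸ Fintype.one_lt_card
  have hpq : ¬ p ∣ q := not_dvd_of_orderOf hp hord (by omega)
  have hpF : ¬ p ∣ Fintype.card F := by rwa [hF]
  have hQ : (polarBilin (quadPlus m F)).Nondegenerate := quadPlus_nondegenerate
  have hdim : Fintype.card (Fin m ⊕ Fin m) = 2 * m := by
    simp only [Fintype.card_sum, Fintype.card_fin]
    omega
  have hd : finrank F (Fin m ⊕ Fin m → F) = 2 * m := by rw [finrank_pi_fin, hdim]
  have he : orderOf ((Fintype.card F : ℕ) : ZMod p) = 2 * (m - 1) := by rw [hF, hord]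
  have h2e : finrank F (Fin m ⊕ Fin m → F) < 2 * orderOf ((Fintype.card F : ℕ) : ZMod p) := by
    rw [he, hd]
    omega
  set φ := matRep (omHom (⇑(quadPlus m F))) with hφdef
  have hφ : Function.Injective φ := matRep_injective (omHom_injective _)
  have hφQ : ∀ g v, quadPlus m F (φ g v) = quadPlus m F v := fun g v => omHom_preserves _ g v
  have hφB : ∀ g u v, polar (⇑(quadPlus m F)) (φ g u) (φ g v) = polar (⇑(quadPlus m F)) u v :=
    fun g u v => omHom_polar _ g u v
  have hx : φ y ^ p ^ a = 1 := by rw [← map_pow, ← hy, pow_orderOf_eq_one, map_one]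
  have hx1 : φ y ≠ 1 := by
    intro h
    have h1 : y = 1 := hφ (by rw [h, map_one])
    rw [h1, orderOf_one] at hy
    exact (Nat.one_lt_pow (by omega) hp.one_lt).ne hy
  have hpF' : ((p ^ a : ℕ) : F) ≠ 0 := by
    rw [Nat.cast_pow]
    exact pow_ne_zero _ (cast_ne_zero_of_not_dvd hp hpF)
  have hC : finrank F (fixS (φ y)) = 2 := by
    have := finrank_fixS_add hp hpF hx hx1 he (by rw [hd]; omega)
    omega
  rcases bot_or_isotropic φ hφ (frm_polar hQ) hφB hp hpF h2e ha hy hyM hℓ hℓF hn hP with h | ⟨W, hW, hWC, hiso, hWM, hWU⟩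
  · exact h
  -- a vector of `W`
  obtain ⟨w, hw, hw0⟩ := (Submodule.ne_bot_iff W).1 hW
  have hww : polar (⇑(quadPlus m F)) w w = 0 := hiso w hw w hw
  have hQw : quadPlus m F w ≠ 0 := fun h => hw0 (aniso hF hm hp hp5 hord hx hx1 (fun v => hφQ y v) (hWC hw) h)
  obtain ⟨c, hc, hwc⟩ : ∃ c ∈ fixS (φ y), polar (⇑(quadPlus m F)) w c ≠ 0 := by
    by_contra hcon
    push Not at hcon
    exact hw0 (eq_zero_of_fix (frm_polar hQ) hpF' hx (hφB y) (hWC hw) hcon)
  -- the orthogonal space
  set H : Submodule F (Fin m ⊕ Fin m → F) := perp (frm_polar hQ) W with hHdef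
  have hmemH : ∀ v, v ∈ H ↔ ∀ x ∈ W, polar (⇑(quadPlus m F)) x v = 0 := fun v => Iff.rfl
  have hWH : W ≤ H := fun v hv x hx => hiso x hx v hv
  have hcH : c ∉ H := fun h => hwc (h w hw)
  -- `W` has dimension one
  have hfinW : finrank F W = 1 := by
    have h1 : finrank F W ≤ 2 := hC ▸ Submodule.finrank_mono hWC
    have h2 : finrank F W ≠ 0 := fun h => hW (Submodule.finrank_eq_zero.1 h)
    have h3 : finrank F W ≠ 2 := by
      intro h3
      have h4 : W = fixS (φ y) := Submodule.eq_of_le_of_finrank_le hWC (by omega)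
      rw [← h4] at hc
      exact hcH (hWH hc)
    omega
  have hWw : ∀ v ∈ W, ∃ t : F, v = t • w := by
    intro v hv
    have h1 := (finrank_eq_one_iff_of_nonzero' (⟨w, hw⟩ : W) (fun h => hw0 (congrArg Subtype.val h))).1 hfinW ⟨v, hv⟩
    obtain ⟨t, ht⟩ := h1
    exact ⟨t, (congrArg Subtype.val ht).symm⟩
  have hfinH : finrank F H + 1 = 2 * m := by
    have h1 := finrank_perp (frm_polar hQ) W
    rw [hfinW, hd] at h1
    have h2 : finrank F H < finrank F (Fin m ⊕ Fin m → F) := Submodule.finrank_lt (fun h => hcH (by rw [h]; trivial))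
    rw [hd] at h2
    have h3 : finrank F (perp (frm_polar hQ) W) = finrank F H := rfl
    omega
  have hHinv : ∀ g ∈ M, ∀ v ∈ H, φ g v ∈ H := by
    intro g hg
    refine perp_invariant (g' := φ g⁻¹) (hφB g) (fun x => ?_) (hWM g⁻¹ (M.inv_mem hg))
    rw [← Module.End.mul_apply, ← map_mul, mul_inv_cancel, map_one]
    rfl
  have hWfix : ∀ m ∈ P, ∀ v ∈ W, φ m v = v := by
    intro m hm v hv
    rw [hWU] at hv
    exact hv.1 m hm
  -- the vectors fixed modulo `W`
  let H' : Submodule F (Fin m ⊕ Fin m → F) :=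
    { carrier := {v | v ∈ H ∧ ∀ g ∈ P, φ g v - v ∈ W}
      zero_mem' := ⟨H.zero_mem, fun g _ => by rw [map_zero, sub_zero]; exact W.zero_mem⟩
      add_mem' := fun {a b} ha hb => ⟨H.add_mem ha.1 hb.1, fun g hg => by
        have h1 := W.add_mem (ha.2 g hg) (hb.2 g hg)
        rw [map_add]
        convert h1 using 1
        abel⟩
      smul_mem' := fun c a ha => ⟨H.smul_mem c ha.1, fun g hg => by
        rw [map_smul, ← smul_sub]
        exact W.smul_mem c (ha.2 g hg)⟩ }
  have hH'mem : ∀ v, v ∈ H' ↔ v ∈ H ∧ ∀ g ∈ P, φ g v - v ∈ W := fun v => Iff.rfl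
  have hH'H : H' ≤ H := fun v hv => hv.1
  have hWH' : W ≤ H' := fun v hv => ⟨hWH hv, fun g hg => by rw [hWfix g hg v hv, sub_self]; exact W.zero_mem⟩
  have hH'y : ∀ v ∈ H', φ y v ∈ H' := by
    intro v hv
    refine ⟨hHinv y hyM v hv.1, fun g hg => ?_⟩
    have h1 : y⁻¹ * g * y ∈ P := by
      have := hn y⁻¹ (M.inv_mem hyM) g hg
      rwa [inv_inv] at this
    have h2 := hWM y hyM _ (hv.2 _ h1)
    have h3 : φ g (φ y v) - φ y v = φ y (φ (y⁻¹ * g * y) v - v) := by
      rw [map_sub]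
      congr 1
      rw [← Module.End.mul_apply, ← Module.End.mul_apply, ← map_mul, ← map_mul]
      congr 2
      group
    rw [h3]
    exact h2
  obtain ⟨v₀, hv₀, hv₀W, hv₀P⟩ := exists_fix_mod φ hℓ hℓF hP W H (fun m hm v hv => hWM m (hPM hm) v hv)
    (fun m hm v hv => hHinv m (hPM hm) v hv) (by
      intro h
      have := Submodule.finrank_mono h
      omega)
  have hv₀' : v₀ ∈ H' := ⟨hv₀, hv₀P⟩
  have hH'gt : 1 < finrank F H' := by
    rw [← hfinW]
    refine Submodule.finrank_lt_finrank_of_lt (lt_of_le_of_ne hWH' ?_)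
    intro h
    rw [← h] at hv₀'
    exact hv₀W hv₀'
  have hHC : finrank F ↥(H' ⊓ fixS (φ y)) = 1 := by
    have h1 : W ≤ H' ⊓ fixS (φ y) := le_inf hWH' hWC
    have h2 := Submodule.finrank_mono h1
    have h3 : finrank F ↥(H' ⊓ fixS (φ y)) < finrank F (fixS (φ y)) := by
      refine Submodule.finrank_lt_finrank_of_lt (lt_of_le_of_ne inf_le_right ?_)
      intro h
      rw [← h] at hc
      exact hcH (hH'H hc.1)
    omega
  have h1 := finrank_fix hp hpF hx H' hH'y
  rw [hHC, he] at h1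
  have h2 := Nat.le_of_dvd (by omega) h1
  have h3 : finrank F H' ≤ finrank F H := Submodule.finrank_mono hH'H
  have h4 : H' = H := Submodule.eq_of_le_of_finrank_le hH'H (by omega)
  -- `P` acts trivially on `H`
  rw [Subgroup.eq_bot_iff_forall]
  intro g hg
  refine eq_one_of_hyperplane hQ (by omega) ⟨m, by omega⟩ g H (by omega) ?_
  intro v hv
  show φ g v = v
  have h5 : v ∈ H' := by rw [h4]; exact hv
  obtain ⟨t, ht⟩ := hWw _ (h5.2 g hg)
  have h6 : φ g v = v + t • w := by rw [← ht]; abel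
  have h7 := hφQ g v
  rw [h6, QuadraticMap.map_add (quadPlus m F), QuadraticMap.map_smul, polar_smul_right, polar_comm,
    (hmemH v).1 hv w hw, smul_zero, add_zero] at h7
  have h8 : t * t * quadPlus m F w = 0 := by
    have : quadPlus m F v + t * t * quadPlus m F w = quadPlus m F v + 0 := by
      rw [add_zero]
      exact h7
    exact add_left_cancel this
  have h9 : t = 0 := by
    have := (mul_eq_zero.1 h8).resolve_right hQw
    exact mul_self_eq_zero.1 this
  rw [h6, h9, zero_smul, add_zero]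

set_option maxHeartbeats 1600000 in
/-- `PΩ⁺_{2m}(q)`. -/
theorem row_plus_genW {p₀ f g : ℕ} (hg : Cond q f g) (hp₀ : p₀.Prime) (hf : 1 ≤ f) (hq : q = p₀ ^ f)
    (hF : Fintype.card F = q) (hm : 4 ≤ m)
    (hexc : ¬ Exc q (2 * (m - 1))) : RowW g (Cfsg.POmega F (Cfsg.quadFormPlus m F)) := by
  have hq1 : 1 < q := hF ▸ Fintype.one_lt_card
  obtain ⟨p, k, ⟨hp, hp5, hk, hord, hdvd, hdvd', hpf⟩, hs⟩ := exists_pack (e := 2 * (m - 1)) hp₀ hf hq (by omega) hexc
  have hpq : ¬ p ∣ q := not_dvd_of_orderOf hp hord (by omega)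
  have hcard := Cfsg.Agent.S0293.result hF m hm
  have hdim : Fintype.card (Fin m ⊕ Fin m) = 2 * m := by
    simp only [Fintype.card_sum, Fintype.card_fin]
    omega
  have hd : finrank F (Fin m ⊕ Fin m → F) = 2 * m := by rw [finrank_pi_fin, hdim]
  rw [← coe_quadPlus] at hcard ⊢
  have hQ : (polarBilin (quadPlus m F)).Nondegenerate := quadPlus_nondegenerate
  refine row_orth_ofW hQ (by omega) (quadPlus_isotropic (by omega)) hp hp5 hk (hg p hp hp5 hpf (by omega))
    ?_ ?_ (by rwa [hF])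
    (by rw [hd, hF, hord]; omega) (by rw [hF, hd]; exact Or.inl (hs _ (by omega))) ?_ ?_
  · refine pow_dvd_of_dvd_four_mul hp (by omega) (Nat.gcd_dvd_left 4 (q ^ m - 1)) ?_
    rw [hcard]
    exact Dvd.dvd.mul_left (hdvd.trans (dvd_prod_factor (by omega) le_rfl)) _
  · intro h3
    have h4 : p ^ (k + 1) ∣ q ^ (m * (m - 1)) * (q ^ m - 1) * ∏ i ∈ Finset.range (m - 1), (q ^ (2 * (i + 1)) - 1) := by
      rw [← hcard]
      exact Dvd.dvd.mul_left h3 _
    refine not_pow_dvd_mul_of_not_dvd hp ?_ ?_ h4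
    · intro h5
      rcases (Nat.Prime.dvd_mul hp).1 h5 with h6 | h6
      · exact not_dvd_pow hp hpq h6
      · exact not_dvd_of_lt (by omega) hord (by omega) (by omega) h6
    · refine not_pow_dvd_prod hp (Finset.range (m - 1)) _ (m - 2) ?_ ?_ (Finset.mem_range.2 (by omega))
      · have : m - 2 + 1 = m - 1 := by omega
        rw [this]
        exact hdvd'
      · intro i hi hi'
        have := Finset.mem_range.1 hi
        exact not_dvd_of_lt (by omega) hord (by omega) (by omega)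
  · intro y hy
    exact core_plus hF hm hp hp5 hk hord hy
  · intro y hy
    by_cases hpe : p = 2 * (m - 1) + 1
    · right
      obtain ⟨s, hs', hf'⟩ := Lib.Zsigmondy.exists_prime_orderOf (a := q) (n := 2 * (m - 2)) (by omega) (by omega)
        (fun h => by omega) (fun h => by
          obtain rfl : m = 5 := by omega
          norm_num at hpe
          rw [hpe] at hp
          exact absurd hp (by norm_num))
      have hsn := lt_prime hs' hf' (by omega)
      have hsp : s ≠ p := by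
        rintro rfl
        omega
      refine ⟨s, hs', hsp, ?_, sep_orth _ hF hdim hp hs' hord hf' (by omega) (by omega) (by omega) (by omega) ?_ ?_ ?_ ?_⟩
      · refine dvd_of_dvd_four_mul hs' (by omega) (Nat.gcd_dvd_left 4 (q ^ m - 1)) ?_
        rw [hcard]
        exact Dvd.dvd.mul_left ((dvd_pow_sub_one hq1.le hf').trans (dvd_prod_factor (by omega) (by omega))) _
      · intro h
        have h1 : 2 * (m - 2) ∣ 2 * (m - 1) - 2 * (m - 2) := Nat.dvd_sub h dvd_rfl
        have h2 : 2 * (m - 1) - 2 * (m - 2) = 2 := by omega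
        rw [h2] at h1
        have := Nat.le_of_dvd two_pos h1
        omega
      · intro h
        have h1 : s ∣ m - 1 := by
          rcases (Nat.Prime.dvd_mul hs').1 h with h' | h'
          · have := Nat.le_of_dvd two_pos h'
            omega
          · exact h'
        have := Nat.le_of_dvd (by omega) h1
        omega
      · intro h
        have := Nat.le_of_dvd (by omega) h
        omega
      · calc 2 * m < p * 2 := by omega
          _ ≤ p * (2 * (m - 2)) := Nat.mul_le_mul_left p (by omega)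
    · left
      have h3 := mul_le_of_orderOf hp hord (by omega) hpe
      have hy' : orderOf (y ^ p ^ (k - 1)) = p ^ 1 := by rw [orderOf_pow_pred hp hk hy, pow_one]
      refine el_of_size (matRep (omHom _)) (matRep_injective (omHom_injective _)) hp (by omega) le_rfl (by rwa [hF])
        (by rw [hd, hF, hord]; omega) (Or.inl ?_) hy' ?_
      · rw [hd, Nat.sub_self, pow_zero, pow_one]
        omega
      · exact core_plus hF hm hp hp5 le_rfl hord hy'

theorem row_plus_gen {p₀ f g : ℕ} (hg : Cond q f g) (hp₀ : p₀.Prime) (hf : 1 ≤ f) (hq : q = p₀ ^ f)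
    (hF : Fintype.card F = q) (hm : 4 ≤ m)
    (hexc : ¬ Exc q (2 * (m - 1))) : Row g (Cfsg.POmega F (Cfsg.quadFormPlus m F)) :=
  (row_plus_genW hg hp₀ hf hq hF hm hexc).row

theorem row_plus {p₀ f : ℕ} (hp₀ : p₀.Prime) (hf : 1 ≤ f) (hq : q = p₀ ^ f) (hF : Fintype.card F = q) (hm : 4 ≤ m)
    (hexc : ¬ Exc q (2 * (m - 1))) : Row f (Cfsg.POmega F (Cfsg.quadFormPlus m F)) :=
  row_plus_gen (cond_self q f) hp₀ hf hq hF hm hexc

end

end Cfsg.Agent.H518.SU
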