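import Mathlib
import Cfsg.Agent.H465.LinSolv
import Cfsg.Agent.H518.DghpAlg
import Cfsg.Agent.H518.SUPlus

/-!
# Elements of order `p` normalizing `t`-subgroups, `t` odd

A refinement of the linear lemma of `H465.LinSolv` for odd `t`, used for `PΩ⁺₁₂(2)`, `PΩ⁺₁₄(2)`, `PΩ⁺₂₀(2)`.
-/

set_option autoImplicit false

namespace Cfsg.Agent.H518.SU

open Module Cfsg.Agent.H465.LinSolv Cfsg.Agent.H465.Weights Cfsg.Agent.H465.Bounds

universe u v w

variable {F : Type u} [Field F] [Fintype F] {G : Type v} [Group G] [Finite G]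

/-- The arithmetic of the nonabelian case for odd `t`. -/
theorem arith_odd {p t' c d k t n : ℕ} (hp : p.Prime) (hp2 : p ≠ 2) (ht2 : t ≠ 2) (ht : t.Prime)
    (h1 : t' * c = p) (h2 : p ∣ c) (h3 : c ∣ d * d - 1) (h4 : t' * d ≤ n) (h5 : d * d ∣ t ^ k) (h6 : d ≠ 1)
    (hn : n < 2 * p - 1) : False := by
  have hd0 : d ≠ 0 := by
    rintro rfl
    rw [zero_mul, zero_dvd_iff] at h5
    exact pow_ne_zero _ ht.ne_zero h5
  have ht' : t' ≠ 0 := by
    rintro rfl
    rw [zero_mul] at h1
    exact hp.ne_zero h1.symm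
  have hdn : d ≤ n := (Nat.le_mul_of_pos_left d (Nat.pos_of_ne_zero ht')).trans h4
  have hodd : Odd d := by
    have h7 : d ∣ t ^ k := (Dvd.intro _ rfl).trans h5
    exact ((ht.odd_of_ne_two ht2).pow).of_dvd_nat h7
  have hpodd : Odd p := hp.odd_of_ne_two hp2
  obtain ⟨e, he⟩ := hodd
  obtain ⟨l, hl⟩ := hpodd
  have h7 : p ∣ (d - 1) * (d + 1) := by
    have h8 : (d - 1) * (d + 1) = d * d - 1 := by
      subst he
      have : 2 * e + 1 - 1 = 2 * e := by omega
      rw [this]
      have : (2 * e + 1) * (2 * e + 1) = 2 * e * (2 * e + 1 + 1) + 1 := by ring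
      omega
    rw [h8]
    exact h2.trans h3
  rcases (Nat.Prime.dvd_mul hp).1 h7 with h8 | h8
  · have h9 : p ∣ 2 * e := by
      have : d - 1 = 2 * e := by omega
      rwa [this] at h8
    have h10 : p ∣ e := by
      rcases (Nat.Prime.dvd_mul hp).1 h9 with h | h
      · exact absurd ((Nat.prime_dvd_prime_iff_eq hp Nat.prime_two).1 h) hp2
      · exact h
    have h11 := Nat.le_of_dvd (by omega) h10
    omega
  · have h9 : p ∣ 2 * (e + 1) := by
      have : d + 1 = 2 * (e + 1) := by omega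
      rwa [this] at h8
    have h10 : p ∣ e + 1 := by
      rcases (Nat.Prime.dvd_mul hp).1 h9 with h | h
      · exact absurd ((Nat.prime_dvd_prime_iff_eq hp Nat.prime_two).1 h) hp2
      · exact h
    have h11 := Nat.le_of_dvd (by omega) h10
    omega

/-- **The linear lemma for odd `t`.** -/
theorem centralize_odd {n : ℕ} (ρ₀ : G →* Matrix (Fin n) (Fin n) F) (hρ₀ : Function.Injective ρ₀) {p t : ℕ}
    (hp : p.Prime) (hp2 : p ≠ 2) (ht : t.Prime) (ht2 : t ≠ 2) (htp : t ≠ p) (htF : (t : F) ≠ 0) {y : G}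
    (hy : orderOf y = p) {T : Subgroup G} (hT : IsPGroup t T) (hyT : ∀ u ∈ T, y * u * y⁻¹ ∈ T)
    (hn1 : n < 2 * p - 1) (hn2 : n < p * orderOf ((Fintype.card F : ℕ) : ZMod t))
    (hpg : ¬ p ∣ orderOf ((Fintype.card F : ℕ) : ZMod t)) : ∀ u ∈ T, y * u = u * y := by
  classical
  have : Fact p.Prime := ⟨hp⟩
  have : Fact t.Prime := ⟨ht⟩
  by_contra hcon
  have hy1p : y ^ p = 1 := by rw [← hy, pow_orderOf_eq_one]
  obtain ⟨R, hRT, hyR, hcase⟩ := exists_min htp (y := y) (y1 := y) (Subgroup.mem_zpowers y) hy1p hT hyT hcon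
  have hyN : y ∈ Subgroup.normalizer (R : Set G) := by
    rw [Subgroup.mem_normalizer_iff_map_conj_eq]
    refine Subgroup.eq_of_le_of_card_ge ?_ (le_of_eq (Subgroup.card_map_of_injective
      (K := R) (MulAut.conj y).injective).symm)
    rintro _ ⟨x, hx, rfl⟩
    exact hyR x hx
  obtain ⟨k, hk⟩ := IsPGroup.iff_card.1 (hT.to_le hRT)
  rcases hcase with ⟨hab, hfix, u0, hu0, hne⟩ | ⟨hZ, hfix, u0, hu0, v0, hv0, hne⟩
  · -- the abelian case
    have hlin : Function.Injective (((Matrix.toLinAlgEquiv' : Matrix (Fin n) (Fin n) F ≃ₐ[F] _) :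
        Matrix (Fin n) (Fin n) F →* ((Fin n → F) →ₗ[F] (Fin n → F))).comp ρ₀) :=
      (Matrix.toLinAlgEquiv'.injective).comp hρ₀
    let N : Subgroup G :=
      { carrier := {a | a ∈ R ∧ a ^ t = 1}
        one_mem' := ⟨R.one_mem, one_pow t⟩
        mul_mem' := fun {a b} ha hb => ⟨R.mul_mem ha.1 hb.1, by
          rw [(show Commute a b from hab a ha.1 b hb.1).mul_pow, ha.2, hb.2, one_mul]⟩
        inv_mem' := fun {a} ha => ⟨R.inv_mem ha.1, by rw [inv_pow, ha.2, inv_one]⟩ }
    have hN := Cfsg.Agent.H518.DghpAlg.centralizes_of_normalizes _ hlin N ht htF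
      (fun a ha b hb => hab a ha.1 b hb.1) (fun a ha => ha.2) y (fun a ha => ⟨hyR a ha.1, by
        have : (y * a * y⁻¹) ^ t = y * a ^ t * y⁻¹ := _root_.conj_pow
        rw [this, ha.2, mul_one, mul_inv_cancel]⟩) (ℓ := p) (k := 1) hp (by rw [pow_one]; exact hy1p) hpg (by
        rw [Module.finrank_fin_fun]
        exact hn2)
    -- an element of order `t`
    have hRt : t ∣ Nat.card R := by
      rcases (hT.to_le hRT).card_eq_or_dvd with h | h
      · rw [Subgroup.card_eq_one] at h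
        rw [h, Subgroup.mem_bot] at hu0
        exact absurd hu0 hne
      · exact h
    obtain ⟨r, hr⟩ := exists_prime_orderOf_dvd_card' t hRt
    have hr' : orderOf (r : G) = t := by rw [Subgroup.orderOf_coe, hr]
    have h1 := hN r ⟨r.2, by rw [← hr', pow_orderOf_eq_one]⟩
    have h2 : (r : G) = 1 := hfix r r.2 (mul_inv_eq_iff_eq_mul.1 h1)
    rw [h2, orderOf_one] at hr'
    exact ht.one_lt.ne hr'
  · -- the nonabelian case
    set ρ : G →* End (AlgebraicClosure F) (Fin n → AlgebraicClosure F) := (bc F n).comp ρ₀ with hρdef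
    have hρ : Function.Injective ρ := (bc_injective n).comp hρ₀
    have hRK : (Nat.card R : AlgebraicClosure F) ≠ 0 := by
      rw [hk, Nat.cast_pow]
      refine pow_ne_zero k ?_
      intro h
      apply htF
      apply (algebraMap F (AlgebraicClosure F)).injective
      rw [map_natCast, map_zero]
      exact h
    have hcop : p.Coprime (Nat.card R) := by
      rw [hk]
      exact Nat.Coprime.pow_right k ((Nat.coprime_primes hp ht).2 htp.symm)
    set H := Subgroup.normalizer (R : Set G) with hH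
    have hRH : R ≤ H := Subgroup.le_normalizer
    have hRn : (R.subgroupOf H).Normal := Subgroup.normal_in_normalizer
    let ρ' : H →* End (AlgebraicClosure F) (Fin n → AlgebraicClosure F) := ρ.comp H.subtype
    have hcard : Nat.card (R.subgroupOf H) = Nat.card R := Nat.card_congr (Subgroup.subgroupOfEquivOfLe hRH).toEquiv
    have hZc : ∀ u : H, u ∈ Zc (R.subgroupOf H) ↔ (u : G) ∈ Zc R := by
      intro u
      rw [mem_Zc, mem_Zc, Subgroup.mem_subgroupOf]
      refine and_congr_right fun _ => ⟨fun h v hv => ?_, fun h v hv => ?_⟩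
      · exact congrArg Subtype.val (h ⟨v, hRH hv⟩ (Subgroup.mem_subgroupOf.2 hv))
      · exact Subtype.ext (h v (Subgroup.mem_subgroupOf.1 hv))
    obtain ⟨t', c, d, h1, h2, h3, h4, h5, h6⟩ := nonabelian_bound ρ' (R.subgroupOf H) (by rw [hcard]; exact hRK)
      (p := p) (a := 1) (y := ⟨y, hyN⟩) (by rw [pow_one, ← hy, ← Subgroup.orderOf_coe]) le_rfl
      (by rw [hcard]; exact hcop)
      (by
        intro u hu v hv
        rw [hZc]
        exact hZ u (Subgroup.mem_subgroupOf.1 hu) v (Subgroup.mem_subgroupOf.1 hv))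
      (by
        intro u hu
        rw [hZc, ← hfix u (Subgroup.mem_subgroupOf.1 hu), Nat.sub_self, pow_zero, pow_one]
        exact ⟨fun h => congrArg Subtype.val h, fun h => Subtype.ext h⟩)
      ⟨⟨u0, hRH hu0⟩, Subgroup.mem_subgroupOf.2 hu0, ⟨v0, hRH hv0⟩, Subgroup.mem_subgroupOf.2 hv0, fun h =>
        hne (hρ (by rw [map_one]; exact h))⟩
    rw [hcard, hk] at h5
    rw [pow_one] at h1
    rw [Module.finrank_fin_fun] at h4
    exact arith_odd hp hp2 ht2 ht h1 h2 h3 h4 h5 h6 hn1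

end Cfsg.Agent.H518.SU
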