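import Mathlib
import Cfsg.Agent.H518.SUOdd

/-!
# Solvably unique elements of `PΩ⁺₁₂(2)`, `PΩ⁺₁₄(2)`, `PΩ⁺₂₀(2)`
-/

set_option autoImplicit false

namespace Cfsg.Agent.H518.SU

open Module Cfsg.Agent.H518.DghpFix Cfsg.Agent.H518.DghpPrim Cfsg.Agent.H518.DghpMat QuadraticMap
open Cfsg.Agent.LieClassical.OmegaReindex

universe u v w

section

variable {F : Type u} [Field F] [Fintype F] {V : Type v} [AddCommGroup V] [Module F V] [FiniteDimensional F V]
  {G : Type w} [Group G] [Finite G]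

/-- The linear lemma for odd `t` in the form used here. -/
theorem centralize_odd_rep (φ : G →* (V →ₗ[F] V)) (hφ : Function.Injective φ) {p t : ℕ} (hp : p.Prime)
    (hp2 : p ≠ 2) (ht : t.Prime) (ht2 : t ≠ 2) (htp : t ≠ p) (htF : (t : F) ≠ 0) {y : G}
    (hy : orderOf y = p) {T : Subgroup G} (hT : IsPGroup t T) (hyT : ∀ u ∈ T, y * u * y⁻¹ ∈ T)
    (hn1 : finrank F V < 2 * p - 1) (hn2 : finrank F V < p * orderOf ((Fintype.card F : ℕ) : ZMod t))
    (hpg : ¬ p ∣ orderOf ((Fintype.card F : ℕ) : ZMod t)) : ∀ u ∈ T, y * u = u * y := by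
  let b := Module.finBasis F V
  let ψ : (V →ₗ[F] V) →* Matrix (Fin (finrank F V)) (Fin (finrank F V)) F :=
    ((LinearMap.toMatrixAlgEquiv b : _ ≃ₐ[F] _) : (V →ₗ[F] V) →* _)
  have hψ : Function.Injective ψ := (LinearMap.toMatrixAlgEquiv b).injective
  exact centralize_odd (ψ.comp φ) (hψ.comp hφ) hp hp2 ht ht2 htp htF hy hT hyT hn1 hn2 hpg

end

section

variable {ι : Type} [Fintype ι] [DecidableEq ι] {F : Type} [Field F] [Fintype F]

/-- The general orthogonal row, with the centralization condition. -/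
theorem row_orth_centW {Q : QuadraticForm F (ι → F)} (hQ : (polarBilin Q).Nondegenerate)
    (hn : 3 ≤ Fintype.card ι) (hs : ∃ u : ι → F, u ≠ 0 ∧ Q u = 0) {p a f : ℕ} (hp : p.Prime) (hp5 : 5 ≤ p)
    (ha : 1 ≤ a) (hpf : ¬ p ∣ f) (h1 : p ^ a ∣ Nat.card (Cfsg.POmega F (⇑Q)))
    (h2 : ¬ p ^ (a + 1) ∣ Nat.card (Cfsg.POmega F (⇑Q))) (hpF : ¬ p ∣ Fintype.card F)
    (h2e : finrank F (ι → F) < 2 * orderOf ((Fintype.card F : ℕ) : ZMod p))
    (hcent : ∀ y : Cfsg.Omega F (⇑Q), orderOf y = p ^ a → ∀ (T : Subgroup (Cfsg.Omega F (⇑Q))) (t : ℕ), t.Prime →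
      t ≠ p → ¬ t ∣ Fintype.card F → IsPGroup t T →
      (∀ u ∈ T, y * u * y⁻¹ ∈ T) → ∀ u ∈ T, y ^ p ^ (a - 1) * u = u * y ^ p ^ (a - 1))
    (hcore : ∀ y : Cfsg.Omega F (⇑Q), orderOf y = p ^ a → ∀ M : Subgroup (Cfsg.Omega F (⇑Q)),
      Group.IsSolvable M → y ∈ M → ∀ ℓ : ℕ, ℓ.Prime →
      ℓ ∣ Fintype.card F → ∀ P : Subgroup (Cfsg.Omega F (⇑Q)), P ≤ M → (∀ g ∈ M, ∀ n ∈ P, g * n * g⁻¹ ∈ P) →
      IsPGroup ℓ P → P = ⊥)
    (hw : ∀ y : Cfsg.Omega F (⇑Q), orderOf y = p ^ a → El p y → El p (y ^ p ^ (a - 1)) ∨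
      ∃ s, s.Prime ∧ s ≠ p ∧ s ∣ Nat.card (Cfsg.POmega F (⇑Q)) ∧ Dghp.Sep (Cfsg.Omega F (⇑Q)) p s) :
    RowW f (Cfsg.POmega F (⇑Q)) := by
  have hc := not_dvd_center_omega hQ hn hs hp (by omega)
  have hcard : Nat.card (Cfsg.Omega F (⇑Q)) =
      Nat.card (Cfsg.POmega F (⇑Q)) * Nat.card (Subgroup.center (Cfsg.Omega F (⇑Q))) :=
    Subgroup.card_eq_card_quotient_mul_card_subgroup _
  have hG : p ^ a ∣ Nat.card (Cfsg.Omega F (⇑Q)) := by
    rw [hcard]
    exact Dvd.dvd.mul_right h1 _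
  have hG' : ¬ p ^ (a + 1) ∣ Nat.card (Cfsg.Omega F (⇑Q)) := by
    rw [hcard, mul_comm]
    exact not_pow_dvd_mul_of_not_dvd hp hc h2
  obtain ⟨y, hy⟩ := exists_orderOf hp (by omega) (commuting_of_rep (matRep (omHom (⇑Q)))
    (matRep_injective (omHom_injective _)) hp hpF h2e) hG
  have hel := el_of_rep (matRep (omHom (⇑Q))) (matRep_injective (omHom_injective _)) hp
    ha hpF h2e hy (hcent y hy) (hcore y hy)
  exact row_center_W hp hp5 ha hpf hG' hy hel (hw y hy hel) hc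

end

section

variable {F : Type} [Field F] [Fintype F] {m : ℕ}

/-- The general result for `PΩ⁺_{2m}(2)`, `p = 2m - 1` of order `p - 1`. -/
theorem row_plus_two_ofW {g : ℕ} (hg : Cond 2 1 g) (hF : Fintype.card F = 2) (hm : 4 ≤ m) {p : ℕ} (hp : p.Prime)
    (hpm : p = 2 * m - 1)
    (hord : orderOf ((2 : ℕ) : ZMod p) = 2 * (m - 1)) (hdvd' : ¬ p ^ 2 ∣ 2 ^ (2 * (m - 1)) - 1) :
    RowW g (Cfsg.POmega F (Cfsg.quadFormPlus m F)) := by
  have hpq : ¬ p ∣ 2 := not_dvd_of_orderOf hp hord (by omega)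
  have hcard := Cfsg.Agent.S0293.result hF m hm
  have hdim : Fintype.card (Fin m ⊕ Fin m) = 2 * m := by
    simp only [Fintype.card_sum, Fintype.card_fin]
    omega
  have hd : finrank F (Fin m ⊕ Fin m → F) = 2 * m := by rw [finrank_pi_fin, hdim]
  have hdvd : p ∣ 2 ^ (2 * (m - 1)) - 1 := dvd_pow_sub_one (by omega) hord
  rw [← coe_quadPlus] at hcard ⊢
  have hQ : (polarBilin (quadPlus m F)).Nondegenerate := quadPlus_nondegenerate
  have hs : ∃ u : Fin m ⊕ Fin m → F, u ≠ 0 ∧ quadPlus m F u = 0 := quadPlus_isotropic (by omega)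
  refine row_orth_centW (a := 1) hQ (by omega) hs hp (by omega) le_rfl
    (hg p hp (by omega) (fun h => hp.one_lt.ne' (Nat.dvd_one.1 h)) (by omega)) ?_ ?_ (by rwa [hF])
    (by rw [hd, hF, hord]; omega) ?_ ?_ (fun y _ hel => Or.inl (by rwa [Nat.sub_self, pow_zero, pow_one]))
  · rw [pow_one]
    have h1 : p ^ 1 ∣ Nat.card (Cfsg.POmega F (⇑(quadPlus m F))) := by
      refine pow_dvd_of_dvd_four_mul hp (by omega) (Nat.gcd_dvd_left 4 (2 ^ m - 1)) ?_
      rw [hcard, pow_one]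
      exact Dvd.dvd.mul_left (hdvd.trans (dvd_prod_factor (by omega) le_rfl)) _
    rwa [pow_one] at h1
  · intro h3
    have h4 : p ^ (1 + 1) ∣ 2 ^ (m * (m - 1)) * (2 ^ m - 1) * ∏ i ∈ Finset.range (m - 1), (2 ^ (2 * (i + 1)) - 1) := by
      rw [← hcard]
      exact Dvd.dvd.mul_left h3 _
    refine not_pow_dvd_mul_of_not_dvd hp ?_ ?_ h4
    · intro h5
      rcases (Nat.Prime.dvd_mul hp).1 h5 with h6 | h6
      · exact not_dvd_pow hp hpq h6
      · exact not_dvd_of_lt (by omega) hord (by omega) (by omega) h6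
    · refine not_pow_dvd_prod hp (Finset.range (m - 1)) _ (m - 2) ?_ ?_ (Finset.mem_range.2 (by omega))
      · have : m - 2 + 1 = m - 1 := by omega
        rw [this]
        exact hdvd'
      · intro i hi hi'
        have := Finset.mem_range.1 hi
        exact not_dvd_of_lt (by omega) hord (by omega) (by omega)
  · -- the centralization
    intro y hy T t ht htp htF hT hyT u hu
    rw [pow_one] at hy
    rw [Nat.sub_self, pow_zero, pow_one]
    by_cases hTbot : T = ⊥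
    · rw [hTbot, Subgroup.mem_bot] at hu
      rw [hu, mul_one, one_mul]
    have : Fact t.Prime := ⟨ht⟩
    have ht2 : t ≠ 2 := by
      rintro rfl
      exact htF (by rw [hF])
    have htΩ : t ∣ Nat.card (Cfsg.Omega F (⇑(quadPlus m F))) := by
      rcases hT.card_eq_or_dvd with h | h
      · exact absurd (Subgroup.card_eq_one.1 h) hTbot
      · exact h.trans (Subgroup.card_subgroup_dvd_card T)
    have hcard2 : Nat.card (Cfsg.Omega F (⇑(quadPlus m F))) =
        Nat.card (Cfsg.POmega F (⇑(quadPlus m F))) * Nat.card (Subgroup.center (Cfsg.Omega F (⇑(quadPlus m F)))) :=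
      Subgroup.card_eq_card_quotient_mul_card_subgroup _
    have htP : t ∣ Nat.card (Cfsg.POmega F (⇑(quadPlus m F))) := by
      rw [hcard2] at htΩ
      exact ((Nat.Prime.dvd_mul ht).1 htΩ).resolve_right (not_dvd_center_omega hQ (by omega) hs ht ht2)
    have htprod : t ∣ 2 ^ (m * (m - 1)) * (2 ^ m - 1) * ∏ i ∈ Finset.range (m - 1), (2 ^ (2 * (i + 1)) - 1) := by
      rw [← hcard]
      exact Dvd.dvd.mul_left htP _
    -- the order of `2` modulo `t`
    have htq : ¬ t ∣ 2 := fun h => ht2 ((Nat.prime_dvd_prime_iff_eq ht Nat.prime_two).1 h)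
    obtain ⟨j, hj, hjm, hjt⟩ : ∃ j, 0 < j ∧ j ≤ 2 * (m - 1) ∧ t ∣ 2 ^ j - 1 := by
      rcases (Nat.Prime.dvd_mul ht).1 htprod with h | h
      · rcases (Nat.Prime.dvd_mul ht).1 h with h | h
        · exact absurd h (not_dvd_pow ht htq)
        · exact ⟨m, by omega, by omega, h⟩
      · obtain ⟨i, hi, h'⟩ := (Prime.dvd_finsetProd_iff ht.prime _).1 h
        have := Finset.mem_range.1 hi
        exact ⟨2 * (i + 1), by omega, by omega, h'⟩
    have hle : orderOf ((2 : ℕ) : ZMod t) ≤ 2 * (m - 1) := by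
      have h1 := (Lib.Zsigmondy.dvd_pow_sub_one_iff (r := t) (by omega : 1 ≤ 2) j).1 hjt
      exact (Nat.le_of_dvd hj h1).trans hjm
    have hpos : 0 < orderOf ((2 : ℕ) : ZMod t) := by
      have h1 := (Lib.Zsigmondy.dvd_pow_sub_one_iff (r := t) (by omega : 1 ≤ 2) j).1 hjt
      exact Nat.pos_of_dvd_of_pos h1 hj
    have hne1 : orderOf ((2 : ℕ) : ZMod t) ≠ 1 := by
      intro h
      have h1 := dvd_pow_sub_one (by omega : 1 ≤ 2) h
      rw [pow_one] at h1
      exact ht.one_lt.ne' (Nat.dvd_one.1 h1)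
    refine centralize_odd_rep (matRep (omHom (⇑(quadPlus m F)))) (matRep_injective (omHom_injective _)) hp (by omega)
      ht ht2 htp (cast_ne_zero_of_not_dvd ht htF) hy hT hyT (by rw [hd]; omega) ?_ ?_ u hu
    · rw [hd, hF]
      have : p * 2 ≤ p * orderOf ((2 : ℕ) : ZMod t) := Nat.mul_le_mul_left p (by omega)
      omega
    · rw [hF]
      intro h
      have := Nat.le_of_dvd hpos h
      omega
  · intro y hy
    exact core_plus hF hm hp (by omega) le_rfl hord hy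

/-- `PΩ⁺₁₂(2)`. -/
theorem row_plus_two_sixW {g : ℕ} (hg : Cond 2 1 g) (hF : Fintype.card F = 2) :
    RowW g (Cfsg.POmega F (Cfsg.quadFormPlus 6 F)) :=
  row_plus_two_ofW hg (p := 11) hF (by omega) (by norm_num) rfl
    (orderOf_eq_of (by norm_num) (by norm_num) (by norm_num) fun i h1 h2 => by
      have : i ≤ 9 := by omega
      interval_cases i <;> norm_num) (by norm_num)

/-- `PΩ⁺₁₄(2)`. -/
theorem row_plus_two_sevenW {g : ℕ} (hg : Cond 2 1 g) (hF : Fintype.card F = 2) :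
    RowW g (Cfsg.POmega F (Cfsg.quadFormPlus 7 F)) :=
  row_plus_two_ofW hg (p := 13) hF (by omega) (by norm_num) rfl
    (orderOf_eq_of (by norm_num) (by norm_num) (by norm_num) fun i h1 h2 => by
      have : i ≤ 11 := by omega
      interval_cases i <;> norm_num) (by norm_num)

/-- `PΩ⁺₂₀(2)`. -/
theorem row_plus_two_tenW {g : ℕ} (hg : Cond 2 1 g) (hF : Fintype.card F = 2) :
    RowW g (Cfsg.POmega F (Cfsg.quadFormPlus 10 F)) :=
  row_plus_two_ofW hg (p := 19) hF (by omega) (by norm_num) rfl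
    (orderOf_eq_of (by norm_num) (by norm_num) (by norm_num) fun i h1 h2 => by
      have : i ≤ 17 := by omega
      interval_cases i <;> norm_num) (by norm_num)

end

/-- `PΩ⁺_{2m}(q)`, `(m, q) ≠ (4, 2), (4, 3), (4, 5)`. -/
theorem row_plus'_genW {F : Type} [Field F] [Fintype F] {m q p₀ f g : ℕ} (hg : Cond q f g) (hp₀ : p₀.Prime)
    (hf : 1 ≤ f) (hq : q = p₀ ^ f) (hF : Fintype.card F = q) (hm : 4 ≤ m)
    (h2 : ¬ (q = 2 ∧ m = 4)) (h3 : ¬ (q = 3 ∧ m = 4)) (h5 : ¬ (q = 5 ∧ m = 4)) :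
    RowW g (Cfsg.POmega F (Cfsg.quadFormPlus m F)) := by
  by_cases hexc : Exc q (2 * (m - 1))
  · have hf1 : f = 1 := by
      by_contra hcon
      have hpr : q.Prime := by
        rcases hexc with ⟨rfl, _⟩ | ⟨rfl, _⟩ | ⟨rfl, _⟩ <;> norm_num
      rw [hq] at hpr
      exact hcon (hpr.eq_one_of_pow)
    subst hf1
    rcases hexc with ⟨rfl, h⟩ | ⟨rfl, h⟩ | ⟨rfl, h⟩
    · rcases h with h | h | h | h | h
      · omega
      · omega
      · obtain rfl : m = 6 := by omega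
        exact row_plus_two_sixW hg hF
      · obtain rfl : m = 7 := by omega
        exact row_plus_two_sevenW hg hF
      · obtain rfl : m = 10 := by omega
        exact row_plus_two_tenW hg hF
    · omega
    · omega
  · exact row_plus_genW hg hp₀ hf hq hF hm hexc

theorem row_plus'_gen {F : Type} [Field F] [Fintype F] {m q p₀ f g : ℕ} (hg : Cond q f g) (hp₀ : p₀.Prime)
    (hf : 1 ≤ f) (hq : q = p₀ ^ f) (hF : Fintype.card F = q) (hm : 4 ≤ m)
    (h2 : ¬ (q = 2 ∧ m = 4)) (h3 : ¬ (q = 3 ∧ m = 4)) (h5 : ¬ (q = 5 ∧ m = 4)) :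
    Row g (Cfsg.POmega F (Cfsg.quadFormPlus m F)) :=
  (row_plus'_genW hg hp₀ hf hq hF hm h2 h3 h5).row

theorem row_plus' {F : Type} [Field F] [Fintype F] {m q p₀ f : ℕ} (hp₀ : p₀.Prime) (hf : 1 ≤ f) (hq : q = p₀ ^ f)
    (hF : Fintype.card F = q) (hm : 4 ≤ m)
    (h2 : ¬ (q = 2 ∧ m = 4)) (h3 : ¬ (q = 3 ∧ m = 4)) (h5 : ¬ (q = 5 ∧ m = 4)) :
    Row f (Cfsg.POmega F (Cfsg.quadFormPlus m F)) :=
  row_plus'_gen (cond_self q f) hp₀ hf hq hF hm h2 h3 h5

end Cfsg.Agent.H518.SU
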