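import Mathlib
import Cfsg.Prelude.Def_Classification2
import Cfsg.Agent.H518.SUPlusTwo
import Cfsg.Agent.H163.PG.Ord
import Cfsg.Agent.H149.PGOGoal

/-!
# Solvably unique elements of the classical simple groups: the table
-/

set_option autoImplicit false

namespace Cfsg.Agent.H518.SU

open Module Cfsg.Agent.H518.DghpFix Cfsg.Agent.H518.DghpPrim Cfsg.Agent.H518.DghpMat

universe u v w

theorem El.congr {G : Type u} {K : Type v} [Group G] [Group K] {p : ℕ} (hp : p.Prime) {y : G} (h : El p y)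
    (e : G ≃* K) : El p (e y) := by
  have hk : (e : G →* K).ker = ⊥ := (MonoidHom.ker_eq_bot_iff _).2 e.injective
  refine h.map hp (e : G →* K) e.surjective ?_ ?_
  · rw [hk]
    infer_instance
  · rw [hk, Subgroup.card_bot]
    exact fun h => hp.one_lt.ne' (Nat.dvd_one.1 h)

theorem Row.congr {G : Type u} {K : Type v} [Group G] [Group K] {f : ℕ} (h : Row f G) (e : G ≃* K) : Row f K := by
  obtain ⟨p, a, hp, hp5, ha, hf, hc, y, hy, hel⟩ := h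
  exact ⟨p, a, hp, hp5, ha, hf, by rwa [← Nat.card_congr e.toEquiv], e y, by rw [MulEquiv.orderOf_eq, hy],
    hel.congr hp e⟩

theorem Row.mono {G : Type u} [Group G] {f g : ℕ} (h : Row f G) (hfg : g ∣ f) : Row g G := by
  obtain ⟨p, a, hp, hp5, ha, hf, hc, y, hy, hel⟩ := h
  exact ⟨p, a, hp, hp5, ha, fun h => hf (h.trans hfg), hc, y, hy, hel⟩

/-- The product is again prime to the primes used. -/
theorem cond_mul {q f : ℕ} (hq : 2 ≤ q) (g : ℕ) (hg : g = 24 * f * (q - 1) ∨ g = 24 * f * (q + 1)) : Cond q f g := by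
  intro p hp hp5 hpf hord h
  have h24 : ¬ p ∣ 24 := by
    intro h1
    have h2 : p ∣ 2 ^ 3 * 3 := h1
    rcases (Nat.Prime.dvd_mul hp).1 h2 with h3 | h3
    · have := (Nat.prime_dvd_prime_iff_eq hp Nat.prime_two).1 (hp.dvd_of_dvd_pow h3)
      omega
    · have := (Nat.prime_dvd_prime_iff_eq hp Nat.prime_three).1 h3
      omega
  have h1 : ¬ p ∣ q - 1 := by
    have := not_dvd_of_lt (q := q) (p := p) (j := 1) (by omega) rfl one_pos (by omega)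
    rwa [pow_one] at this
  have h2 : ¬ p ∣ q + 1 := by
    intro h3
    refine not_dvd_of_lt (q := q) (p := p) (j := 2) (by omega) rfl two_pos (by omega) (h3.trans ?_)
    have h4 : q ^ 2 - 1 = (q + 1) * (q - 1) := by
      have := Nat.sq_sub_sq q 1
      rwa [one_pow] at this
    rw [h4]
    exact Dvd.intro _ rfl
  rcases hg with rfl | rfl
  · rcases (Nat.Prime.dvd_mul hp).1 h with h3 | h3
    · rcases (Nat.Prime.dvd_mul hp).1 h3 with h4 | h4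
      · exact h24 h4
      · exact hpf h4
    · exact h1 h3
  · rcases (Nat.Prime.dvd_mul hp).1 h with h3 | h3
    · rcases (Nat.Prime.dvd_mul hp).1 h3 with h4 | h4
      · exact h24 h4
      · exact hpf h4
    · exact h2 h3

/-- `K` has a solvably unique element for a prime `p ≥ 5` which does not divide `|Out K|`. -/
def RowOut (K : Type*) [Group K] : Prop :=
  ∃ p a, p.Prime ∧ 5 ≤ p ∧ 1 ≤ a ∧ ¬ p ∣ Nat.card (Cfsg.Out K) ∧ ¬ p ^ (a + 1) ∣ Nat.card K ∧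
    ∃ y : K, orderOf y = p ^ a ∧ El p y

/-- `RowOut` with `Wt`. -/
def RowOutW (K : Type*) [Group K] : Prop :=
  ∃ p a, p.Prime ∧ 5 ≤ p ∧ 1 ≤ a ∧ ¬ p ∣ Nat.card (Cfsg.Out K) ∧ ¬ p ^ (a + 1) ∣ Nat.card K ∧
    ∃ y : K, orderOf y = p ^ a ∧ El p y ∧ Wt K p a y

theorem RowOutW.rowOut {K : Type u} [Group K] (h : RowOutW K) : RowOut K := by
  obtain ⟨p, a, hp, hp5, ha, hf, hc, y, hy, hel, -⟩ := h
  exact ⟨p, a, hp, hp5, ha, hf, hc, y, hy, hel⟩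

theorem RowOutW.of_row {K : Type u} [Group K] {g : ℕ} (h : RowW g K) (hg : Nat.card (Cfsg.Out K) ∣ g) :
    RowOutW K := by
  obtain ⟨p, a, hp, hp5, ha, hf, hc, y, hy, hel⟩ := h
  exact ⟨p, a, hp, hp5, ha, fun h => hf (h.trans hg), hc, y, hy, hel⟩

theorem RowOut.of_row {K : Type u} [Group K] {g : ℕ} (h : Row g K) (hg : Nat.card (Cfsg.Out K) ∣ g) : RowOut K :=
  h.mono hg

theorem center_eq_bot_of {G : Type u} {K : Type v} [Group G] [Group K] (e : G ≃* K) (h : Subgroup.center G = ⊥) :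
    Subgroup.center K = ⊥ := by
  rw [Subgroup.eq_bot_iff_forall]
  intro k hk
  have h1 : e.symm k ∈ Subgroup.center G := by
    rw [Subgroup.mem_center_iff]
    intro g
    apply e.injective
    rw [map_mul, map_mul, e.apply_symm_apply]
    exact Subgroup.mem_center_iff.1 hk (e g)
  rw [h, Subgroup.mem_bot] at h1
  have h2 := congrArg e h1
  rwa [e.apply_symm_apply, map_one] at h2

/-- The order of the outer automorphism group is invariant. -/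
theorem card_out_dvd_congr {G : Type u} {K : Type v} [Group G] [Group K] (e : G ≃* K) :
    Nat.card (Cfsg.Out G) = Nat.card (Cfsg.Out K) := by
  refine Nat.card_congr (QuotientGroup.congr _ _ (MulAut.congr e) ?_).toEquiv
  ext x
  constructor
  · rintro ⟨_, ⟨g, rfl⟩, rfl⟩
    refine ⟨e g, ?_⟩
    ext k
    simp [MulAut.congr]
  · rintro ⟨k, rfl⟩
    refine ⟨MulAut.conj (e.symm k), ⟨_, rfl⟩, ?_⟩
    ext l
    simp [MulAut.congr]

theorem RowOut.congr {G : Type u} {K : Type v} [Group G] [Group K] (h : RowOut G) (e : G ≃* K) : RowOut K := by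
  have h1 : Row (Nat.card (Cfsg.Out K)) K := by
    rw [← card_out_dvd_congr e]
    exact Row.congr h e
  exact h1

theorem Wt.congr {G : Type u} {K : Type v} [Group G] [Finite G] [Group K] {p a : ℕ} (hp : p.Prime) {y : G}
    (h : Wt G p a y) (e : G ≃* K) : Wt K p a (e y) := by
  rcases h with h | ⟨s, h1, h2, h3, h4⟩
  · left
    rw [← map_pow]
    exact h.congr hp e
  · refine Or.inr ⟨s, h1, h2, by rwa [← Nat.card_congr e.toEquiv], ?_⟩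
    refine Dghp.Sep.of_surjective h4 e.toMonoidHom e.surjective ?_
    have h5 : e.toMonoidHom.ker = ⊥ := (MonoidHom.ker_eq_bot_iff _).2 e.injective
    rw [h5]
    exact Group.isSolvable_of_comm fun a b => Subsingleton.elim _ _

theorem RowOutW.congr {G : Type u} {K : Type v} [Group G] [Finite G] [Group K] (h : RowOutW G) (e : G ≃* K) :
    RowOutW K := by
  obtain ⟨p, a, hp, hp5, ha, hf, hc, y, hy, hel, hw⟩ := h
  exact ⟨p, a, hp, hp5, ha, by rwa [← card_out_dvd_congr e], by rwa [← Nat.card_congr e.toEquiv], e y,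
    by rw [MulEquiv.orderOf_eq, hy], hel.congr hp e, hw.congr hp e⟩

section

variable {F : Type} [Field F] [Fintype F]

theorem exists_pf (F : Type) [Field F] [Fintype F] {q : ℕ} (hF : Fintype.card F = q) :
    ∃ p f : ℕ, p.Prime ∧ 1 ≤ f ∧ q = p ^ f := by
  obtain ⟨p, hc⟩ := CharP.exists F
  obtain ⟨m, hp, hm⟩ := FiniteField.card F p
  exact ⟨p, m, hp, m.2, by rw [← hF, hm]⟩

theorem rowOutW_psl {n : ℕ} (hn : 3 ≤ n) (h26 : ¬ (Fintype.card F = 2 ∧ n = 6)) (h34 : ¬ (Fintype.card F = 3 ∧ n = 4))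
    (hZ : Subgroup.center (Matrix.ProjectiveSpecialLinearGroup (Fin n) F) = ⊥) :
    RowOutW (Matrix.ProjectiveSpecialLinearGroup (Fin n) F) := by
  obtain ⟨p, f, hp, hf, hq⟩ := exists_pf F rfl
  refine RowOutW.of_row (row_psl_genW (cond_mul Fintype.one_lt_card _ (Or.inl rfl)) hp hf hq rfl hn h26 h34) ?_
  rw [H163.PG.card_out_psl hp hf hq hn hZ]
  exact Nat.mul_dvd_mul (Nat.mul_dvd_mul_right (by norm_num) f) (Nat.gcd_dvd_right _ _)

theorem rowOutW_psp {m : ℕ} (hm : 2 ≤ m) (h3 : m = 2 → 3 ≤ Fintype.card F) (h26 : ¬ (Fintype.card F = 2 ∧ m = 3))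
    (h34 : ¬ (Fintype.card F = 3 ∧ m = 2)) (hZ : Subgroup.center (Cfsg.PSp m F) = ⊥) : RowOutW (Cfsg.PSp m F) := by
  obtain ⟨p, f, hp, hf, hq⟩ := exists_pf F rfl
  refine RowOutW.of_row (row_psp_genW (cond_mul Fintype.one_lt_card _ (Or.inl rfl)) hp hf hq rfl hm h26 h34) ?_
  rw [H163.PG.card_out_psp hp hf hq hm h3 hZ]
  have h1 : (if m = 2 ∧ p = 2 then 2 else 1) * Nat.gcd 2 (p ^ f - 1) ∣ 24 := by
    have h2 : (if m = 2 ∧ p = 2 then 2 else 1) ∣ 2 := by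
      split_ifs
      · exact dvd_rfl
      · exact one_dvd _
    exact (Nat.mul_dvd_mul h2 (Nat.gcd_dvd_left _ _)).trans (by norm_num)
  exact Dvd.dvd.mul_right (Nat.mul_dvd_mul_right h1 f) _

theorem rowOutW_psu {n q : ℕ} (hF : Fintype.card F = q ^ 2) (hn : 3 ≤ n) (h32 : ¬ (n = 3 ∧ q = 2))
    (h42 : ¬ (n = 4 ∧ q = 2)) (hZ : Subgroup.center (Cfsg.PSU n F q) = ⊥) : RowOutW (Cfsg.PSU n F q) := by
  have hq1 : 1 < q := one_lt_of_sq hF
  obtain ⟨p, k, hp, hk, hqk⟩ := exists_pf F hF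
  obtain ⟨f, hf⟩ : ∃ f, q = p ^ f := by
    have h1 : q ∣ p ^ k := by
      rw [← hqk, pow_two]
      exact Dvd.intro _ rfl
    obtain ⟨f, -, hf⟩ := (Nat.dvd_prime_pow hp).1 h1
    exact ⟨f, hf⟩
  have hf1 : 1 ≤ f := by
    rcases Nat.eq_zero_or_pos f with rfl | h
    · rw [pow_zero] at hf
      omega
    · exact h
  refine RowOutW.of_row (row_psu_genW (cond_mul (by omega) _ (Or.inr rfl)) hp hf1 hf hF hn h32 h42) ?_
  rw [H163.PG.card_out_psu hp hf1 hf hF hn h32 hZ, mul_comm]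
  exact Nat.mul_dvd_mul (Nat.mul_dvd_mul_right (by norm_num) f) (Nat.gcd_dvd_right _ _)

theorem rowOutW_odd {m : ℕ} (hm : 3 ≤ m) (hodd : Odd (Fintype.card F)) (h36 : ¬ (Fintype.card F = 3 ∧ m = 3))
    (h56 : ¬ (Fintype.card F = 5 ∧ m = 3)) (hZ : Subgroup.center (Cfsg.POmega F (Cfsg.quadFormOdd m F)) = ⊥) :
    RowOutW (Cfsg.POmega F (Cfsg.quadFormOdd m F)) := by
  obtain ⟨p, f, hp, hf, hq⟩ := exists_pf F rfl
  refine RowOutW.of_row (row_odd_genW (cond_mul Fintype.one_lt_card _ (Or.inl rfl)) hp hf hq rfl hm hodd h36 h56) ?_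
  rw [H163.PG.card_out_oodd hp hf hq hodd hm hZ]
  exact Dvd.dvd.mul_right (Nat.mul_dvd_mul_right (by norm_num) f) _

theorem rowOutW_minus {m : ℕ} (hm : 4 ≤ m) (a b : F)
    (hab : ∀ z₁ z₂ : F, z₁ ^ 2 + a * z₁ * z₂ + b * z₂ ^ 2 = 0 → z₁ = 0 ∧ z₂ = 0) :
    RowOutW (Cfsg.POmega F (Cfsg.quadFormMinus (m - 1) F a b)) := by
  obtain ⟨p, f, hp, hf, hq⟩ := exists_pf F rfl
  have := Fact.mk hp
  refine RowOutW.of_row (row_minus_genW (cond_mul Fintype.one_lt_card _ (Or.inl rfl)) hp hf hq rfl hm a b hab) ?_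
  exact Dvd.dvd.mul_right (H149.PGO.card_out_minus hf hq hm a b hab) _

theorem rowOutW_plus {m : ℕ} (hm : 4 ≤ m) (h2 : ¬ (Fintype.card F = 2 ∧ m = 4)) (h3 : ¬ (Fintype.card F = 3 ∧ m = 4))
    (h5 : ¬ (Fintype.card F = 5 ∧ m = 4)) : RowOutW (Cfsg.POmega F (Cfsg.quadFormPlus m F)) := by
  obtain ⟨p, f, hp, hf, hq⟩ := exists_pf F rfl
  have := Fact.mk hp
  refine RowOutW.of_row (row_plus'_genW (cond_mul Fintype.one_lt_card _ (Or.inl rfl)) hp hf hq rfl hm h2 h3 h5) ?_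
  exact Dvd.dvd.mul_right (H149.PGO.card_out_plus hf hq hm) _

end

/-- The exceptions: `PSL_6(2)`, `PSL_4(3)`, `PSp_6(2)`, `PSp_4(3)`, `PSU_4(2)`, `PΩ_7(3)`, `PΩ_7(5)`, `PΩ⁺_8(2)`,
`PΩ⁺_8(3)`, `PΩ⁺_8(5)`. -/
def Exceptions (K : Type u) [Group K] : Prop :=
  ∃ (F : Type) (_ : Field F) (_ : Fintype F),
    (Fintype.card F = 2 ∧ Nonempty (K ≃* Matrix.ProjectiveSpecialLinearGroup (Fin 6) F)) ∨
    (Fintype.card F = 3 ∧ Nonempty (K ≃* Matrix.ProjectiveSpecialLinearGroup (Fin 4) F)) ∨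
    (Fintype.card F = 2 ∧ Nonempty (K ≃* Cfsg.PSp 3 F)) ∨
    (Fintype.card F = 3 ∧ Nonempty (K ≃* Cfsg.PSp 2 F)) ∨
    (Fintype.card F = 4 ∧ Nonempty (K ≃* Cfsg.PSU 4 F 2)) ∨
    (Fintype.card F = 3 ∧ Nonempty (K ≃* Cfsg.POmega F (Cfsg.quadFormOdd 3 F))) ∨
    (Fintype.card F = 5 ∧ Nonempty (K ≃* Cfsg.POmega F (Cfsg.quadFormOdd 3 F))) ∨
    (Fintype.card F = 2 ∧ Nonempty (K ≃* Cfsg.POmega F (Cfsg.quadFormPlus 4 F))) ∨
    (Fintype.card F = 3 ∧ Nonempty (K ≃* Cfsg.POmega F (Cfsg.quadFormPlus 4 F))) ∨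
    (Fintype.card F = 5 ∧ Nonempty (K ≃* Cfsg.POmega F (Cfsg.quadFormPlus 4 F)))

/-- **The table**, with `Wt`. -/
theorem tableW {K : Type u} [Group K] (hZ : Subgroup.center K = ⊥)
    (h : Cfsg.IsPSL K ∨ Cfsg.IsPSp K ∨ Cfsg.IsPSU K ∨ Cfsg.IsPOmegaOdd K ∨ Cfsg.IsPOmegaPlus K ∨
      Cfsg.IsPOmegaMinus K) :
    (∃ (F : Type) (_ : Field F) (_ : Fintype F), 4 ≤ Fintype.card F ∧
      Nonempty (K ≃* Matrix.ProjectiveSpecialLinearGroup (Fin 2) F)) ∨ Exceptions K ∨ RowOutW K := by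
  rcases h with ⟨F, hF, hF', n, hn, h2, ⟨e⟩⟩ | ⟨F, hF, hF', m, hm, h3, ⟨e⟩⟩ | ⟨F, hF, hF', n, q, hFq, hn, h32, ⟨e⟩⟩ |
    ⟨F, hF, hF', m, hm, hodd, ⟨e⟩⟩ | ⟨F, hF, hF', m, hm, ⟨e⟩⟩ | ⟨F, hF, hF', m, a, b, hm, hab, ⟨e⟩⟩
  · by_cases hn2 : n = 2
    · subst hn2
      exact Or.inl ⟨F, hF, hF', h2 rfl, ⟨e⟩⟩
    right
    by_cases h26 : Fintype.card F = 2 ∧ n = 6
    · obtain ⟨h1, rfl⟩ := h26
      exact Or.inl ⟨F, hF, hF', Or.inl ⟨h1, ⟨e⟩⟩⟩
    by_cases h34 : Fintype.card F = 3 ∧ n = 4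
    · obtain ⟨h1, rfl⟩ := h34
      exact Or.inl ⟨F, hF, hF', Or.inr (Or.inl ⟨h1, ⟨e⟩⟩)⟩
    exact Or.inr ((rowOutW_psl (by omega) h26 h34 (center_eq_bot_of e hZ)).congr e.symm)
  · right
    by_cases h26 : Fintype.card F = 2 ∧ m = 3
    · obtain ⟨h1, rfl⟩ := h26
      exact Or.inl ⟨F, hF, hF', Or.inr (Or.inr (Or.inl ⟨h1, ⟨e⟩⟩))⟩
    by_cases h34 : Fintype.card F = 3 ∧ m = 2
    · obtain ⟨h1, rfl⟩ := h34
      exact Or.inl ⟨F, hF, hF', Or.inr (Or.inr (Or.inr (Or.inl ⟨h1, ⟨e⟩⟩)))⟩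
    exact Or.inr ((rowOutW_psp hm h3 h26 h34 (center_eq_bot_of e hZ)).congr e.symm)
  · right
    by_cases h42 : n = 4 ∧ q = 2
    · obtain ⟨rfl, rfl⟩ := h42
      exact Or.inl ⟨F, hF, hF', Or.inr (Or.inr (Or.inr (Or.inr (Or.inl ⟨hFq, ⟨e⟩⟩))))⟩
    exact Or.inr ((rowOutW_psu hFq hn h32 h42 (center_eq_bot_of e hZ)).congr e.symm)
  · right
    by_cases h36 : Fintype.card F = 3 ∧ m = 3
    · obtain ⟨h1, rfl⟩ := h36
      exact Or.inl ⟨F, hF, hF', Or.inr (Or.inr (Or.inr (Or.inr (Or.inr (Or.inl ⟨h1, ⟨e⟩⟩)))))⟩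
    by_cases h56 : Fintype.card F = 5 ∧ m = 3
    · obtain ⟨h1, rfl⟩ := h56
      exact Or.inl ⟨F, hF, hF', Or.inr (Or.inr (Or.inr (Or.inr (Or.inr (Or.inr (Or.inl ⟨h1, ⟨e⟩⟩))))))⟩
    exact Or.inr ((rowOutW_odd hm hodd h36 h56 (center_eq_bot_of e hZ)).congr e.symm)
  · right
    by_cases h2 : Fintype.card F = 2 ∧ m = 4
    · obtain ⟨h1, rfl⟩ := h2
      exact Or.inl ⟨F, hF, hF', Or.inr (Or.inr (Or.inr (Or.inr (Or.inr (Or.inr (Or.inr (Or.inl ⟨h1, ⟨e⟩⟩)))))))⟩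
    by_cases h3 : Fintype.card F = 3 ∧ m = 4
    · obtain ⟨h1, rfl⟩ := h3
      exact Or.inl ⟨F, hF, hF', Or.inr (Or.inr (Or.inr (Or.inr (Or.inr (Or.inr (Or.inr (Or.inr (Or.inl
        ⟨h1, ⟨e⟩⟩))))))))⟩
    by_cases h5 : Fintype.card F = 5 ∧ m = 4
    · obtain ⟨h1, rfl⟩ := h5
      exact Or.inl ⟨F, hF, hF', Or.inr (Or.inr (Or.inr (Or.inr (Or.inr (Or.inr (Or.inr (Or.inr (Or.inr
        ⟨h1, ⟨e⟩⟩))))))))⟩
    exact Or.inr ((rowOutW_plus hm h2 h3 h5).congr e.symm)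
  · exact Or.inr (Or.inr ((rowOutW_minus hm a b hab).congr e.symm))

/-- **The table.** -/
theorem table {K : Type u} [Group K] (hZ : Subgroup.center K = ⊥)
    (h : Cfsg.IsPSL K ∨ Cfsg.IsPSp K ∨ Cfsg.IsPSU K ∨ Cfsg.IsPOmegaOdd K ∨ Cfsg.IsPOmegaPlus K ∨
      Cfsg.IsPOmegaMinus K) :
    (∃ (F : Type) (_ : Field F) (_ : Fintype F), 4 ≤ Fintype.card F ∧
      Nonempty (K ≃* Matrix.ProjectiveSpecialLinearGroup (Fin 2) F)) ∨ Exceptions K ∨ RowOut K :=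
  (tableW hZ h).imp id (Or.imp id RowOutW.rowOut)

end Cfsg.Agent.H518.SU
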