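import Mathlib
import Cfsg.Prelude.Def_Classification2
import Cfsg.Agent.H518.SUTable

/-!
# The exceptional classical groups: generalities
-/

set_option autoImplicit false

namespace Cfsg.Agent.H518.SU

open Module Cfsg.Agent.H518.DghpFix
open scoped Pointwise

universe u v w

/-- The property proved for the exceptional groups. -/
def Exc1 (K : Type*) [Group K] : Prop :=
  ∃ r, r.Prime ∧ 5 ≤ r ∧ ¬ r ∣ Nat.card (Cfsg.Out K) ∧ ¬ r ^ 2 ∣ Nat.card K ∧ ∃ y : K, orderOf y = r ∧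
    ∀ β : MulAut K, β ≠ 1 → ∃ g : K,
      ¬ Group.IsSolvable (Subgroup.closure ({g * y * g⁻¹, β (g * y * g⁻¹)} : Set K))

/-- The weak form, for automorphisms of prime order. -/
def Exc2 (K : Type*) [Group K] : Prop :=
  ∃ r, r.Prime ∧ 5 ≤ r ∧ ¬ r ∣ Nat.card (Cfsg.Out K) ∧ ¬ r ^ 2 ∣ Nat.card K ∧ ∃ y : K, orderOf y = r ∧
    ∀ β : MulAut K, (orderOf β).Prime → ∃ g : K,
      ¬ Group.IsSolvable (Subgroup.closure ({MulAut.conj (g * y * g⁻¹), β} : Set (MulAut K)))

theorem Exc1.exc2 {K : Type u} [Group K] (hZ : Subgroup.center K = ⊥) (h : Exc1 K) : Exc2 K := by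
  obtain ⟨r, hr, h5, hO, h2, y, hy, hall⟩ := h
  refine ⟨r, hr, h5, hO, h2, y, hy, fun β hβ => ?_⟩
  obtain ⟨g, hg⟩ := hall β (fun h1 => by
    rw [h1, orderOf_one] at hβ
    exact Nat.not_prime_one hβ)
  refine ⟨g, fun hs => hg ?_⟩
  have hinj : Function.Injective (MulAut.conj : K →* MulAut K) := by
    rw [← MonoidHom.ker_eq_bot_iff, Subgroup.eq_bot_iff_forall]
    intro z hz
    rw [← Subgroup.mem_bot, ← hZ, Subgroup.mem_center_iff]
    intro l
    have h1 : MulAut.conj z l = l := by rw [MonoidHom.mem_ker.1 hz]; rfl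
    rw [MulAut.conj_apply] at h1
    calc l * z = (z * l * z⁻¹) * z := by rw [h1]
      _ = z * l := by group
  have hle : (Subgroup.closure ({g * y * g⁻¹, β (g * y * g⁻¹)} : Set K)).map (MulAut.conj : K →* MulAut K) ≤
      Subgroup.closure ({MulAut.conj (g * y * g⁻¹), β} : Set (MulAut K)) := by
    rw [MonoidHom.map_closure, Subgroup.closure_le]
    have h1 : MulAut.conj (g * y * g⁻¹) ∈ Subgroup.closure ({MulAut.conj (g * y * g⁻¹), β} : Set (MulAut K)) :=
      Subgroup.subset_closure (by simp)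
    have h3 : β ∈ Subgroup.closure ({MulAut.conj (g * y * g⁻¹), β} : Set (MulAut K)) :=
      Subgroup.subset_closure (by simp)
    rintro _ ⟨z, (rfl | rfl), rfl⟩
    · exact h1
    · have h4 : (MulAut.conj (β (g * y * g⁻¹)) : MulAut K) = β * MulAut.conj (g * y * g⁻¹) * β⁻¹ := by
        ext l
        simp
      show MulAut.conj (β (g * y * g⁻¹)) ∈ _
      rw [h4]
      exact Subgroup.mul_mem _ (Subgroup.mul_mem _ h3 h1) (Subgroup.inv_mem _ h3)
  have h5 : Group.IsSolvable ((Subgroup.closure ({g * y * g⁻¹, β (g * y * g⁻¹)} : Set K)).map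
      (MulAut.conj : K →* MulAut K)) :=
    Group.isSolvable_of_isSolvable_injective (f := Subgroup.inclusion hle) (Subgroup.inclusion_injective hle)
  exact Group.isSolvable_of_isSolvable_injective
    (f := ((Subgroup.closure ({g * y * g⁻¹, β (g * y * g⁻¹)} : Set K)).equivMapOfInjective
      (MulAut.conj : K →* MulAut K) hinj).toMonoidHom) (MulEquiv.injective _)

/-- Elements of order `r` when `r` divides the order of the group exactly once. -/
theorem exists_conj_zpowers {K : Type u} [Group K] [Finite K] {r : ℕ} (hr : r.Prime) (h2 : ¬ r ^ 2 ∣ Nat.card K)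
    {y z : K} (hy : orderOf y = r) (hz : orderOf z = r) : ∃ g : K, z ∈ Subgroup.zpowers (g * y * g⁻¹) := by
  have : Fact r.Prime := ⟨hr⟩
  have hsyl : ∀ x : K, orderOf x = r → ∀ P : Sylow r K, x ∈ P → (P : Subgroup K) = Subgroup.zpowers x := by
    intro x hx P hxP
    have h1 : Subgroup.zpowers x ≤ (P : Subgroup K) := by rwa [Subgroup.zpowers_le]
    refine (Subgroup.eq_of_le_of_card_ge h1 ?_).symm
    rw [Nat.card_zpowers, hx]
    obtain ⟨n, hn⟩ := IsPGroup.iff_card.1 P.isPGroup'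
    have h3 : n < 2 := by
      by_contra hcon
      apply h2
      have h4 : r ^ n ∣ Nat.card K := by
        rw [← hn]
        exact Subgroup.card_subgroup_dvd_card _
      exact (pow_dvd_pow r (by omega)).trans h4
    rw [hn]
    have h5 : r ^ n ≤ r ^ 1 := Nat.pow_le_pow_right hr.pos (by omega)
    rwa [pow_one] at h5
  have hex : ∀ x : K, orderOf x = r → ∃ P : Sylow r K, x ∈ P := by
    intro x hx
    have h1 : IsPGroup r (Subgroup.zpowers x) := IsPGroup.of_card (n := 1) (by rw [Nat.card_zpowers, hx, pow_one])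
    obtain ⟨P, hP⟩ := h1.exists_le_sylow
    exact ⟨P, hP (Subgroup.mem_zpowers x)⟩
  obtain ⟨P, hyP⟩ := hex y hy
  obtain ⟨Q, hzQ⟩ := hex z hz
  obtain ⟨g, hg⟩ := MulAction.exists_smul_eq K P Q
  refine ⟨g, ?_⟩
  have h1 : g * y * g⁻¹ ∈ Q := by
    rw [← hg]
    have h2 : MulAut.conj g • y ∈ MulAut.conj g • (P : Subgroup K) := Subgroup.smul_mem_pointwise_smul y _ _ hyP
    exact h2
  have h2 := hsyl (g * y * g⁻¹) (by rw [← hy]; exact MulEquiv.orderOf_eq (MulAut.conj g) y) Q h1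
  rw [← h2]
  exact hzQ

/-- Commuting elements of order `r` when `r` divides the order of the group exactly once. -/
theorem comm_of_not_sq {G : Type u} [Group G] [Finite G] {r : ℕ} (hr : r.Prime) (h2 : ¬ r ^ 2 ∣ Nat.card G) :
    ∀ u v : G, orderOf u = r → orderOf v = r → u * v = v * u → v ∈ Subgroup.zpowers u := by
  intro u v hu hv huv
  have : Fact r.Prime := ⟨hr⟩
  have hpu : IsPGroup r (Subgroup.zpowers u) := IsPGroup.of_card (n := 1) (by rw [Nat.card_zpowers, hu, pow_one])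
  have hpv : IsPGroup r (Subgroup.zpowers v) := IsPGroup.of_card (n := 1) (by rw [Nat.card_zpowers, hv, pow_one])
  have hle : Subgroup.zpowers v ≤ Subgroup.normalizer (Subgroup.zpowers u : Set G) := by
    rw [Subgroup.zpowers_le, Subgroup.mem_normalizer_iff_map_conj_eq, MonoidHom.map_zpowers]
    congr 1
    show v * u * v⁻¹ = u
    rw [← huv, mul_inv_cancel_right]
  have hsup : IsPGroup r (Subgroup.zpowers u ⊔ Subgroup.zpowers v : Subgroup G) := IsPGroup.to_sup_of_normal_left' hpu hpv hle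
  obtain ⟨n, hn⟩ := IsPGroup.iff_card.1 hsup
  have h3 : n < 2 := by
    by_contra hcon
    apply h2
    have h4 : r ^ n ∣ Nat.card G := by
      rw [← hn]
      exact Subgroup.card_subgroup_dvd_card _
    exact (pow_dvd_pow r (by omega)).trans h4
  have h4 : Subgroup.zpowers u = Subgroup.zpowers u ⊔ Subgroup.zpowers v := by
    refine Subgroup.eq_of_le_of_card_ge le_sup_left ?_
    rw [hn, Nat.card_zpowers, hu]
    have h5 : r ^ n ≤ r ^ 1 := Nat.pow_le_pow_right hr.pos (by omega)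
    rwa [pow_one] at h5
  rw [h4]
  exact (le_sup_right : Subgroup.zpowers v ≤ _) (Subgroup.mem_zpowers v)

theorem Exc1.of {K : Type u} [Group K] [Finite K] {r : ℕ} (hr : r.Prime) (h5 : 5 ≤ r)
    (hO : ¬ r ∣ Nat.card (Cfsg.Out K)) (hK : r ∣ Nat.card K) (h2 : ¬ r ^ 2 ∣ Nat.card K)
    (h : ∀ β : MulAut K, β ≠ 1 → ∃ y : K, orderOf y = r ∧
      ¬ Group.IsSolvable (Subgroup.closure ({y, β y} : Set K))) : Exc1 K := by
  have : Fact r.Prime := ⟨hr⟩
  obtain ⟨y, hy⟩ := exists_prime_orderOf_dvd_card' r hK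
  refine ⟨r, hr, h5, hO, h2, y, hy, fun β hβ => ?_⟩
  obtain ⟨z, hz, hns⟩ := h β hβ
  obtain ⟨g, hg⟩ := exists_conj_zpowers hr h2 hy hz
  refine ⟨g, fun hs => hns ?_⟩
  have hle : Subgroup.closure ({z, β z} : Set K) ≤
      Subgroup.closure ({g * y * g⁻¹, β (g * y * g⁻¹)} : Set K) := by
    rw [Subgroup.closure_le]
    have h1 : g * y * g⁻¹ ∈ Subgroup.closure ({g * y * g⁻¹, β (g * y * g⁻¹)} : Set K) :=
      Subgroup.subset_closure (by simp)
    have h3 : β (g * y * g⁻¹) ∈ Subgroup.closure ({g * y * g⁻¹, β (g * y * g⁻¹)} : Set K) :=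
      Subgroup.subset_closure (by simp)
    obtain ⟨k, hk⟩ := Subgroup.mem_zpowers_iff.1 hg
    rintro x (rfl | rfl)
    · rw [← hk]
      exact Subgroup.zpow_mem _ h1 k
    · rw [← hk, map_zpow]
      exact Subgroup.zpow_mem _ h3 k
  exact Group.isSolvable_of_isSolvable_injective (f := Subgroup.inclusion hle) (Subgroup.inclusion_injective hle)

theorem Exc1.congr {K : Type u} {L : Type v} [Group K] [Group L] (h : Exc1 K) (e : K ≃* L) : Exc1 L := by
  obtain ⟨r, hr, h5, hO, h2, y, hy, hall⟩ := h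
  refine ⟨r, hr, h5, by rwa [← card_out_dvd_congr e], by rwa [← Nat.card_congr e.toEquiv], e y,
    by rw [MulEquiv.orderOf_eq, hy], fun β hβ => ?_⟩
  have hβ' : MulAut.congr e.symm β ≠ 1 := fun h1 => hβ ((MulAut.congr e.symm).injective (by rw [h1, map_one]))
  obtain ⟨g, hg⟩ := hall _ hβ'
  refine ⟨e g, fun hs => hg ?_⟩
  have h1 : (Subgroup.closure ({g * y * g⁻¹, (MulAut.congr e.symm β) (g * y * g⁻¹)} : Set K)).map e.toMonoidHom =
      Subgroup.closure ({e g * e y * (e g)⁻¹, β (e g * e y * (e g)⁻¹)} : Set L) := by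
    rw [MonoidHom.map_closure, Set.image_pair]
    congr 1
    simp [MulAut.congr]
  rw [← h1] at hs
  exact Group.isSolvable_of_isSolvable_injective
    (f := ((Subgroup.closure ({g * y * g⁻¹, (MulAut.congr e.symm β) (g * y * g⁻¹)} : Set K)).equivMapOfInjective
      e.toMonoidHom e.injective).toMonoidHom) (MulEquiv.injective _)

/-- Solvability of preimages. -/
theorem solvable_of_map {G : Type u} {K : Type v} [Group G] [Group K] (π : G →* K) (hsol : Group.IsSolvable π.ker)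
    {M : Subgroup G} (hM : Group.IsSolvable (M.map π)) : Group.IsSolvable M := by
  let f : M →* M.map π := (π.comp M.subtype).codRestrict (M.map π) (fun x => ⟨x, x.2, rfl⟩)
  have hf : ∀ x : f.ker, π x.1.1 = 1 := by
    intro x
    have hx := x.2
    rw [MonoidHom.mem_ker] at hx
    exact congrArg Subtype.val hx
  have hk : Group.IsSolvable f.ker := by
    exact Group.isSolvable_of_isSolvable_injective (f := (
      { toFun := fun x => ⟨x.1.1, hf x⟩
        map_one' := rfl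
        map_mul' := fun _ _ => rfl } : f.ker →* π.ker)) (fun a b hab => by
          apply Subtype.ext
          apply Subtype.ext
          exact congrArg (Subtype.val : π.ker → G) hab)
  exact Group.isSolvable_of_ker_le_range (f.ker.subtype) f (by rw [Subgroup.range_subtype])

section

variable {F : Type u} [Field F] [Fintype F] {V : Type v} [AddCommGroup V] [Module F V] [FiniteDimensional F V]
  {G : Type w} [Group G] [Finite G]

/-- `el_of_rep` for one subgroup, commuting elements of order `p` being powers of each other. -/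
theorem mem_zpowers_of_comm {p a : ℕ} (hp : p.Prime) (ha : 1 ≤ a) (F : Type u) [Fintype F]
    {y : G} (hy : orderOf y = p ^ a) {M : Subgroup G} (hM : Group.IsSolvable M) (hyM : y ∈ M)
    (hcomm : ∀ u v : G, orderOf u = p → orderOf v = p → u * v = v * u → v ∈ Subgroup.zpowers u)
    (hcent : ∀ (T : Subgroup G) (t : ℕ), T ≤ M → t.Prime → t ≠ p → ¬ t ∣ Fintype.card F → IsPGroup t T →
      (∀ g ∈ M, ∀ n ∈ T, g * n * g⁻¹ ∈ T) → ∀ u ∈ T, y ^ p ^ (a - 1) * u = u * y ^ p ^ (a - 1))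
    (hcore : ∀ ℓ : ℕ, ℓ.Prime → ℓ ∣ Fintype.card F →
      ∀ P : Subgroup G, P ≤ M → (∀ g ∈ M, ∀ n ∈ P, g * n * g⁻¹ ∈ P) → IsPGroup ℓ P → P = ⊥) :
    ∀ u ∈ M, orderOf u = p → u ∈ Subgroup.zpowers y := by
  intro u huM hu
  have hy' : orderOf (⟨y, hyM⟩ : M) = p ^ a := by rw [Subgroup.orderOf_mk, hy]
  have key := solv_unique (G := M) hp ha hy' (fun t ht htp T hT hTt u hu => ?_) (fun u v hu hv huv => ?_)
    ⟨u, huM⟩ (by rw [Subgroup.orderOf_mk, hu])
  · obtain ⟨k, hk⟩ := Subgroup.mem_zpowers_iff.1 key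
    refine Subgroup.mem_zpowers_iff.2 ⟨k, ?_⟩
    exact congrArg Subtype.val hk
  · have hTM : ∀ u ∈ T.map M.subtype, u ∈ M := by
      rintro _ ⟨u, hu, rfl⟩
      exact u.2
    have hTn : ∀ g ∈ M, ∀ n ∈ T.map M.subtype, g * n * g⁻¹ ∈ T.map M.subtype := by
      rintro g hg _ ⟨u, hu, rfl⟩
      exact ⟨⟨g, hg⟩ * u * ⟨g, hg⟩⁻¹, hT.conj_mem u hu _, rfl⟩
    by_cases htF : t ∣ Fintype.card F
    · have h1 := hcore t ht htF (T.map M.subtype) hTM hTn (hTt.map _)
      have h2 : (u : G) ∈ T.map M.subtype := ⟨u, hu, rfl⟩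
      rw [h1, Subgroup.mem_bot] at h2
      have h3 : u = 1 := Subtype.ext h2
      rw [h3, mul_one, one_mul]
    · have h1 := hcent (T.map M.subtype) t hTM ht htp htF (hTt.map _) hTn u ⟨u, hu, rfl⟩
      exact Subtype.ext h1
  · have h1 := hcomm u v (by rw [Subgroup.orderOf_coe, hu]) (by rw [Subgroup.orderOf_coe, hv])
      (congrArg Subtype.val huv)
    obtain ⟨k, hk⟩ := Subgroup.mem_zpowers_iff.1 h1
    exact Subgroup.mem_zpowers_iff.2 ⟨k, Subtype.ext hk⟩

/-- `el_of_rep` for one subgroup. -/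
theorem mem_zpowers_of_rep (φ : G →* (V →ₗ[F] V)) (hφ : Function.Injective φ) {p a : ℕ} (hp : p.Prime) (ha : 1 ≤ a)
    (hpF : ¬ p ∣ Fintype.card F) (h2e : finrank F V < 2 * orderOf ((Fintype.card F : ℕ) : ZMod p)) {y : G}
    (hy : orderOf y = p ^ a) {M : Subgroup G} (hM : Group.IsSolvable M) (hyM : y ∈ M)
    (hcent : ∀ (T : Subgroup G) (t : ℕ), T ≤ M → t.Prime → t ≠ p → ¬ t ∣ Fintype.card F → IsPGroup t T →
      (∀ g ∈ M, ∀ n ∈ T, g * n * g⁻¹ ∈ T) → ∀ u ∈ T, y ^ p ^ (a - 1) * u = u * y ^ p ^ (a - 1))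
    (hcore : ∀ ℓ : ℕ, ℓ.Prime → ℓ ∣ Fintype.card F →
      ∀ P : Subgroup G, P ≤ M → (∀ g ∈ M, ∀ n ∈ P, g * n * g⁻¹ ∈ P) → IsPGroup ℓ P → P = ⊥) :
    ∀ u ∈ M, orderOf u = p → u ∈ Subgroup.zpowers y :=
  mem_zpowers_of_comm hp ha F hy hM hyM (commuting_of_rep φ hφ hp hpF h2e) hcent hcore

/-- The same with the size condition. -/
theorem mem_zpowers_of_size (φ : G →* (V →ₗ[F] V)) (hφ : Function.Injective φ) {p : ℕ} (hp : p.Prime) (hp2 : p ≠ 2)
    (hpF : ¬ p ∣ Fintype.card F) (h2e : finrank F V < 2 * orderOf ((Fintype.card F : ℕ) : ZMod p))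
    (hs : Size (Fintype.card F) (finrank F V) p 1) {y : G}
    (hy : orderOf y = p) {M : Subgroup G} (hM : Group.IsSolvable M) (hyM : y ∈ M)
    (hcore : ∀ ℓ : ℕ, ℓ.Prime → ℓ ∣ Fintype.card F →
      ∀ P : Subgroup G, P ≤ M → (∀ g ∈ M, ∀ n ∈ P, g * n * g⁻¹ ∈ P) → IsPGroup ℓ P → P = ⊥) :
    ∀ u ∈ M, orderOf u = p → u ∈ Subgroup.zpowers y := by
  have hy' : orderOf y = p ^ 1 := by rw [hy, pow_one]
  refine mem_zpowers_of_rep φ hφ hp le_rfl hpF h2e hy' hM hyM (fun T t hTM ht htp htF hT hTn => ?_) hcore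
  refine centralize_rep φ hφ hp hp2 le_rfl ht htp (cast_ne_zero_of_not_dvd ht htF) hy' hT (hTn y hyM) ?_
  rcases hs with h | ⟨h1, h2, h3⟩
  · exact Or.inl h
  · refine Or.inr ⟨h1, h2, ?_⟩
    rintro ⟨rfl, h4⟩
    rcases h3 with h3 | h3
    · exact htF h3
    · exact h3 h4

omit [Finite G] in
/-- Without invariant subspaces there are no normal `ℓ`-subgroups. -/
theorem core_of_irred (φ : G →* (V →ₗ[F] V)) (hφ : Function.Injective φ) (hV : (⊤ : Submodule F V) ≠ ⊥) {M : Subgroup G}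
    (hirr : ∀ U : Submodule F V, (∀ g ∈ M, ∀ v ∈ U, φ g v ∈ U) → U = ⊥ ∨ U = ⊤) :
    ∀ ℓ : ℕ, ℓ.Prime → ℓ ∣ Fintype.card F →
      ∀ P : Subgroup G, P ≤ M → (∀ g ∈ M, ∀ n ∈ P, g * n * g⁻¹ ∈ P) → IsPGroup ℓ P → P = ⊥ := by
  intro ℓ hℓ hℓF P hPM hn hP
  refine eq_bot_of_fixSub φ hφ ?_
  have h1 : fixSub φ P ≠ ⊥ := by
    have := fixSub_inf_ne_bot φ hℓ hℓF hP ⊤ (fun _ _ _ _ => trivial) hV
    intro h
    rw [h, inf_bot_eq] at this
    exact this rfl
  refine (hirr _ fun g hg => fixSub_invariant fun n hnP => ?_).resolve_left h1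
  have := hn g⁻¹ (M.inv_mem hg) n hnP
  rwa [inv_inv] at this

end

end Cfsg.Agent.H518.SU
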