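import Mathlib
import Cfsg.Agent.H518.SUExc

/-!
# Opposite pairs of totally isotropic subspaces of dimension three
-/

set_option autoImplicit false
set_option linter.unusedSectionVars false

namespace Cfsg.Agent.H518.SU

open Module Cfsg.Agent.H518.DghpFix Cfsg.Agent.H518.DghpPrim

universe u v w w'

section

variable {F : Type u} [Field F] [Fintype F] {V : Type v} [AddCommGroup V] [Module F V] [FiniteDimensional F V]

/-- Totally isotropic. -/
def TI (B : V → V → F) (U : Submodule F V) : Prop := ∀ u ∈ U, ∀ v ∈ U, B u v = 0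

/-- `x` of order `r` acts on the opposite totally isotropic spaces `W`, `W'` of dimension three. -/
structure GP (B : V → V → F) (r : ℕ) (x : V →ₗ[F] V) (W W' : Submodule F V) : Prop where
  pow : x ^ r = 1
  ne : x ≠ 1
  isom : ∀ u v, B (x u) (x v) = B u v
  dim : finrank F W = 3
  dim' : finrank F W' = 3
  ti : TI B W
  ti' : TI B W'
  opp : ∀ u ∈ W, (∀ v ∈ W', B u v = 0) → u = 0
  inv : ∀ v ∈ W, x v ∈ W
  inv' : ∀ v ∈ W', x v ∈ W'
  fix : ∀ v ∈ fixS x, B v v = 0 → v = 0
  rng : ∀ v, x v - v ∈ W ⊔ W'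

theorem GP.disj {B : V → V → F} {r : ℕ} {x : V →ₗ[F] V} {W W' : Submodule F V} (h : GP B r x W W') : W ⊓ W' = ⊥ := by
  rw [eq_bot_iff]
  rintro v ⟨hv, hv'⟩
  exact h.opp v hv fun w hw => h.ti' v hv' w hw

/-- Conjugation. -/
theorem GP.conj {B : V → V → F} {r : ℕ} {x : V →ₗ[F] V} {W W' : Submodule F V} (h : GP B r x W W')
    (b : V ≃ₗ[F] V) {c : F} (hc : c ≠ 0) (hb : ∀ u v, B (b u) (b v) = c * B u v) {y : V →ₗ[F] V}
    (hy : ∀ v, y (b v) = b (x v)) : GP B r y (W.map (b : V →ₗ[F] V)) (W'.map (b : V →ₗ[F] V)) := by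
  have hyx : ∀ v, y v = b (x (b.symm v)) := by
    intro v
    rw [← hy, b.apply_symm_apply]
  have hpow : ∀ (k : ℕ) (v : V), (y ^ k) (b v) = b ((x ^ k) v) := by
    intro k
    induction k with
    | zero => intro v; rfl
    | succ k ih =>
      intro v
      rw [pow_succ', pow_succ', Module.End.mul_apply, Module.End.mul_apply, ih, hy]
  have hB' : ∀ u v, B u v = c * B (b.symm u) (b.symm v) := by
    intro u v
    rw [← hb, b.apply_symm_apply, b.apply_symm_apply]
  refine ⟨?_, ?_, ?_, ?_, ?_, ?_, ?_, ?_, ?_, ?_, ?_, ?_⟩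
  · ext v
    have := hpow r (b.symm v)
    rw [b.apply_symm_apply, h.pow, Module.End.one_apply, b.apply_symm_apply] at this
    rw [this]
    rfl
  · intro h1
    apply h.ne
    ext v
    have := hy v
    rw [h1, Module.End.one_apply] at this
    exact (b.injective this).symm
  · intro u v
    rw [hyx, hyx, hb, h.isom, ← hB']
  · rw [LinearEquiv.finrank_map_eq, h.dim]
  · rw [LinearEquiv.finrank_map_eq, h.dim']
  · rintro _ ⟨u, hu, rfl⟩ _ ⟨v, hv, rfl⟩
    show B (b u) (b v) = 0
    rw [hb, h.ti u hu v hv, mul_zero]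
  · rintro _ ⟨u, hu, rfl⟩ _ ⟨v, hv, rfl⟩
    show B (b u) (b v) = 0
    rw [hb, h.ti' u hu v hv, mul_zero]
  · rintro _ ⟨u, hu, rfl⟩ h1
    have h2 : u = 0 := h.opp u hu fun v hv => by
      have h3 := h1 (b v) ⟨v, hv, rfl⟩
      have h4 : B (b u) (b v) = 0 := h3
      rw [hb] at h4
      exact (mul_eq_zero.1 h4).resolve_left hc
    rw [h2, map_zero]
  · rintro _ ⟨v, hv, rfl⟩
    exact ⟨x v, h.inv v hv, (hy v).symm⟩
  · rintro _ ⟨v, hv, rfl⟩
    exact ⟨x v, h.inv' v hv, (hy v).symm⟩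
  · intro v hv hvv
    have h1 : b.symm v = 0 := by
      apply h.fix
      · rw [mem_fixS] at hv ⊢
        apply b.injective
        rw [← hyx, b.apply_symm_apply, hv]
      · rw [hB'] at hvv
        exact (mul_eq_zero.1 hvv).resolve_left hc
    have h2 := congrArg b h1
    rwa [b.apply_symm_apply, map_zero] at h2
  · intro v
    have h1 := h.rng (b.symm v)
    rw [← Submodule.map_sup]
    refine ⟨_, h1, ?_⟩
    show b (x (b.symm v) - b.symm v) = y v - v
    rw [map_sub, b.apply_symm_apply, ← hyx]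

variable {B : V → V → F} (hB : Frm B) (hsym : ∀ x y, B x y = B y x)

include hB hsym

/-- **The totally isotropic invariant subspaces.** -/
theorem GP.eq_or {r : ℕ} (hr : r.Prime) (hrF : ¬ r ∣ Fintype.card F)
    (he : orderOf ((Fintype.card F : ℕ) : ZMod r) = 3) (hV : finrank F V ≤ 7)
    (hchar : (2 : F) ≠ 0 ∨ (Fintype.card F = 2 ∧ ∀ v, B v v = 0)) {x : V →ₗ[F] V} {W W' : Submodule F V}
    (h : GP B r x W W') {U : Submodule F V} (hU0 : U ≠ ⊥) (hU : TI B U) (hUx : ∀ v ∈ U, x v ∈ U) :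
    U = W ∨ U = W' := by
  have hx' : x ^ r ^ 1 = 1 := by rw [pow_one]; exact h.pow
  -- invariant isotropic subspaces have dimension divisible by three
  have hdiv : ∀ T : Submodule F V, TI B T → (∀ v ∈ T, x v ∈ T) → 3 ∣ finrank F T := by
    intro T hT hTx
    have h1 := finrank_fix hr hrF hx' T hTx
    have h2 : T ⊓ fixS x = ⊥ := by
      rw [eq_bot_iff]
      rintro v ⟨hv, hv'⟩
      exact h.fix v hv' (hT v hv v hv)
    rw [h2, finrank_bot, Nat.sub_zero, he] at h1
    exact h1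
  have hTle : ∀ T T' : Submodule F V, T ≤ T' → TI B T' → TI B T := fun T T' h1 h2 u hu v hv => h2 u (h1 hu) v (h1 hv)
  have hinf : ∀ T T' : Submodule F V, (∀ v ∈ T, x v ∈ T) → (∀ v ∈ T', x v ∈ T') → ∀ v ∈ T ⊓ T', x v ∈ T ⊓ T' :=
    fun T T' h1 h2 v hv => ⟨h1 v hv.1, h2 v hv.2⟩
  have h3U := hdiv U hU hUx
  have hUpos : 0 < finrank F U := by
    rcases Nat.eq_zero_or_pos (finrank F U) with h1 | h1
    · exact absurd (Submodule.finrank_eq_zero.1 h1) hU0
    · exact h1
  have hUle : finrank F U ≤ 7 := (Submodule.finrank_le U).trans hV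
  -- intersections with `W`, `W'`
  have hint : ∀ T : Submodule F V, TI B T → finrank F T = 3 → (∀ v ∈ T, x v ∈ T) → T ≤ U ∨ T ⊓ U = ⊥ := by
    intro T hT hT3 hTx
    have h1 := hdiv (T ⊓ U) (hTle _ _ inf_le_left hT) (hinf T U hTx hUx)
    have h2 : finrank F ↥(T ⊓ U) ≤ 3 := hT3 ▸ Submodule.finrank_mono inf_le_left
    rcases Nat.eq_zero_or_pos (finrank F ↥(T ⊓ U)) with h3 | h3
    · exact Or.inr (Submodule.finrank_eq_zero.1 h3)
    · left
      have h4 := Nat.le_of_dvd h3 h1
      have h5 : T ⊓ U = T := Submodule.eq_of_le_of_finrank_eq inf_le_left (by omega)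
      exact inf_eq_left.1 h5
  have hU3 : finrank F U = 3 := by
    by_contra hne
    have h6 : finrank F U = 6 := by omega
    have hW : W ≤ U := by
      refine (hint W h.ti h.dim h.inv).resolve_right fun h1 => ?_
      have h2 := Submodule.finrank_sup_add_finrank_inf_eq W U
      rw [h1, finrank_bot, h.dim, h6] at h2
      have := Submodule.finrank_le (W ⊔ U)
      omega
    have hW' : W' ≤ U := by
      refine (hint W' h.ti' h.dim' h.inv').resolve_right fun h1 => ?_
      have h2 := Submodule.finrank_sup_add_finrank_inf_eq W' U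
      rw [h1, finrank_bot, h.dim', h6] at h2
      have := Submodule.finrank_le (W' ⊔ U)
      omega
    have h1 : W = ⊥ := by
      rw [eq_bot_iff]
      intro u hu
      exact h.opp u hu fun v hv => hU u (hW hu) v (hW' hv)
    have h2 := h.dim
    rw [h1, finrank_bot] at h2
    omega
  rcases hint W h.ti h.dim h.inv with hWU | hWU
  · exact Or.inl (Submodule.eq_of_le_of_finrank_eq hWU (by rw [h.dim, hU3])).symm
  rcases hint W' h.ti' h.dim' h.inv' with hWU' | hWU'
  · exact Or.inr (Submodule.eq_of_le_of_finrank_eq hWU' (by rw [h.dim', hU3])).symm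
  exfalso
  -- `U ≤ W ⊔ W'`
  have hUle' : U ≤ W ⊔ W' := by
    have h4 : U.map (x - 1) ≤ U := by
      rintro _ ⟨v, hv, rfl⟩
      rw [LinearMap.sub_apply, Module.End.one_apply]
      exact U.sub_mem (hUx v hv) hv
    have h5 : finrank F (U.map (x - 1)) = finrank F U := by
      have h6 : Function.Injective ((x - 1).domRestrict U) := by
        rw [← LinearMap.ker_eq_bot, LinearMap.ker_eq_bot']
        intro v hv
        have h8 : x v - v = 0 := hv
        exact Subtype.ext (h.fix v (sub_eq_zero.1 h8) (hU v v.2 v v.2))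
      have h7 := LinearMap.finrank_range_of_inj h6
      rwa [LinearMap.range_domRestrict] at h7
    have h6 : U.map (x - 1) = U := Submodule.eq_of_le_of_finrank_eq h4 h5
    rw [← h6]
    rintro _ ⟨v, hv, rfl⟩
    exact h.rng v
  -- the decomposition
  let D : (W × W') →ₗ[F] V := W.subtype.coprod W'.subtype
  have hDinj : Function.Injective D := by
    rw [← LinearMap.ker_eq_bot, LinearMap.ker_eq_bot']
    rintro ⟨a, a'⟩ hv
    have h1 : (a : V) + a' = 0 := hv
    have h2 : (a : V) = -a' := eq_neg_of_add_eq_zero_left h1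
    have h3 : (a : V) ∈ W ⊓ W' := ⟨a.2, by rw [h2]; exact W'.neg_mem a'.2⟩
    rw [h.disj, Submodule.mem_bot] at h3
    rw [h3, zero_add] at h1
    exact Prod.ext (Subtype.ext h3) (Subtype.ext h1)
  have hDr : LinearMap.range D = W ⊔ W' := by
    rw [LinearMap.range_coprod, Submodule.range_subtype, Submodule.range_subtype]
  let E : (W × W') ≃ₗ[F] LinearMap.range D := LinearEquiv.ofInjective D hDinj
  let I : U →ₗ[F] LinearMap.range D := Submodule.inclusion (by rw [hDr]; exact hUle')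
  let f : U →ₗ[F] W := (LinearMap.fst F W W').comp ((E.symm : _ →ₗ[F] _).comp I)
  let f' : U →ₗ[F] W' := (LinearMap.snd F W W').comp ((E.symm : _ →ₗ[F] _).comp I)
  have hff : ∀ u : U, (f u : V) + f' u = u := by
    intro u
    have h1 : D (E.symm (I u)) = (E (E.symm (I u)) : V) := rfl
    rw [LinearEquiv.apply_symm_apply] at h1
    exact h1
  have hunique : ∀ (a : W) (a' : W') (u : U), (a : V) + a' = u → f u = a ∧ f' u = a' := by
    intro a a' u hu
    have h1 : D (a, a') = D (f u, f' u) := by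
      show (a : V) + a' = (f u : V) + f' u
      rw [hff, hu]
    have h2 := hDinj h1
    exact ⟨(congrArg Prod.fst h2).symm, (congrArg Prod.snd h2).symm⟩
  have hBr : ∀ a b c, B (a + b) c = B a c + B b c := by
    intro a b c
    rw [hsym, hB.add, hsym c a, hsym c b]
  have hBs : ∀ (t : F) a b, B (t • a) b = t * B a b := by
    intro t a b
    rw [hsym, hB.smul, hsym]
  -- the form on `U`
  set β : U → U → F := fun u v => B (f u) (f' v) with hβ
  have hβadd : ∀ u v w, β u (v + w) = β u v + β u w := by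
    intro u v w
    show B (f u) (f' (v + w)) = _
    rw [map_add, Submodule.coe_add, hB.add]
  have hβadd' : ∀ u v w, β (u + v) w = β u w + β v w := by
    intro u v w
    show B (f (u + v)) (f' w) = _
    rw [map_add, Submodule.coe_add, hBr]
  have hβs : ∀ (t : F) u v, β u (t • v) = t * β u v := by
    intro t u v
    show B (f u) (f' (t • v)) = _
    rw [map_smul, Submodule.coe_smul, hB.smul]
  have hβs' : ∀ (t : F) u v, β (t • u) v = t * β u v := by
    intro t u v
    show B (f (t • u)) (f' v) = _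
    rw [map_smul, Submodule.coe_smul, hBs]
  have hskew : ∀ u v, β u v + β v u = 0 := by
    intro u v
    have h1 := hU u u.2 v v.2
    rw [← hff u, ← hff v, hB.add, hBr, hBr, h.ti _ (f u).2 _ (f v).2, h.ti' _ (f' u).2 _ (f' v).2, add_zero,
      zero_add, add_comm] at h1
    rw [show β v u = B (f' u) (f v) from hsym _ _]
    exact h1
  have halt : ∀ u, β u u = 0 := by
    rcases hchar with h2 | ⟨h2, hBalt⟩
    · intro u
      have h1 := hskew u u
      rw [← two_mul] at h1
      exact (mul_eq_zero.1 h1).resolve_left h2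
    · have hF : ∀ t : F, t * t = t := by
        intro t
        have h1 := FiniteField.pow_card t
        rwa [h2, pow_two] at h1
      let L : U →ₗ[F] F :=
        { toFun := fun u => β u u
          map_add' := fun u v => by
            rw [hβadd, hβadd', hβadd', add_assoc, ← add_assoc (β v u), add_comm (β v u) (β u v), hskew, zero_add]
          map_smul' := fun t u => by
            rw [hβs, hβs', ← mul_assoc, hF]
            rfl }
      set N : Submodule F V := (LinearMap.ker L).map U.subtype with hN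
      have hNU : N ≤ U := Submodule.map_subtype_le _ _
      have hNx : ∀ v ∈ N, x v ∈ N := by
        rintro _ ⟨u, hu, rfl⟩
        have hu' : β u u = 0 := hu
        refine ⟨⟨x u, hUx u u.2⟩, ?_, rfl⟩
        show β ⟨x u, hUx u u.2⟩ ⟨x u, hUx u u.2⟩ = 0
        have h3 := hunique ⟨x (f u), h.inv _ (f u).2⟩ ⟨x (f' u), h.inv' _ (f' u).2⟩ ⟨x u, hUx u u.2⟩ (by
          show x (f u) + x (f' u) = x u
          rw [← map_add, hff])
        show B (f ⟨x u, hUx u u.2⟩) (f' ⟨x u, hUx u u.2⟩) = 0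
        rw [h3.1, h3.2]
        show B (x (f u)) (x (f' u)) = 0
        rw [h.isom]
        exact hu'
      have hN3 := hdiv N (hTle _ _ hNU hU) hNx
      have hNdim : 2 ≤ finrank F N := by
        rw [hN, Submodule.finrank_map_subtype_eq]
        have h3 := LinearMap.finrank_range_add_finrank_ker L
        have h4 : finrank F (LinearMap.range L) ≤ 1 := by
          have := Submodule.finrank_le (LinearMap.range L)
          rwa [finrank_self] at this
        omega
      have hNeq : N = U := Submodule.eq_of_le_of_finrank_le hNU (by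
        have := Nat.le_of_dvd (by omega) hN3
        omega)
      intro u
      have h3 : (u : V) ∈ N := by rw [hNeq]; exact u.2
      obtain ⟨w, hw, hwu⟩ := h3
      have h4 : w = u := Subtype.ext hwu
      rw [← h4]
      exact hw
  -- a vector in the radical
  have hneg : ∀ u v, β u v = -β v u := fun u v => eq_neg_of_add_eq_zero_left (hskew u v)
  obtain ⟨u, hu0, hu⟩ : ∃ u : U, u ≠ 0 ∧ ∀ v, β u v = 0 := by
    let b : Basis (Fin 3) F U := Module.finBasisOfFinrankEq F U hU3
    have hall : ∀ u : U, β u (b 0) = 0 → β u (b 1) = 0 → β u (b 2) = 0 → ∀ v, β u v = 0 := by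
      intro u h0 h1 h2 v
      rw [← b.sum_repr v, Fin.sum_univ_three, hβadd, hβadd, hβs, hβs, hβs, h0, h1, h2]
      ring
    set p := β (b 1) (b 2) with hp
    set q := β (b 2) (b 0) with hq
    set s := β (b 0) (b 1) with hs
    have e10 : β (b 1) (b 0) = -s := hneg _ _
    have e21 : β (b 2) (b 1) = -p := hneg _ _
    have e02 : β (b 0) (b 2) = -q := hneg _ _
    by_cases hz : p • b 0 + q • b 1 + s • b 2 = 0
    · have h1 := b.linearIndependent
      rw [Fintype.linearIndependent_iff] at h1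
      have h2 := h1 ![p, q, s] (by
        rw [Fin.sum_univ_three]
        exact hz)
      have hp0 : p = 0 := h2 0
      have hq0 : q = 0 := h2 1
      have hs0 : s = 0 := h2 2
      refine ⟨b 0, b.ne_zero 0, hall _ (halt _) hs0 ?_⟩
      rw [e02, hq0, neg_zero]
    · refine ⟨_, hz, hall _ ?_ ?_ ?_⟩
      · rw [hβadd', hβadd', hβs', hβs', hβs', halt, e10]
        ring
      · rw [hβadd', hβadd', hβs', hβs', hβs', halt, e21]
        ring
      · rw [hβadd', hβadd', hβs', hβs', hβs', halt, e02]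
        ring
  -- `f'` is surjective
  have hf'inj : Function.Injective f' := by
    rw [← LinearMap.ker_eq_bot, LinearMap.ker_eq_bot']
    intro v hv
    have h1 := hff v
    rw [hv, Submodule.coe_zero, add_zero] at h1
    have h2 : (v : V) ∈ W ⊓ U := ⟨by rw [← h1]; exact (f v).2, v.2⟩
    rw [hWU, Submodule.mem_bot] at h2
    exact Subtype.ext h2
  have hf'surj : Function.Surjective f' :=
    (LinearMap.injective_iff_surjective_of_finrank_eq_finrank (by rw [hU3, h.dim'])).1 hf'inj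
  have h1 : (f u : V) = 0 := by
    refine h.opp _ (f u).2 fun v hv => ?_
    obtain ⟨w, hw⟩ := hf'surj ⟨v, hv⟩
    have h2 := hu w
    rw [hβ] at h2
    have h3 : B (f u) (f' w) = 0 := h2
    rw [hw] at h3
    exact h3
  have h2 : (u : V) ∈ W' ⊓ U := by
    refine ⟨?_, u.2⟩
    rw [← hff u, h1, zero_add]
    exact (f' u).2
  rw [hWU', Submodule.mem_bot] at h2
  exact hu0 (Subtype.ext h2)

end

section Main

variable {F : Type u} [Field F] [Fintype F] {V : Type v} [AddCommGroup V] [Module F V] [FiniteDimensional F V]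
  {G : Type w} [Group G] {B : V → V → F}

/-- Invariant totally isotropic subspaces from normal subgroups of characteristic power order. -/
theorem bot_or_ti (φ : G →* (V →ₗ[F] V)) (hφ : Function.Injective φ) (hB : Frm B)
    (hGB : ∀ g u v, B (φ g u) (φ g v) = B u v) {M : Subgroup G} {ℓ : ℕ} (hℓ : ℓ.Prime)
    (hℓF : ℓ ∣ Fintype.card F) {P : Subgroup G} (hn : ∀ g ∈ M, ∀ n ∈ P, g * n * g⁻¹ ∈ P) (hP : IsPGroup ℓ P) :
    P = ⊥ ∨ ∃ W : Submodule F V, W ≠ ⊥ ∧ TI B W ∧ (∀ g ∈ M, ∀ v ∈ W, φ g v ∈ W) ∧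
      W = fixSub φ P ⊓ perp hB (fixSub φ P) := by
  have hn' : ∀ g ∈ M, ∀ n ∈ P, g⁻¹ * n * g ∈ P := by
    intro g hg n hn''
    have := hn g⁻¹ (M.inv_mem hg) n hn''
    rwa [inv_inv] at this
  set U := fixSub φ P with hU
  have hUinv : ∀ g ∈ M, ∀ v ∈ U, φ g v ∈ U := fun g hg => fixSub_invariant (hn' g hg)
  have hUperp : ∀ g : G, (∀ v ∈ U, φ g⁻¹ v ∈ U) → ∀ v ∈ perp hB U, φ g v ∈ perp hB U := by
    intro g hg
    refine perp_invariant (g' := φ g⁻¹) (hGB g) (fun x => ?_) hg
    rw [← Module.End.mul_apply, ← map_mul, mul_inv_cancel, map_one]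
    rfl
  by_cases hW : U ⊓ perp hB U = ⊥
  · left
    have h1 : perp hB U = ⊥ := by
      by_contra hne
      have h2 := fixSub_inf_ne_bot φ hℓ hℓF hP (perp hB U) (fun m hm => hUperp m (fun v hv => by
        have h3 : φ m⁻¹ v = v := hv m⁻¹ (P.inv_mem hm)
        rw [h3]
        exact hv)) hne
      rw [inf_comm] at h2
      exact h2 hW
    have h2 := finrank_perp hB U
    rw [h1, finrank_bot, add_zero] at h2
    exact eq_bot_of_fixSub φ hφ (Submodule.eq_top_of_finrank_eq (le_antisymm (Submodule.finrank_le _) h2))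
  · right
    exact ⟨_, hW, fun u hu v hv => hv.2 u hu.1, fun g hg v hv =>
      ⟨hUinv g hg v hv.1, hUperp g (hUinv g⁻¹ (M.inv_mem hg)) v hv.2⟩, rfl⟩

variable [Finite G]

/-- Two solvably related elements are powers of each other or fix a totally isotropic subspace. -/
theorem share_pair (φ : G →* (V →ₗ[F] V)) (hφ : Function.Injective φ) (hB : Frm B)
    (hGB : ∀ g u v, B (φ g u) (φ g v) = B u v) {r : ℕ} (hr : r.Prime) (hr2 : r ≠ 2)
    (h2 : ¬ r ^ 2 ∣ Nat.card G) (hs : Size (Fintype.card F) (finrank F V) r 1)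
    {x z : G} (hx : orderOf x = r)
    (hz : orderOf z = r) {M : Subgroup G} (hM : Group.IsSolvable M) (hxM : x ∈ M) (hzM : z ∈ M) :
    z ∈ Subgroup.zpowers x ∨ ∃ W : Submodule F V, W ≠ ⊥ ∧ TI B W ∧ (∀ g ∈ M, ∀ v ∈ W, φ g v ∈ W) := by
  by_cases hcore : ∀ ℓ : ℕ, ℓ.Prime → ℓ ∣ Fintype.card F →
      ∀ P : Subgroup G, P ≤ M → (∀ g ∈ M, ∀ n ∈ P, g * n * g⁻¹ ∈ P) → IsPGroup ℓ P → P = ⊥
  · left
    have hx' : orderOf x = r ^ 1 := by rw [hx, pow_one]
    refine mem_zpowers_of_comm hr le_rfl F hx' hM hxM (comm_of_not_sq hr h2)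
      (fun T t hTM ht htp htF hT hTn => ?_) hcore z hzM hz
    refine centralize_rep φ hφ hr hr2 le_rfl ht htp (cast_ne_zero_of_not_dvd ht htF) hx' hT (hTn x hxM) ?_
    rcases hs with h | ⟨h1, h2, h3⟩
    · exact Or.inl h
    · refine Or.inr ⟨h1, h2, ?_⟩
      rintro ⟨rfl, h4⟩
      rcases h3 with h3 | h3
      · exact htF h3
      · exact h3 h4
  · right
    push Not at hcore
    obtain ⟨ℓ, hℓ, hℓF, P, hPM, hn, hP, hPne⟩ := hcore
    obtain ⟨W, hW, hTI, hWM, -⟩ := (bot_or_ti φ hφ hB hGB hℓ hℓF hn hP).resolve_left hPne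
    exact ⟨W, hW, hTI, hWM⟩

/-- The data. -/
structure Dat (φ : G →* (V →ₗ[F] V)) (B : V → V → F) (r : ℕ) : Prop where
  inj : Function.Injective φ
  frm : Frm B
  sym : ∀ x y, B x y = B y x
  isom : ∀ g u v, B (φ g u) (φ g v) = B u v
  prime : r.Prime
  ne_two : r ≠ 2
  not_sq : ¬ r ^ 2 ∣ Nat.card G
  size : Size (Fintype.card F) (finrank F V) r 1
  not_dvd : ¬ r ∣ Fintype.card F
  ord : orderOf ((Fintype.card F : ℕ) : ZMod r) = 3
  dim : finrank F V ≤ 7
  char : (2 : F) ≠ 0 ∨ (Fintype.card F = 2 ∧ ∀ v, B v v = 0)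

theorem pair_false {φ : G →* (V →ₗ[F] V)} {r : ℕ} (D : Dat φ B r) {x y : G} (hx : orderOf x = r)
    (hy : orderOf y = r) {W W' A A' : Submodule F V} (hxp : GP B r (φ x) W W') (hyp : GP B r (φ y) A A')
    (h1 : W ≠ A) (h2 : W ≠ A') (h3 : W' ≠ A) (h4 : W' ≠ A') {M : Subgroup G} (hM : Group.IsSolvable M)
    (hxM : x ∈ M) (hyM : y ∈ M) : False := by
  have key : ∀ U : Submodule F V, U ≠ ⊥ → TI B U → (∀ v ∈ U, φ x v ∈ U) → (∀ v ∈ U, φ y v ∈ U) → False := by
    intro U hU hTI hUx hUy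
    rcases hxp.eq_or D.frm D.sym D.prime D.not_dvd D.ord D.dim D.char hU hTI hUx with h5 | h5 <;>
      rcases hyp.eq_or D.frm D.sym D.prime D.not_dvd D.ord D.dim D.char hU hTI hUy with h6 | h6
    · exact h1 (h5.symm.trans h6)
    · exact h2 (h5.symm.trans h6)
    · exact h3 (h5.symm.trans h6)
    · exact h4 (h5.symm.trans h6)
  rcases share_pair φ D.inj D.frm D.isom D.prime D.ne_two D.not_sq D.size hx hy hM hxM hyM with h | ⟨U, hU, hTI, hUM⟩
  · -- `A` is invariant under `x`
    have h5 : x ∈ Subgroup.zpowers y := mem_zpowers_symm D.prime hy hx h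
    obtain ⟨k, hk⟩ : ∃ k : ℕ, y ^ k = x := mem_powers_iff_mem_zpowers.2 h5
    have hA0 : A ≠ ⊥ := by
      intro h0
      have h6 := hyp.dim
      rw [h0, finrank_bot] at h6
      omega
    refine key A hA0 hyp.ti ?_ hyp.inv
    rw [← hk, map_pow]
    clear hk
    intro v hv
    induction k with
    | zero => exact hv
    | succ k ih =>
      rw [pow_succ', Module.End.mul_apply]
      exact hyp.inv _ ih
  · exact key U hU hTI (hUM x hxM) (hUM y hyM)

/-- **The abstract theorem.** -/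
theorem pair_exc {φ : G →* (V →ₗ[F] V)} {r : ℕ} (D : Dat φ B r) {K : Type w'} [Group K] [IsSimpleGroup K]
    (π : G →* K) (hπ : Function.Surjective π) (hker : Group.IsSolvable π.ker) (hkr : ¬ r ∣ Nat.card π.ker)
    (Ex : ∀ W₁ : Submodule F V, TI B W₁ → finrank F W₁ = 3 → ∀ x : V, B x x = 0 → x ∉ W₁ →
      ∀ A₁ A₂ : Submodule F V, ∃ z : G, orderOf z = r ∧ ∃ W', GP B r (φ z) W₁ W' ∧ x ∈ W' ∧ W' ≠ A₁ ∧ W' ≠ A₂)
    {z₀ : G} (hz₀ : orderOf z₀ = r) {W₀ W₀' : Submodule F V} (hGP₀ : GP B r (φ z₀) W₀ W₀')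
    {β : MulAut K} (hβ : β ≠ 1) (γ : MulAut G) (hγ : ∀ g, π (γ g) = β (π g)) (b : V ≃ₗ[F] V) {c : F} (hc : c ≠ 0)
    (hb : ∀ u v, B (b u) (b v) = c * B u v) (hφb : ∀ g v, φ (γ g) (b v) = b (φ g v)) :
    ∃ y : K, orderOf y = r ∧ ¬ Group.IsSolvable (Subgroup.closure ({y, β y} : Set K)) := by
  have hr := D.prime
  have : Fact r.Prime := ⟨hr⟩
  have hmapG : ∀ (g : G) (W₁ : Submodule F V), TI B W₁ → finrank F W₁ = 3 →
      TI B (W₁.map (φ g)) ∧ finrank F (W₁.map (φ g)) = 3 := by
    intro g W₁ hTI h3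
    have hinj : Function.Injective (φ g) := by
      intro a b hab
      have h1 : φ g⁻¹ (φ g a) = φ g⁻¹ (φ g b) := by rw [hab]
      rw [← Module.End.mul_apply, ← Module.End.mul_apply, ← map_mul, inv_mul_cancel, map_one] at h1
      exact h1
    refine ⟨?_, ?_⟩
    · rintro _ ⟨u, hu, rfl⟩ _ ⟨v, hv, rfl⟩
      rw [D.isom]
      exact hTI u hu v hv
    · rw [← h3]
      exact (LinearEquiv.finrank_eq (Submodule.equivMapOfInjective (φ g) hinj W₁)).symm
  have hinvφ : ∀ (g : G) (v : V), φ g⁻¹ (φ g v) = v := by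
    intro g v
    rw [← Module.End.mul_apply, ← map_mul, inv_mul_cancel, map_one]
    rfl
  have hφinv : ∀ (g : G) (v : V), φ g (φ g⁻¹ v) = v := by
    intro g v
    rw [← Module.End.mul_apply, ← map_mul, mul_inv_cancel, map_one]
    rfl
  -- a moved subspace
  obtain ⟨W₁, hTI, h3, hmove⟩ : ∃ W₁ : Submodule F V, TI B W₁ ∧ finrank F W₁ = 3 ∧
      W₁.map (b : V →ₗ[F] V) ≠ W₁ := by
    by_contra hcon
    push Not at hcon
    let N : Subgroup G :=
      { carrier := {g | ∀ W₁ : Submodule F V, TI B W₁ → finrank F W₁ = 3 →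
          (∀ v ∈ W₁, φ g v ∈ W₁) ∧ (∀ v ∈ W₁, φ g⁻¹ v ∈ W₁)}
        one_mem' := fun W₁ _ _ => ⟨fun v hv => by rw [map_one]; exact hv, fun v hv => by
          rw [inv_one, map_one]
          exact hv⟩
        mul_mem' := fun {g h} hg hh W₁ h1 h2 => ⟨fun v hv => by
          rw [map_mul, Module.End.mul_apply]
          exact (hg W₁ h1 h2).1 _ ((hh W₁ h1 h2).1 v hv), fun v hv => by
          rw [mul_inv_rev, map_mul, Module.End.mul_apply]
          exact (hh W₁ h1 h2).2 _ ((hg W₁ h1 h2).2 v hv)⟩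
        inv_mem' := fun {g} hg W₁ h1 h2 => ⟨(hg W₁ h1 h2).2, by rw [inv_inv]; exact (hg W₁ h1 h2).1⟩ }
    have hNmem : ∀ g, g ∈ N ↔ ∀ W₁ : Submodule F V, TI B W₁ → finrank F W₁ = 3 →
          (∀ v ∈ W₁, φ g v ∈ W₁) ∧ (∀ v ∈ W₁, φ g⁻¹ v ∈ W₁) := fun g => Iff.rfl
    have hNn : N.Normal := by
      constructor
      intro n hn g W₁ h1 h2
      obtain ⟨h4, h5⟩ := hmapG g⁻¹ W₁ h1 h2
      have h6 := hn _ h4 h5
      have hback : ∀ u ∈ W₁.map (φ g⁻¹), φ g u ∈ W₁ := by
        rintro _ ⟨u, hu, rfl⟩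
        rw [hφinv]
        exact hu
      refine ⟨fun v hv => ?_, fun v hv => ?_⟩
      · rw [map_mul, map_mul, Module.End.mul_apply, Module.End.mul_apply]
        exact hback _ (h6.1 _ ⟨v, hv, rfl⟩)
      · have e : (g * n * g⁻¹)⁻¹ = g * n⁻¹ * g⁻¹ := by group
        rw [e, map_mul, map_mul, Module.End.mul_apply, Module.End.mul_apply]
        exact hback _ (h6.2 _ ⟨v, hv, rfl⟩)
    have hNγ : ∀ g : G, g⁻¹ * γ g ∈ N := by
      intro g W₁ h1 h2
      obtain ⟨h4, h5⟩ := hmapG g W₁ h1 h2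
      have hb1 := hcon W₁ h1 h2
      have hb2 := hcon _ h4 h5
      refine ⟨fun v hv => ?_, fun v hv => ?_⟩
      · rw [← hb1] at hv
        obtain ⟨u, hu, rfl⟩ := hv
        have h6 : φ (γ g) (b u) ∈ W₁.map (φ g) := by
          rw [hφb, ← hb2]
          exact ⟨_, ⟨u, hu, rfl⟩, rfl⟩
        obtain ⟨w, hw, hw'⟩ := h6
        rw [map_mul, Module.End.mul_apply]
        show φ g⁻¹ (φ (γ g) (b u)) ∈ W₁
        rw [← hw', hinvφ]
        exact hw
      · have e : (g⁻¹ * γ g)⁻¹ = γ g⁻¹ * g := by rw [map_inv]; group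
        rw [e, map_mul, Module.End.mul_apply]
        have h6 : φ g v ∈ W₁.map (φ g) := ⟨v, hv, rfl⟩
        rw [← hb2] at h6
        obtain ⟨u, ⟨w, hw, rfl⟩, hu'⟩ := h6
        rw [← hu']
        show φ (γ g⁻¹) (b (φ g w)) ∈ W₁
        rw [hφb, hinvφ, ← hb1]
        exact ⟨w, hw, rfl⟩
    have hNπ : (N.map π).Normal := hNn.map π hπ
    rcases hNπ.eq_bot_or_eq_top with h1 | h1
    · apply hβ
      ext k
      obtain ⟨g, rfl⟩ := hπ k
      have h2 : π (g⁻¹ * γ g) ∈ N.map π := ⟨_, hNγ g, rfl⟩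
      rw [h1, Subgroup.mem_bot, map_mul, map_inv, hγ] at h2
      exact (inv_mul_eq_one.1 h2).symm
    · -- `z₀ ∈ N`
      have h2 : π z₀ ∈ N.map π := by rw [h1]; trivial
      obtain ⟨n, hn, hn'⟩ := h2
      have h4 : orderOf (π z₀) = r := by
        have := orderOf_map (a := 1) hr (by rw [hz₀, pow_one]) π hkr
        rwa [pow_one] at this
      have h5 : r ∣ orderOf n := by
        rw [← h4, ← hn']
        exact orderOf_map_dvd π n
      have h6 : orderOf (n ^ (orderOf n / r)) = r := by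
        rw [orderOf_pow_of_dvd (Nat.div_pos (Nat.le_of_dvd (orderOf_pos n) h5) hr.pos).ne' (Nat.div_dvd_of_dvd h5),
          Nat.div_div_self h5 (orderOf_pos n).ne']
      obtain ⟨g, hg⟩ := exists_conj_zpowers hr D.not_sq h6 hz₀
      have h7 : z₀ ∈ N := by
        refine (Subgroup.zpowers_le.2 ?_) hg
        exact hNn.conj_mem _ (N.pow_mem hn _) g
      -- contradiction
      have hW0 : W₀' ≠ ⊥ := by
        intro h0
        have h8 := hGP₀.dim'
        rw [h0, finrank_bot] at h8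
        omega
      obtain ⟨x, hx, hx0⟩ := (Submodule.ne_bot_iff _).1 hW0
      have hxW : x ∉ W₀ := by
        intro h8
        have h9 : x ∈ W₀ ⊓ W₀' := ⟨h8, hx⟩
        rw [hGP₀.disj, Submodule.mem_bot] at h9
        exact hx0 h9
      obtain ⟨z, -, W', hz', -, hA1, hA2⟩ := Ex W₀ hGP₀.ti hGP₀.dim x (hGP₀.ti' x hx x hx) hxW W₀ W₀'
      have hW'0 : W' ≠ ⊥ := by
        intro h0
        have h8 := hz'.dim'
        rw [h0, finrank_bot] at h8
        omega
      rcases hGP₀.eq_or D.frm D.sym hr D.not_dvd D.ord D.dim D.char hW'0 hz'.ti' (h7 W' hz'.ti' hz'.dim').1 with h8 | h8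
      · exact hA1 h8
      · exact hA2 h8
  -- the singular vector
  obtain ⟨x, hx, hxW⟩ : ∃ x ∈ W₁.map (b : V →ₗ[F] V), x ∉ W₁ := by
    by_contra hcon
    push Not at hcon
    exact hmove (Submodule.eq_of_le_of_finrank_eq hcon (LinearEquiv.finrank_map_eq b W₁))
  obtain ⟨u, hu, hux⟩ := hx
  have hux' : b u = x := hux
  have hxx : B x x = 0 := by rw [← hux', hb, hTI u hu u hu, mul_zero]
  obtain ⟨z, hz, W', hzW, hxW', hA1, hA2⟩ := Ex W₁ hTI h3 x hxx hxW (W₁.map (b : V →ₗ[F] V))
    (W₁.map (b.symm : V →ₗ[F] V))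
  refine ⟨π z, ?_, fun hs => ?_⟩
  · have := orderOf_map (a := 1) hr (by rw [hz, pow_one]) π hkr
    rwa [pow_one] at this
  · have h4 : (Subgroup.closure ({z, γ z} : Set G)).map π = Subgroup.closure ({π z, β (π z)} : Set K) := by
      rw [MonoidHom.map_closure, Set.image_pair, hγ]
    have h5 : Group.IsSolvable (Subgroup.closure ({z, γ z} : Set G)) := by
      apply solvable_of_map π hker
      rw [h4]
      exact hs
    have h6 := hzW.conj b hc hb (y := φ (γ z)) (fun v => hφb z v)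
    refine pair_false D hz (by rw [MulEquiv.orderOf_eq, hz]) hzW h6 hmove.symm ?_ hA1 ?_ h5
      (Subgroup.subset_closure (by simp)) (Subgroup.subset_closure (by simp))
    · intro h7
      apply hA2
      rw [h7, ← Submodule.map_comp]
      have : ((b.symm : V →ₗ[F] V).comp (b : V →ₗ[F] V)) = LinearMap.id := by
        ext v
        simp
      rw [this, Submodule.map_id]
    · intro h7
      have h8 : x ∈ W'.map (b : V →ₗ[F] V) := by rw [← h7]; exact hxW'
      obtain ⟨u', hu', hux''⟩ := h8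
      have h9 : u = u' := b.injective (hux'.trans (show b u' = x from hux'').symm)
      have h10 : u ∈ W₁ ⊓ W' := ⟨hu, by rw [h9]; exact hu'⟩
      rw [hzW.disj, Submodule.mem_bot] at h10
      rw [h10, map_zero] at hux'
      rw [← hux'] at hxW
      exact hxW W₁.zero_mem

end Main

end Cfsg.Agent.H518.SU
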