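import Mathlib
import Cfsg.Agent.H518.SUPair

/-!
# Frames and elements of order `r`
-/

set_option autoImplicit false
set_option linter.unusedSectionVars false

namespace Cfsg.Agent.H518.SU

open Module Cfsg.Agent.H518.DghpFix Cfsg.Agent.H518.DghpPrim Matrix

universe u v w w'

section

variable {F : Type u} [Field F] {V : Type v} [AddCommGroup V] [Module F V]

/-- A frame. -/
structure Fr (B : V → V → F) (E E' : (Fin 3 → F) →ₗ[F] V) : Prop where
  ee : ∀ a b, B (E a) (E b) = 0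
  ee' : ∀ a b, B (E' a) (E' b) = 0
  dual : ∀ a b, B (E a) (E' b) = a ⬝ᵥ b

variable {B : V → V → F}

/-- The coordinates. -/
def pc (hB : Frm B) (E : (Fin 3 → F) →ₗ[F] V) : V →ₗ[F] (Fin 3 → F) where
  toFun v i := B (E (Pi.single i 1)) v
  map_add' u v := by
    funext i
    exact hB.add _ _ _
  map_smul' c v := by
    funext i
    exact hB.smul _ _ _

theorem pc_apply (hB : Frm B) (E : (Fin 3 → F) →ₗ[F] V) (v : V) (i : Fin 3) : pc hB E v i = B (E (Pi.single i 1)) v :=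
  rfl

theorem B_E (hB : Frm B) (hsym : ∀ x y, B x y = B y x) (E : (Fin 3 → F) →ₗ[F] V) (a : Fin 3 → F) (v : V) :
    B (E a) v = a ⬝ᵥ pc hB E v := by
  have h1 : a = ∑ i, a i • (Pi.single i 1 : Fin 3 → F) := by
    ext j
    simp [Finset.sum_apply, Pi.single_apply]
  have h2 : E a = ∑ i, a i • E (Pi.single i 1) := by
    conv_lhs => rw [h1, map_sum]
    exact Finset.sum_congr rfl fun i _ => map_smul _ _ _
  rw [hsym, h2, hB.sum]
  refine Finset.sum_congr rfl fun i _ => ?_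
  rw [hB.smul, hsym, pc_apply]

theorem Fr.pc_E' {E E' : (Fin 3 → F) →ₗ[F] V} (h : Fr B E E') (hB : Frm B) (b : Fin 3 → F) : pc hB E (E' b) = b := by
  funext i
  rw [pc_apply, h.dual]
  simp

theorem Fr.pc'_E {E E' : (Fin 3 → F) →ₗ[F] V} (h : Fr B E E') (hB : Frm B) (hsym : ∀ x y, B x y = B y x)
    (a : Fin 3 → F) : pc hB E' (E a) = a := by
  funext i
  rw [pc_apply, hsym, h.dual]
  simp

theorem Fr.pc_E {E E' : (Fin 3 → F) →ₗ[F] V} (h : Fr B E E') (hB : Frm B) (b : Fin 3 → F) : pc hB E (E b) = 0 := by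
  funext i
  rw [pc_apply, h.ee]
  rfl

theorem Fr.pc'_E' {E E' : (Fin 3 → F) →ₗ[F] V} (h : Fr B E E') (hB : Frm B) (b : Fin 3 → F) :
    pc hB E' (E' b) = 0 := by
  funext i
  rw [pc_apply, h.ee']
  rfl

/-- The Levi element. -/
def lv (hB : Frm B) (E E' : (Fin 3 → F) →ₗ[F] V) (M M' : Matrix (Fin 3) (Fin 3) F) : V →ₗ[F] V :=
  1 + E.comp ((Matrix.toLin' (M - 1)).comp (pc hB E')) + E'.comp ((Matrix.toLin' (M' - 1)).comp (pc hB E))

theorem lv_apply (hB : Frm B) (E E' : (Fin 3 → F) →ₗ[F] V) (M M' : Matrix (Fin 3) (Fin 3) F) (v : V) :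
    lv hB E E' M M' v = v + E ((M - 1) *ᵥ pc hB E' v) + E' ((M' - 1) *ᵥ pc hB E v) := rfl

theorem lv_one (hB : Frm B) (E E' : (Fin 3 → F) →ₗ[F] V) : lv hB E E' 1 1 = 1 := by
  ext v
  rw [lv_apply, sub_self, zero_mulVec, zero_mulVec, map_zero, map_zero, add_zero, add_zero]
  rfl

theorem pc_lv {E E' : (Fin 3 → F) →ₗ[F] V} (h : Fr B E E') (hB : Frm B) (hsym : ∀ x y, B x y = B y x)
    (M M' : Matrix (Fin 3) (Fin 3) F) (v : V) :
    pc hB E' (lv hB E E' M M' v) = M *ᵥ pc hB E' v ∧ pc hB E (lv hB E E' M M' v) = M' *ᵥ pc hB E v := by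
  constructor
  · rw [lv_apply, map_add, map_add, h.pc'_E hB hsym, h.pc'_E' hB, add_zero, sub_mulVec, one_mulVec,
      add_sub_cancel]
  · rw [lv_apply, map_add, map_add, h.pc_E hB, h.pc_E' hB, add_zero, sub_mulVec, one_mulVec, add_sub_cancel]

theorem lv_mul {E E' : (Fin 3 → F) →ₗ[F] V} (h : Fr B E E') (hB : Frm B) (hsym : ∀ x y, B x y = B y x)
    (M M' N N' : Matrix (Fin 3) (Fin 3) F) : lv hB E E' M M' * lv hB E E' N N' = lv hB E E' (M * N) (M' * N') := by
  ext v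
  rw [Module.End.mul_apply, lv_apply, (pc_lv h hB hsym N N' v).1, (pc_lv h hB hsym N N' v).2, lv_apply, lv_apply,
    mulVec_mulVec, mulVec_mulVec, sub_mul, one_mul, sub_mul, one_mul, sub_mulVec (M * N) N, sub_mulVec (M' * N') N',
    sub_mulVec N, sub_mulVec N', one_mulVec, one_mulVec, sub_mulVec (M * N) 1, sub_mulVec (M' * N') 1, one_mulVec,
    one_mulVec]
  simp only [map_sub]
  abel

theorem lv_pow {E E' : (Fin 3 → F) →ₗ[F] V} (h : Fr B E E') (hB : Frm B) (hsym : ∀ x y, B x y = B y x)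
    (M M' : Matrix (Fin 3) (Fin 3) F) (k : ℕ) : lv hB E E' M M' ^ k = lv hB E E' (M ^ k) (M' ^ k) := by
  induction k with
  | zero => rw [pow_zero, pow_zero, pow_zero, lv_one]
  | succ k ih => rw [pow_succ, pow_succ, pow_succ, ih, lv_mul h hB hsym]

theorem lv_isom {E E' : (Fin 3 → F) →ₗ[F] V} (h : Fr B E E') (hB : Frm B) (hsym : ∀ x y, B x y = B y x)
    {M M' : Matrix (Fin 3) (Fin 3) F} (hM : ∀ a b, (M *ᵥ a) ⬝ᵥ (M' *ᵥ b) = a ⬝ᵥ b) (u v : V) :
    B (lv hB E E' M M' u) (lv hB E E' M M' v) = B u v := by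
  set a := pc hB E' u with ha
  set a' := pc hB E u with ha'
  set c := pc hB E' v with hc
  set c' := pc hB E v with hc'
  have hl := pc_lv h hB hsym M M' v
  have h1 : B (lv hB E E' M M' u) (lv hB E E' M M' v) =
      B u (lv hB E E' M M' v) + ((M - 1) *ᵥ a) ⬝ᵥ (M' *ᵥ c') + ((M' - 1) *ᵥ a') ⬝ᵥ (M *ᵥ c) := by
    rw [lv_apply hB E E' M M' u, hsym, hB.add, hB.add, hsym _ u, hsym _ (E _), hsym _ (E' _), B_E hB hsym, B_E hB hsym,
      hl.1, hl.2]
  have h2 : B u (lv hB E E' M M' v) = B u v + ((M - 1) *ᵥ c) ⬝ᵥ a' + ((M' - 1) *ᵥ c') ⬝ᵥ a := by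
    rw [lv_apply, hB.add, hB.add, hsym u (E _), hsym u (E' _), B_E hB hsym, B_E hB hsym]
  rw [h1, h2]
  simp only [sub_mulVec, one_mulVec, sub_dotProduct, hM]
  rw [dotProduct_comm (M' *ᵥ a') (M *ᵥ c), hM, dotProduct_comm (M *ᵥ c) a', dotProduct_comm (M' *ᵥ c') a,
    dotProduct_comm c a', dotProduct_comm c' a]
  ring

end

section

variable {F : Type u} [Field F] [Fintype F] {V : Type v} [AddCommGroup V] [Module F V] [FiniteDimensional F V]
  {B : V → V → F}

/-- Elements of order `r` of `GL_3`. -/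
theorem exists_gl_three {r : ℕ} (hr : r.Prime) (he : orderOf ((Fintype.card F : ℕ) : ZMod r) = 3) :
    ∃ A : GL (Fin 3) F, orderOf A = r := by
  classical
  have : Fact r.Prime := ⟨hr⟩
  have h1 : r ∣ Nat.card (GL (Fin 3) F) := by
    rw [Matrix.card_GL_field, Fin.prod_univ_three]
    have h2 : r ∣ Fintype.card F ^ 3 - 1 := dvd_pow_sub_one Fintype.card_pos he
    refine Dvd.dvd.mul_right (Dvd.dvd.mul_right ?_ _) _
    simpa using h2
  exact exists_prime_orderOf_dvd_card' r h1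

theorem no_fix {r : ℕ} (hr : r.Prime) (hrF : ¬ r ∣ Fintype.card F) (he : orderOf ((Fintype.card F : ℕ) : ZMod r) = 3)
    {M : Matrix (Fin 3) (Fin 3) F} (hM : M ^ r = 1) (hM1 : M ≠ 1) {v : Fin 3 → F} (hv : M *ᵥ v = v) : v = 0 := by
  have h1 : Matrix.toLin' M ^ r ^ 1 = 1 := by
    rw [pow_one, ← Matrix.toLin'_pow, hM, Matrix.toLin'_one]
    rfl
  have h2 := finrank_fix hr hrF h1 ⊤ (fun _ _ => trivial)
  rw [top_inf_eq, finrank_top, Module.finrank_fin_fun, he] at h2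
  have h3 : finrank F (fixS (Matrix.toLin' M)) ≤ 3 := by
    have := Submodule.finrank_le (fixS (Matrix.toLin' M))
    rwa [Module.finrank_fin_fun] at this
  have h4 : finrank F (fixS (Matrix.toLin' M)) ≠ 3 := by
    intro h4
    apply hM1
    have h5 : fixS (Matrix.toLin' M) = ⊤ := Submodule.eq_top_of_finrank_eq (by rw [h4, Module.finrank_fin_fun])
    rw [fixS_eq_top_iff] at h5
    apply Matrix.toLin'.injective
    rw [h5, Matrix.toLin'_one]
    rfl
  have h5 : finrank F (fixS (Matrix.toLin' M)) = 0 := by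
    obtain ⟨k, hk⟩ := h2
    omega
  have h6 : v ∈ fixS (Matrix.toLin' M) := by
    rw [mem_fixS, Matrix.toLin'_apply]
    exact hv
  rw [Submodule.finrank_eq_zero.1 h5, Submodule.mem_bot] at h6
  exact h6

theorem Fr.injective {E E' : (Fin 3 → F) →ₗ[F] V} (h : Fr B E E') (hB : Frm B) (hsym : ∀ x y, B x y = B y x) :
    Function.Injective E ∧ Function.Injective E' := by
  constructor
  · intro a b hab
    rw [← h.pc'_E hB hsym a, hab, h.pc'_E hB hsym]
  · intro a b hab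
    rw [← h.pc_E' hB a, hab, h.pc_E' hB]

/-- **The element attached to a frame.** -/
theorem Fr.exists_gp {E E' : (Fin 3 → F) →ₗ[F] V} (h : Fr B E E') (hB : Frm B) (hsym : ∀ x y, B x y = B y x)
    {r : ℕ} (hr : r.Prime) (hrF : ¬ r ∣ Fintype.card F) (he : orderOf ((Fintype.card F : ℕ) : ZMod r) = 3)
    (hV : finrank F V ≤ 7) :
    ∃ x : V →ₗ[F] V, GP B r x (LinearMap.range E) (LinearMap.range E') := by
  obtain ⟨A, hA⟩ := exists_gl_three (F := F) hr he
  have hAr : A ^ r = 1 := by rw [← hA, pow_orderOf_eq_one]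
  have hA1 : A ≠ 1 := by
    rintro rfl
    rw [orderOf_one] at hA
    exact hr.one_lt.ne hA
  set M : Matrix (Fin 3) (Fin 3) F := A.1 with hM
  set M' : Matrix (Fin 3) (Fin 3) F := (A⁻¹ : GL (Fin 3) F).1ᵀ with hM'
  have hMr : M ^ r = 1 := by
    have := congrArg Units.val hAr
    rwa [Units.val_pow_eq_pow_val, Units.val_one] at this
  have hM'r : M' ^ r = 1 := by
    rw [hM', ← transpose_pow, ← Units.val_pow_eq_pow_val, inv_pow, hAr, inv_one, Units.val_one, transpose_one]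
  have hM1 : M ≠ 1 := fun h1 => hA1 (Units.ext h1)
  have hM'1 : M' ≠ 1 := by
    intro h1
    apply hA1
    have h2 : (A⁻¹ : GL (Fin 3) F).1 = 1 := by
      rw [← transpose_transpose (A⁻¹ : GL (Fin 3) F).1, ← hM', h1, transpose_one]
    have h3 : A⁻¹ = 1 := Units.ext h2
    rwa [inv_eq_one] at h3
  have hdual : ∀ a b, (M *ᵥ a) ⬝ᵥ (M' *ᵥ b) = a ⬝ᵥ b := by
    intro a b
    rw [hM', mulVec_transpose, ← dotProduct_comm, ← dotProduct_mulVec, mulVec_mulVec, hM, ← Units.val_mul,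
      inv_mul_cancel, Units.val_one, one_mulVec, dotProduct_comm]
  obtain ⟨hEi, hE'i⟩ := h.injective hB hsym
  set x := lv hB E E' M M' with hx
  have hxE : ∀ a, x (E a) = E (M *ᵥ a) := by
    intro a
    rw [hx, lv_apply, h.pc'_E hB hsym, h.pc_E hB, mulVec_zero, map_zero, add_zero, ← map_add, sub_mulVec, one_mulVec,
      add_sub_cancel]
  have hxE' : ∀ a, x (E' a) = E' (M' *ᵥ a) := by
    intro a
    rw [hx, lv_apply, h.pc'_E' hB, h.pc_E' hB, mulVec_zero, map_zero, add_zero, ← map_add, sub_mulVec, one_mulVec,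
      add_sub_cancel]
  have hd : finrank F (LinearMap.range E) = 3 := by rw [LinearMap.finrank_range_of_inj hEi, Module.finrank_fin_fun]
  have hd' : finrank F (LinearMap.range E') = 3 := by
    rw [LinearMap.finrank_range_of_inj hE'i, Module.finrank_fin_fun]
  have hopp : ∀ u ∈ LinearMap.range E, (∀ v ∈ LinearMap.range E', B u v = 0) → u = 0 := by
    rintro _ ⟨a, rfl⟩ h1
    have h2 : a = 0 := by
      funext i
      have := h1 (E' (Pi.single i 1)) ⟨_, rfl⟩
      rw [h.dual] at this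
      simpa using this
    rw [h2, map_zero]
  refine ⟨x, ?_, ?_, lv_isom h hB hsym hdual, hd, hd', ?_, ?_, hopp, ?_, ?_, ?_, ?_⟩
  · rw [hx, lv_pow h hB hsym, hMr, hM'r, lv_one]
  · intro h1
    apply hM1
    apply Matrix.toLin'.injective
    apply LinearMap.ext
    intro a
    rw [Matrix.toLin'_apply, Matrix.toLin'_apply, one_mulVec]
    apply hEi
    rw [← hxE, h1]
    rfl
  · rintro _ ⟨a, rfl⟩ _ ⟨b, rfl⟩
    exact h.ee a b
  · rintro _ ⟨a, rfl⟩ _ ⟨b, rfl⟩
    exact h.ee' a b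
  · rintro _ ⟨a, rfl⟩
    rw [hxE]
    exact ⟨_, rfl⟩
  · rintro _ ⟨a, rfl⟩
    rw [hxE']
    exact ⟨_, rfl⟩
  · intro v hv hvv
    rw [mem_fixS] at hv
    have h1 := pc_lv h hB hsym M M' v
    rw [← hx, hv] at h1
    have h2 : pc hB E' v = 0 := no_fix hr hrF he hMr hM1 h1.1.symm
    have h3 : pc hB E v = 0 := no_fix hr hrF he hM'r hM'1 h1.2.symm
    have hvE : ∀ a, B (E a) v = 0 := fun a => by rw [B_E hB hsym, h3, dotProduct_zero]
    have hvE' : ∀ a, B (E' a) v = 0 := fun a => by rw [B_E hB hsym, h2, dotProduct_zero]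
    by_contra hv0
    -- the space is the sum
    have hdisj : LinearMap.range E ⊓ LinearMap.range E' = ⊥ := by
      rw [eq_bot_iff]
      rintro u ⟨hu, hu'⟩
      refine hopp u hu fun w hw => ?_
      obtain ⟨a, rfl⟩ := hu'
      obtain ⟨b, rfl⟩ := hw
      exact h.ee' a b
    have h4 := Submodule.finrank_sup_add_finrank_inf_eq (LinearMap.range E) (LinearMap.range E')
    rw [hdisj, finrank_bot, hd, hd', add_zero] at h4
    have hdisj2 : (LinearMap.range E ⊔ LinearMap.range E') ⊓ (F ∙ v) = ⊥ := by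
      rw [eq_bot_iff]
      rintro u ⟨hu, hu'⟩
      obtain ⟨_, ⟨a, rfl⟩, _, ⟨b, rfl⟩, rfl⟩ := Submodule.mem_sup.1 hu
      obtain ⟨c, hc⟩ := Submodule.mem_span_singleton.1 hu'
      have h5 : pc hB E' (E a + E' b) = a := by rw [map_add, h.pc'_E hB hsym, h.pc'_E' hB, add_zero]
      have h6 : pc hB E (E a + E' b) = b := by rw [map_add, h.pc_E hB, h.pc_E' hB, zero_add]
      rw [← hc, map_smul, h2, smul_zero] at h5
      rw [← hc, map_smul, h3, smul_zero] at h6
      rw [← h5, ← h6, map_zero, map_zero, add_zero]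
      exact Submodule.zero_mem _
    have h5 := Submodule.finrank_sup_add_finrank_inf_eq (LinearMap.range E ⊔ LinearMap.range E') (F ∙ v)
    rw [hdisj2, finrank_bot, h4, finrank_span_singleton hv0, add_zero] at h5
    have h6 : LinearMap.range E ⊔ LinearMap.range E' ⊔ (F ∙ v) = ⊤ :=
      Submodule.eq_top_of_finrank_eq (le_antisymm (Submodule.finrank_le _) (by rw [h5]; exact hV))
    apply hv0
    apply hB.nondeg
    intro u
    have hu : u ∈ LinearMap.range E ⊔ LinearMap.range E' ⊔ (F ∙ v) := by rw [h6]; trivial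
    obtain ⟨u1, hu1, u2, hu2, rfl⟩ := Submodule.mem_sup.1 hu
    obtain ⟨_, ⟨a, rfl⟩, _, ⟨b, rfl⟩, rfl⟩ := Submodule.mem_sup.1 hu1
    obtain ⟨c, rfl⟩ := Submodule.mem_span_singleton.1 hu2
    rw [hB.add, hB.add, hB.smul, hvv, hsym v, hsym v, hvE, hvE']
    ring
  · intro v
    rw [hx, lv_apply]
    have : v + E ((M - 1) *ᵥ pc hB E' v) + E' ((M' - 1) *ᵥ pc hB E v) - v =
        E ((M - 1) *ᵥ pc hB E' v) + E' ((M' - 1) *ᵥ pc hB E v) := by abel
    rw [this]
    exact Submodule.add_mem_sup ⟨_, rfl⟩ ⟨_, rfl⟩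

end

end Cfsg.Agent.H518.SU
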