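import Mathlib
import Cfsg.Agent.H518.SUFrame

/-!
# Frames: existence
-/

set_option autoImplicit false
set_option linter.unusedSectionVars false

namespace Cfsg.Agent.H518.SU

open Module Cfsg.Agent.H518.DghpFix Cfsg.Agent.H518.DghpPrim Matrix

universe u v w w'

section

variable {F : Type u} [Field F] {V : Type v} [AddCommGroup V] [Module F V] {B : V → V → F}

theorem Frm.addl (hB : Frm B) (hsym : ∀ x y, B x y = B y x) (a b c : V) : B (a + b) c = B a c + B b c := by
  rw [hsym, hB.add, hsym c a, hsym c b]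

theorem Frm.smull (hB : Frm B) (hsym : ∀ x y, B x y = B y x) (t : F) (a b : V) : B (t • a) b = t * B a b := by
  rw [hsym, hB.smul, hsym]

/-- Prescribed values on a linearly independent family. -/
theorem Frm.exists_vec (hB : Frm B) (hsym : ∀ x y, B x y = B y x) {k : ℕ} {w : Fin k → V}
    (hw : LinearIndependent F w) (c : Fin k → F) : ∃ v, ∀ i, B (w i) v = c i := by
  let L : V →ₗ[F] (Fin k → F) :=
    { toFun := fun y i => B (w i) y
      map_add' := fun y z => by
        funext i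
        exact hB.add _ _ _
      map_smul' := fun c y => by
        funext i
        exact hB.smul _ _ _ }
  have hL : LinearMap.range L = ⊤ := by
    by_contra hne
    obtain ⟨f, hf, hfL⟩ := Submodule.exists_le_ker_of_lt_top _ (lt_top_iff_ne_top.2 hne)
    apply hf
    have h1 : ∑ i, f (Pi.single i 1) • w i = 0 := by
      apply hB.nondeg
      intro v
      rw [hsym, hB.sum]
      have h2 : f (L v) = 0 := hfL ⟨v, rfl⟩
      have h3 : L v = ∑ i, B (w i) v • (Pi.single i 1 : Fin k → F) := by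
        funext j
        simp [Finset.sum_apply, Pi.single_apply, L]
      rw [h3, map_sum] at h2
      rw [← h2]
      refine Finset.sum_congr rfl fun i _ => ?_
      rw [hB.smul, map_smul, hsym, smul_eq_mul, mul_comm]
    have h2 := Fintype.linearIndependent_iff.1 hw _ h1
    apply LinearMap.pi_ext'
    intro i
    ext
    simpa using h2 i
  have h1 : c ∈ LinearMap.range L := by rw [hL]; trivial
  obtain ⟨v, hv⟩ := h1
  exact ⟨v, fun i => congrFun hv i⟩

variable [FiniteDimensional F V]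

/-- Totally isotropic subspaces have at most half the dimension. -/
theorem Frm.two_mul_le (hB : Frm B) (hsym : ∀ x y, B x y = B y x) {U : Submodule F V}
    (hU : ∀ u ∈ U, ∀ v ∈ U, B u v = 0) : 2 * finrank F U ≤ finrank F V := by
  let b := Module.finBasis F U
  let L : V →ₗ[F] (Fin (finrank F U) → F) :=
    { toFun := fun y i => B (b i) y
      map_add' := fun y z => by
        funext i
        exact hB.add _ _ _
      map_smul' := fun c y => by
        funext i
        exact hB.smul _ _ _ }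
  have hb : LinearIndependent F (fun i => ((b i : U) : V)) :=
    b.linearIndependent.map' U.subtype (Submodule.ker_subtype U)
  have hL : LinearMap.range L = ⊤ := by
    rw [LinearMap.range_eq_top]
    intro c
    obtain ⟨v, hv⟩ := hB.exists_vec hsym hb c
    exact ⟨v, funext hv⟩
  have h1 := LinearMap.finrank_range_add_finrank_ker L
  rw [hL, finrank_top, Module.finrank_fin_fun] at h1
  have h2 : U ≤ LinearMap.ker L := by
    intro u hu
    rw [LinearMap.mem_ker]
    funext i
    exact hU _ (b i).2 _ hu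
  have h3 := Submodule.finrank_mono h2
  omega

end

section

variable {F : Type u} [Field F] {V : Type v} [AddCommGroup V] [Module F V]

/-- The map given by three vectors. -/
def comb (a b c : V) : (Fin 3 → F) →ₗ[F] V where
  toFun t := t 0 • a + t 1 • b + t 2 • c
  map_add' s t := by
    simp only [Pi.add_apply, add_smul]
    abel
  map_smul' r t := by
    simp only [Pi.smul_apply, smul_eq_mul, mul_smul, smul_add, RingHom.id_apply]

theorem comb_apply (a b c : V) (t : Fin 3 → F) : comb a b c t = t 0 • a + t 1 • b + t 2 • c := rfl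

theorem mem_range_comb {a b c : V} (v : V) :
    v ∈ LinearMap.range (comb (F := F) a b c) ↔ ∃ r s t : F, v = r • a + s • b + t • c := by
  constructor
  · rintro ⟨t, rfl⟩
    exact ⟨_, _, _, rfl⟩
  · rintro ⟨r, s, t, rfl⟩
    exact ⟨![r, s, t], rfl⟩

variable {B : V → V → F}

/-- The relations make a frame. -/
theorem fr_comb (hB : Frm B) (hsym : ∀ x y, B x y = B y x) {w1 w2 w3 f1 f2 f3 : V}
    (w11 : B w1 w1 = 0) (w12 : B w1 w2 = 0) (w13 : B w1 w3 = 0) (w22 : B w2 w2 = 0) (w23 : B w2 w3 = 0)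
    (w33 : B w3 w3 = 0) (f11 : B f1 f1 = 0) (f12 : B f1 f2 = 0) (f13 : B f1 f3 = 0) (f22 : B f2 f2 = 0)
    (f23 : B f2 f3 = 0) (f33 : B f3 f3 = 0)
    (a11 : B w1 f1 = 1) (a12 : B w1 f2 = 0) (a13 : B w1 f3 = 0)
    (a21 : B w2 f1 = 0) (a22 : B w2 f2 = 1) (a23 : B w2 f3 = 0)
    (a31 : B w3 f1 = 0) (a32 : B w3 f2 = 0) (a33 : B w3 f3 = 1) :
    Fr B (comb (F := F) w1 w2 w3) (comb (F := F) f1 f2 f3) := by
  have hl := hB.addl hsym
  have hs := hB.smull hsym
  have w21 : B w2 w1 = 0 := by rw [hsym, w12]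
  have w31 : B w3 w1 = 0 := by rw [hsym, w13]
  have w32 : B w3 w2 = 0 := by rw [hsym, w23]
  have f21 : B f2 f1 = 0 := by rw [hsym, f12]
  have f31 : B f3 f1 = 0 := by rw [hsym, f13]
  have f32 : B f3 f2 = 0 := by rw [hsym, f23]
  refine ⟨fun a b => ?_, fun a b => ?_, fun a b => ?_⟩
  · simp only [comb_apply, hB.add, hB.smul, hl, hs, w11, w12, w13, w21, w22, w23, w31, w32, w33]
    ring
  · simp only [comb_apply, hB.add, hB.smul, hl, hs, f11, f12, f13, f21, f22, f23, f31, f32, f33]
    ring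
  · simp only [comb_apply, hB.add, hB.smul, hl, hs, a11, a12, a13, a21, a22, a23, a31, a32, a33, dotProduct,
      Fin.sum_univ_three]
    ring

variable [FiniteDimensional F V]

/-- **Frames with a prescribed vector.** -/
theorem exists_frame_param (hB : Frm B) (hsym : ∀ x y, B x y = B y x) (hV : finrank F V ≤ 7)
    (hchar : (2 : F) ≠ 0 ∨ ∀ v, B v v = 0) {W : Submodule F V} (hTI : TI B W) (h3 : finrank F W = 3) {x : V}
    (hxx : B x x = 0) (hx : x ∉ W) :
    ∃ (E : (Fin 3 → F) →ₗ[F] V) (E' : F × F → (Fin 3 → F) →ₗ[F] V), LinearMap.range E = W ∧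
      (∀ p : F × F, (p.2 = 0 ∨ ∀ v, B v v = 0) → Fr B E (E' p) ∧ x ∈ LinearMap.range (E' p)) ∧
      ∀ p p' : F × F, (p.2 = 0 ∨ ∀ v, B v v = 0) → (p'.2 = 0 ∨ ∀ v, B v v = 0) →
        LinearMap.range (E' p) = LinearMap.range (E' p') → p = p' := by
  have hl := hB.addl hsym
  have hs := hB.smull hsym
  -- `x` is not orthogonal to `W`
  let g : W →ₗ[F] F :=
    { toFun := fun w => B x w
      map_add' := fun a b => hB.add _ _ _
      map_smul' := fun c a => hB.smul _ _ _ }
  have hg : g ≠ 0 := by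
    intro hg0
    have hxW : ∀ w ∈ W, B x w = 0 := fun w hw => by
      have : g ⟨w, hw⟩ = 0 := by rw [hg0]; rfl
      exact this
    have hxne : x ≠ 0 := by
      rintro rfl
      exact hx W.zero_mem
    have h1 : ∀ u ∈ W ⊔ (F ∙ x), ∀ v ∈ W ⊔ (F ∙ x), B u v = 0 := by
      intro u hu v hv
      obtain ⟨a, ha, b, hb, rfl⟩ := Submodule.mem_sup.1 hu
      obtain ⟨c, hc, d, hd, rfl⟩ := Submodule.mem_sup.1 hv
      obtain ⟨s, rfl⟩ := Submodule.mem_span_singleton.1 hb
      obtain ⟨t, rfl⟩ := Submodule.mem_span_singleton.1 hd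
      rw [hB.add, hl, hl, hB.smul, hB.smul, hs, hs, hTI a ha c hc, hxW c hc, hsym a x, hxW a ha, hxx]
      ring
    have h2 := hB.two_mul_le hsym h1
    have h4 := Submodule.finrank_sup_add_finrank_inf_eq W (F ∙ x)
    have h5 : W ⊓ (F ∙ x) = ⊥ := by
      rw [eq_bot_iff]
      rintro u ⟨hu, hu'⟩
      obtain ⟨c, rfl⟩ := Submodule.mem_span_singleton.1 hu'
      have hc : c = 0 := by
        by_contra hc
        apply hx
        have := W.smul_mem c⁻¹ hu
        rwa [smul_smul, inv_mul_cancel₀ hc, one_smul] at this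
      rw [hc, zero_smul]
      exact Submodule.zero_mem _
    rw [h5, finrank_bot, h3, finrank_span_singleton hxne] at h4
    omega
  obtain ⟨w1, hw1⟩ : ∃ w : W, g w = 1 := by
    obtain ⟨w, hw⟩ : ∃ w, g w ≠ 0 := by
      by_contra hcon
      push Not at hcon
      exact hg (LinearMap.ext hcon)
    exact ⟨(g w)⁻¹ • w, by rw [map_smul, smul_eq_mul, inv_mul_cancel₀ hw]⟩
  have hker : finrank F (LinearMap.ker g) = 2 := by
    have h1 := LinearMap.finrank_range_add_finrank_ker g
    have h2 : LinearMap.range g = ⊤ := by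
      rw [LinearMap.range_eq_top]
      intro t
      exact ⟨t • w1, by rw [map_smul, hw1, smul_eq_mul, mul_one]⟩
    rw [h2, finrank_top, finrank_self, h3] at h1
    omega
  let k : Basis (Fin 2) F (LinearMap.ker g) := Module.finBasisOfFinrankEq F _ hker
  set w2 : V := ((k 0 : W) : V) with hw2
  set w3 : V := ((k 1 : W) : V) with hw3
  set v1 : V := (w1 : V) with hv1
  have hw2W : w2 ∈ W := (k 0 : W).2
  have hw3W : w3 ∈ W := (k 1 : W).2
  have hv1W : v1 ∈ W := w1.2
  have x1 : B x v1 = 1 := hw1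
  have x2 : B x w2 = 0 := (k 0).2
  have x3 : B x w3 = 0 := (k 1).2
  have x1' : B v1 x = 1 := by rw [hsym, x1]
  have x2' : B w2 x = 0 := by rw [hsym, x2]
  have x3' : B w3 x = 0 := by rw [hsym, x3]
  have hli : ∀ r s t : F, r • v1 + s • w2 + t • w3 = 0 → r = 0 ∧ s = 0 ∧ t = 0 := by
    intro r s t h
    have hr : r = 0 := by
      have h1 : B x (r • v1 + s • w2 + t • w3) = 0 := by rw [h, hB.zero]
      rw [hB.add, hB.add, hB.smul, hB.smul, hB.smul, x1, x2, x3] at h1
      simpa using h1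
    subst hr
    rw [zero_smul, zero_add] at h
    have h1 : s • k 0 + t • k 1 = 0 := Subtype.ext (Subtype.ext h)
    have h2 := Fintype.linearIndependent_iff.1 k.linearIndependent ![s, t] (by
      rw [Fin.sum_univ_two]
      exact h1)
    exact ⟨rfl, h2 0, h2 1⟩
  have hrange : LinearMap.range (comb (F := F) v1 w2 w3) = W := by
    apply Submodule.eq_of_le_of_finrank_eq
    · rintro _ ⟨t, rfl⟩
      exact W.add_mem (W.add_mem (W.smul_mem _ hv1W) (W.smul_mem _ hw2W)) (W.smul_mem _ hw3W)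
    · rw [LinearMap.finrank_range_of_inj, Module.finrank_fin_fun, h3]
      rw [← LinearMap.ker_eq_bot, LinearMap.ker_eq_bot']
      intro t ht
      obtain ⟨h1, h2, h4⟩ := hli _ _ _ ht
      funext i
      fin_cases i
      · exact h1
      · exact h2
      · exact h4
  -- the dual vectors
  have hli4 : LinearIndependent F ![v1, w2, w3, x] := by
    rw [Fintype.linearIndependent_iff]
    intro c hc
    rw [Fin.sum_univ_four] at hc
    have hc' : c 0 • v1 + c 1 • w2 + c 2 • w3 + c 3 • x = 0 := hc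
    have h4 : c 3 = 0 := by
      by_contra h4
      apply hx
      have h5 : c 3 • x = -(c 0 • v1 + c 1 • w2 + c 2 • w3) := by
        rw [eq_neg_iff_add_eq_zero, add_comm]
        exact hc'
      have h6 : c 3 • x ∈ W := by
        rw [h5]
        exact W.neg_mem (W.add_mem (W.add_mem (W.smul_mem _ hv1W) (W.smul_mem _ hw2W)) (W.smul_mem _ hw3W))
      have := W.smul_mem (c 3)⁻¹ h6
      rwa [smul_smul, inv_mul_cancel₀ h4, one_smul] at this
    rw [h4, zero_smul, add_zero] at hc'
    obtain ⟨h1, h2, h5⟩ := hli _ _ _ hc'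
    intro i
    fin_cases i
    · exact h1
    · exact h2
    · exact h5
    · exact h4
  obtain ⟨g2, hg2⟩ := hB.exists_vec hsym hli4 ![0, 1, 0, 0]
  obtain ⟨g3, hg3⟩ := hB.exists_vec hsym hli4 ![0, 0, 1, 0]
  have g12 : B v1 g2 = 0 := hg2 0
  have g22 : B w2 g2 = 1 := hg2 1
  have g32 : B w3 g2 = 0 := hg2 2
  have gx2 : B x g2 = 0 := hg2 3
  have g13 : B v1 g3 = 0 := hg3 0
  have g23 : B w2 g3 = 0 := hg3 1
  have g33 : B w3 g3 = 1 := hg3 2
  have gx3 : B x g3 = 0 := hg3 3
  have hhalf : ∀ v : V, ∃ c : F, B v v = 2 * c := by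
    intro v
    rcases hchar with h2 | h2
    · exact ⟨B v v / 2, by field_simp⟩
    · exact ⟨0, by rw [h2, mul_zero]⟩
  obtain ⟨α, hα⟩ := hhalf g2
  obtain ⟨γ, hγ⟩ := hhalf g3
  set β := B g2 g3 with hβ
  have w11 : B v1 v1 = 0 := hTI _ hv1W _ hv1W
  have w12 : B v1 w2 = 0 := hTI _ hv1W _ hw2W
  have w13 : B v1 w3 = 0 := hTI _ hv1W _ hw3W
  have w22 : B w2 w2 = 0 := hTI _ hw2W _ hw2W
  have w23 : B w2 w3 = 0 := hTI _ hw2W _ hw3W
  have w33 : B w3 w3 = 0 := hTI _ hw3W _ hw3W
  have w32 : B w3 w2 = 0 := hTI _ hw3W _ hw2W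
  have g21' : B g2 v1 = 0 := by rw [hsym, g12]
  have g22' : B g2 w2 = 1 := by rw [hsym, g22]
  have g23' : B g2 w3 = 0 := by rw [hsym, g32]
  have g31' : B g3 v1 = 0 := by rw [hsym, g13]
  have g32' : B g3 w2 = 0 := by rw [hsym, g23]
  have g33' : B g3 w3 = 1 := by rw [hsym, g33]
  have hβ' : B g3 g2 = β := by rw [hsym]
  refine ⟨comb v1 w2 w3, fun p => comb x (g2 + (-α + p.2) • w2 + p.1 • w3) (g3 + (-β - p.1) • w2 + (-γ) • w3),
    hrange, ?_, ?_⟩
  · intro p hp
    have hfr : Fr B (comb (F := F) v1 w2 w3)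
        (comb (F := F) x (g2 + (-α + p.2) • w2 + p.1 • w3) (g3 + (-β - p.1) • w2 + (-γ) • w3)) := by
      refine fr_comb hB hsym w11 w12 w13 w22 w23 w33 hxx ?_ ?_ ?_ ?_ ?_ x1' ?_ ?_ x2' ?_ ?_ x3' ?_ ?_
      · simp only [hB.add, hB.smul, gx2, x2, x3]
        ring
      · simp only [hB.add, hB.smul, gx3, x2, x3]
        ring
      · rcases hp with hp | hp
        · simp only [hB.add, hB.smul, hl, hs, hα, g22, g32, g22', g23', w22, w23, w32, w33, hp]
          ring
        · exact hp _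
      · simp only [hB.add, hB.smul, hl, hs, ← hβ, g23, g33, g22', g23', w22, w23, w32, w33]
        ring
      · simp only [hB.add, hB.smul, hl, hs, hγ, g23, g33, g32', g33', w22, w23, w32, w33]
        ring
      · simp only [hB.add, hB.smul, g12, w12, w13]
        ring
      · simp only [hB.add, hB.smul, g13, w12, w13]
        ring
      · simp only [hB.add, hB.smul, g22, w22, w23]
        ring
      · simp only [hB.add, hB.smul, g23, w22, w23]
        ring
      · simp only [hB.add, hB.smul, g32, w32, w33]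
        ring
      · simp only [hB.add, hB.smul, g33, w32, w33]
        ring
    exact ⟨hfr, (mem_range_comb _).2 ⟨1, 0, 0, by simp⟩⟩
  · intro p p' hp hp' heq
    have h1 : g2 + (-α + p.2) • w2 + p.1 • w3 ∈
        LinearMap.range (comb (F := F) x (g2 + (-α + p'.2) • w2 + p'.1 • w3) (g3 + (-β - p'.1) • w2 + (-γ) • w3)) := by
      rw [← heq]
      exact (mem_range_comb _).2 ⟨0, 1, 0, by simp⟩
    obtain ⟨r, s, t, hrst⟩ := (mem_range_comb _).1 h1
    have e1 := congrArg (B v1) hrst
    have e2 := congrArg (B w2) hrst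
    have e3 := congrArg (B w3) hrst
    simp only [hB.add, hB.smul, g12, g13, w12, w13, x1', mul_zero, add_zero, mul_one] at e1
    simp only [hB.add, hB.smul, g22, g23, w22, w23, x2', mul_zero, add_zero, mul_one, zero_add] at e2
    simp only [hB.add, hB.smul, g32, g33, w32, w33, x3', mul_zero, add_zero, mul_one, zero_add] at e3
    subst e1
    subst e2
    subst e3
    rw [zero_smul, zero_smul, one_smul, zero_add, add_zero] at hrst
    have h2 : (0 : F) • v1 + (p.2 - p'.2) • w2 + (p.1 - p'.1) • w3 = 0 := by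
      have h4 : (g2 + (-α + p.2) • w2 + p.1 • w3) - (g2 + (-α + p'.2) • w2 + p'.1 • w3) = 0 := sub_eq_zero.2 hrst
      rw [← h4]
      module
    obtain ⟨-, h5, h6⟩ := hli _ _ _ h2
    exact Prod.ext (sub_eq_zero.1 h6) (sub_eq_zero.1 h5)

/-- **Frames avoiding two subspaces.** -/
theorem exists_frame [Fintype F] (hB : Frm B) (hsym : ∀ x y, B x y = B y x) (hV : finrank F V ≤ 7)
    (hchar : (2 : F) ≠ 0 ∨ (Fintype.card F = 2 ∧ ∀ v, B v v = 0)) {W : Submodule F V} (hTI : TI B W)
    (h3 : finrank F W = 3) {x : V} (hxx : B x x = 0) (hx : x ∉ W) (A₁ A₂ : Submodule F V) :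
    ∃ E E' : (Fin 3 → F) →ₗ[F] V, Fr B E E' ∧ LinearMap.range E = W ∧ x ∈ LinearMap.range E' ∧
      LinearMap.range E' ≠ A₁ ∧ LinearMap.range E' ≠ A₂ := by
  obtain ⟨E, E', hE, hfr, hinj⟩ := exists_frame_param hB hsym hV (hchar.imp id And.right) hTI h3 hxx hx
  obtain ⟨p, p', p'', h1, h2, h4, h01, h02, h12⟩ : ∃ p p' p'' : F × F, (p.2 = 0 ∨ ∀ v, B v v = 0) ∧
      (p'.2 = 0 ∨ ∀ v, B v v = 0) ∧ (p''.2 = 0 ∨ ∀ v, B v v = 0) ∧ p ≠ p' ∧ p ≠ p'' ∧ p' ≠ p'' := by
    rcases hchar with h2 | ⟨-, h2⟩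
    · refine ⟨(0, 0), (1, 0), (-1, 0), Or.inl rfl, Or.inl rfl, Or.inl rfl, ?_, ?_, ?_⟩
      · intro h
        exact zero_ne_one (congrArg Prod.fst h)
      · intro h
        have := congrArg Prod.fst h
        exact one_ne_zero (neg_eq_zero.1 this.symm)
      · intro h
        have h5 : (1 : F) = -1 := congrArg Prod.fst h
        apply h2
        rw [← one_add_one_eq_two]
        nth_rw 1 [h5]
        exact neg_add_cancel 1
    · refine ⟨(0, 0), (1, 0), (0, 1), Or.inl rfl, Or.inl rfl, Or.inr h2, ?_, ?_, ?_⟩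
      · intro h
        exact zero_ne_one (congrArg Prod.fst h)
      · intro h
        exact zero_ne_one (congrArg Prod.snd h)
      · intro h
        exact one_ne_zero (congrArg Prod.fst h)
  by_contra hcon
  push Not at hcon
  have key : ∀ p, (p.2 = 0 ∨ ∀ v, B v v = 0) → LinearMap.range (E' p) = A₁ ∨ LinearMap.range (E' p) = A₂ := by
    intro p hp
    by_cases h5 : LinearMap.range (E' p) = A₁
    · exact Or.inl h5
    · exact Or.inr (hcon E (E' p) (hfr p hp).1 hE (hfr p hp).2 h5)
  rcases key p h1 with h5 | h5 <;> rcases key p' h2 with h6 | h6 <;> rcases key p'' h4 with h7 | h7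
  · exact h01 (hinj _ _ h1 h2 (h5.trans h6.symm))
  · exact h01 (hinj _ _ h1 h2 (h5.trans h6.symm))
  · exact h02 (hinj _ _ h1 h4 (h5.trans h7.symm))
  · exact h12 (hinj _ _ h2 h4 (h6.trans h7.symm))
  · exact h12 (hinj _ _ h2 h4 (h6.trans h7.symm))
  · exact h02 (hinj _ _ h1 h4 (h5.trans h7.symm))
  · exact h01 (hinj _ _ h1 h2 (h5.trans h6.symm))
  · exact h01 (hinj _ _ h1 h2 (h5.trans h6.symm))

end

end Cfsg.Agent.H518.SU
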