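import Mathlib
import Cfsg.Agent.H518.SUGram
import Cfsg.Agent.AutOrth.Final
import Cfsg.Agent.H518.DghpOrth

/-!
# `PΩ_7(3)`, `PΩ_7(5)`, `PSp_6(2)`
-/

set_option autoImplicit false
set_option linter.unusedSectionVars false

namespace Cfsg.Agent.H518.SU

open Module Cfsg.Agent.H518.DghpFix Cfsg.Agent.H518.DghpPrim Matrix

universe u v w w'

section

variable {F : Type u} [Field F] [Fintype F] {V : Type v} [AddCommGroup V] [Module F V] [FiniteDimensional F V]
  {G : Type w} [Group G] [Finite G] {B : V → V → F}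

theorem Dat.exists_elt {φ : G →* (V →ₗ[F] V)} {r : ℕ} (D : Dat φ B r)
    (hφr : ∀ z : V →ₗ[F] V, z ^ r = 1 → (∀ u v, B (z u) (z v) = B u v) → ∃ g : G, φ g = z)
    {E E' : (Fin 3 → F) →ₗ[F] V} (hE : Fr B E E') :
    ∃ z : G, orderOf z = r ∧ GP B r (φ z) (LinearMap.range E) (LinearMap.range E') := by
  obtain ⟨x, hx⟩ := hE.exists_gp D.frm D.sym D.prime D.not_dvd D.ord D.dim
  obtain ⟨g, hg⟩ := hφr x hx.pow hx.isom
  have : Fact r.Prime := ⟨D.prime⟩
  refine ⟨g, orderOf_eq_prime ?_ ?_, by rwa [hg]⟩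
  · apply D.inj
    rw [map_pow, hg, hx.pow, map_one]
  · rintro rfl
    rw [map_one] at hg
    exact hx.ne hg.symm

/-- **The theorem, all isometries of order `r` being in the group.** -/
theorem pair_exc_isom {φ : G →* (V →ₗ[F] V)} {r : ℕ} (D : Dat φ B r) {K : Type w'} [Group K] [IsSimpleGroup K]
    (π : G →* K) (hπ : Function.Surjective π) (hker : Group.IsSolvable π.ker) (hkr : ¬ r ∣ Nat.card π.ker)
    (hφr : ∀ z : V →ₗ[F] V, z ^ r = 1 → (∀ u v, B (z u) (z v) = B u v) → ∃ g : G, φ g = z)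
    {E₀ E₀' : (Fin 3 → F) →ₗ[F] V} (hE₀ : Fr B E₀ E₀')
    {β : MulAut K} (hβ : β ≠ 1) (γ : MulAut G) (hγ : ∀ g, π (γ g) = β (π g)) (b : V ≃ₗ[F] V) {c : F} (hc : c ≠ 0)
    (hb : ∀ u v, B (b u) (b v) = c * B u v) (hφb : ∀ g v, φ (γ g) (b v) = b (φ g v)) :
    ∃ y : K, orderOf y = r ∧ ¬ Group.IsSolvable (Subgroup.closure ({y, β y} : Set K)) := by
  obtain ⟨z₀, hz₀, hGP₀⟩ := D.exists_elt hφr hE₀
  refine pair_exc D π hπ hker hkr (fun W₁ hTI h3 x hxx hx A₁ A₂ => ?_) hz₀ hGP₀ hβ γ hγ b hc hb hφb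
  obtain ⟨E, E', hfr, hE, hxE', h1, h2⟩ := exists_frame D.frm D.sym D.dim D.char hTI h3 hxx hx A₁ A₂
  obtain ⟨z, hz, hGP⟩ := D.exists_elt hφr hfr
  rw [hE] at hGP
  exact ⟨z, hz, _, hGP, hxE', h1, h2⟩

end

section Orth

open scoped commutatorElement
open QuadraticMap Cfsg.Agent.LieClassical.OrthCore Cfsg.Agent.LieClassical.OrthTrans
  Cfsg.Agent.LieClassical.OrthSimple Cfsg.Agent.ClassicalGeometry.OrthAut1 Cfsg.Agent.ClassicalGeometry.OrthSemi

variable {F : Type u} [Field F] {V : Type v} [AddCommGroup V] [Module F V] {Q : QuadraticForm F V}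

theorem sq_mem_E [FiniteDimensional F V] (hG : Good Q) {g : V ≃ₗ[F] V} (hg : g ∈ O Q) : g * g ∈ E Q := by
  rw [O_eq_closure hG.nondeg] at hg
  have hO : ∀ g ∈ Subgroup.closure (reflSet Q ∪ siegelSet Q), g ∈ O Q := fun g hg => by
    rwa [O_eq_closure hG.nondeg]
  induction hg using Subgroup.closure_induction with
  | mem x hx =>
    rcases hx with ⟨v, hv, rfl⟩ | hx
    · rw [refl_mul_self]
      exact (E Q).one_mem
    · have : x ∈ E Q := Subgroup.subset_closure hx
      exact (E Q).mul_mem this this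
  | one =>
    rw [mul_one]
    exact (E Q).one_mem
  | mul x y hx hy hxx hyy =>
    have e : x * y * (x * y) = (x * ⁅y, x⁆ * x⁻¹) * (x * x) * (y * y) := by
      rw [commutatorElement_def]
      group
    rw [e]
    refine (E Q).mul_mem ((E Q).mul_mem (conj_mem_E (hO x hx) ?_) hxx) hyy
    exact hG.commutator_le_E (Subgroup.commutator_mem_commutator (hO y hy) (hO x hx))
  | inv x hx hxx =>
    have e : x⁻¹ * x⁻¹ = (x * x)⁻¹ := by group
    rw [e]
    exact (E Q).inv_mem hxx

/-- Elements of odd order of `O Q` lie in `E Q`. -/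
theorem odd_mem_E [FiniteDimensional F V] (hG : Good Q) {g : V ≃ₗ[F] V} (hg : g ∈ O Q) {r : ℕ} (hr : Odd r)
    (hgr : g ^ r = 1) : g ∈ E Q := by
  obtain ⟨k, rfl⟩ := hr
  have e : g = (g * g) ^ (k + 1) := by
    have h1 : (g * g) ^ (k + 1) = g ^ (2 * k + 1) * g := by
      rw [← pow_two, ← pow_mul, ← pow_succ]
      congr 1
      
    rw [h1, hgr, one_mul]
  rw [e]
  exact (E Q).pow_mem (sq_mem_E hG hg) _

/-- The representation. -/
def eHom (Q : QuadraticForm F V) : ↥(E Q) →* (V →ₗ[F] V) where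
  toFun g := ((g : V ≃ₗ[F] V) : V →ₗ[F] V)
  map_one' := rfl
  map_mul' _ _ := rfl

theorem eHom_apply (g : ↥(E Q)) (v : V) : eHom Q g v = (g : V ≃ₗ[F] V) v := rfl

theorem eHom_injective : Function.Injective (eHom Q) := by
  intro a b hab
  apply Subtype.ext
  apply LinearEquiv.ext
  intro v
  exact DFunLike.congr_fun hab v

theorem frm_polar_of (hQ : Nondeg Q) : Frm (fun u v => polar Q u v) :=
  ⟨fun x y z => polar_add_right Q x y z, fun c x y => by
    rw [polar_smul_right]
    rfl, fun x y h => by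
    rw [polar_comm]
    exact h, fun x h => hQ x h⟩

variable [Fintype F]

theorem orth_exc [FiniteDimensional F V] (hG : Good Q) (h2 : (2 : F) ≠ 0) {r : ℕ} (hr : r.Prime) (hr2 : r ≠ 2)
    (hnsq : ¬ r ^ 2 ∣ Nat.card (E Q)) (hs : Size (Fintype.card F) (finrank F V) r 1)
    (hrF : ¬ r ∣ Fintype.card F) (he : orderOf ((Fintype.card F : ℕ) : ZMod r) = 3) (hV : finrank F V ≤ 7)
    (hkr : ¬ r ∣ Nat.card (Subgroup.center (E Q)))
    (hσ : ∀ σ : F ≃+* F, σ = RingEquiv.refl F)
    (hsurj : Function.Surjective (Psi Q))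
    {E₀ E₀' : (Fin 3 → F) →ₗ[F] V} (hE₀ : Fr (fun u v => polar Q u v) E₀ E₀')
    {β : MulAut (P Q)} (hβ : β ≠ 1) :
    ∃ y : P Q, orderOf y = r ∧ ¬ Group.IsSolvable (Subgroup.closure ({y, β y} : Set (P Q))) := by
  have hfinV : Finite V := Module.finite_of_finite F
  have hfinE : Finite (V ≃ₗ[F] V) := Finite.of_injective (fun g : V ≃ₗ[F] V => (g : V → V)) DFunLike.coe_injective
  have hsimp : IsSimpleGroup (P Q) := good_isSimpleGroup hG
  have hpol : ∀ (g : V ≃ₗ[F] V), g ∈ O Q → ∀ u v, polar Q (g u) (g v) = polar Q u v := fun g hg u v =>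
    polar_map hg u v
  have D : Dat (eHom Q) (fun u v => polar Q u v) r :=
    { inj := eHom_injective
      frm := frm_polar_of hG.nondeg
      sym := fun x y => polar_comm Q x y
      isom := fun g u v => hpol _ (E_le_O g.2) u v
      prime := hr
      ne_two := hr2
      not_sq := hnsq
      size := hs
      not_dvd := hrF
      ord := he
      dim := hV
      char := Or.inl h2 }
  obtain ⟨M, rfl⟩ := hsurj β
  obtain ⟨σ, c, hM⟩ := M.2
  have hσ1 := hσ σ
  subst hσ1
  have hker : (QuotientGroup.mk' (Subgroup.center (E Q))).ker = Subgroup.center (E Q) := QuotientGroup.ker_mk' _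
  let b : V ≃ₗ[F] V :=
    { M.1 with
      map_add' := hM.add
      map_smul' := hM.smul }
  have hbapp : ∀ v, b v = M.1 v := fun _ => rfl
  refine pair_exc_isom D (QuotientGroup.mk' (Subgroup.center (E Q))) (QuotientGroup.mk'_surjective _) ?_ ?_ ?_ hE₀ hβ
    (conjE Q M) (fun g => (Psi_mk M g).symm) b hM.ne ?_ ?_
  · rw [hker]
    exact Group.isSolvable_of_comm fun a b => Subtype.ext ((Subgroup.mem_center_iff.1 b.2) a)
  · rwa [hker]
  · intro z hz hzB
    have hzO : ∀ v, Q (z v) = Q v := by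
      intro v
      have h3 := hzB v v
      have h4 : polar Q (z v) (z v) = polar Q v v := h3
      rw [polar_self', polar_self'] at h4
      exact mul_left_cancel₀ h2 h4
    have hr0 : 0 < r := hr.pos
    let z' : V ≃ₗ[F] V := LinearEquiv.ofLinearMap z (z ^ (r - 1))
      (by
        have : z ^ (r - 1 + 1) = 1 := by rw [Nat.sub_add_cancel hr0, hz]
        rw [pow_succ'] at this
        exact this)
      (by
        have : z ^ (r - 1 + 1) = 1 := by rw [Nat.sub_add_cancel hr0, hz]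
        rw [pow_succ] at this
        exact this)
    have hz'z : ∀ v, z' v = z v := fun _ => rfl
    have hz' : z' ∈ O Q := fun v => hzO v
    have hz'r : z' ^ r = 1 := by
      have hk : ∀ (k : ℕ) (v : V), (z' ^ k) v = (z ^ k) v := by
        intro k
        induction k with
        | zero => intro v; rfl
        | succ k ih =>
          intro v
          rw [pow_succ, pow_succ]
          show (z' ^ k) (z' v) = (z ^ k) (z v)
          rw [ih, hz'z]
      apply LinearEquiv.ext
      intro v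
      rw [hk, hz]
      rfl
    refine ⟨⟨z', odd_mem_E hG hz' (hr.odd_of_ne_two hr2) hz'r⟩, ?_⟩
    ext v
    rfl
  · intro u v
    show polar Q (b u) (b v) = c * polar Q u v
    rw [hbapp, hbapp, hM.polar]
    rfl
  · intro g v
    rw [eHom_apply, eHom_apply, hbapp, hbapp, coe_conjE]
    exact conjLin_apply' M g.1 v

end Orth

end Cfsg.Agent.H518.SU
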