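import Mathlib
import Cfsg.Agent.H518.SUSeven
import Cfsg.Agent.H518.SUOrth
import Cfsg.Agent.H518.SUTable

/-!
# `PΩ_7(3)`, `PΩ_7(5)`, `PSp_6(2)`: the theorems
-/

set_option autoImplicit false
set_option linter.unusedSectionVars false

namespace Cfsg.Agent.H518.SU

open Module Cfsg.Agent.H518.DghpFix Cfsg.Agent.H518.DghpPrim Matrix

universe u v w w'

section Orth

open QuadraticMap Cfsg.Agent.LieClassical.OrthCore Cfsg.Agent.LieClassical.OrthTrans
  Cfsg.Agent.LieClassical.OrthSimple Cfsg.Agent.ClassicalGeometry.OrthAut1 Cfsg.Agent.ClassicalGeometry.OrthSemi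
  Cfsg.Agent.AutOrth.Main

variable {F : Type} [Field F] [Fintype F]

/-- The first half of the standard frame. -/
def o7E : (Fin 3 → F) →ₗ[F] (Unit ⊕ (Fin 3 ⊕ Fin 3) → F) where
  toFun a := Sum.elim (fun _ => 0) (Sum.elim a (fun _ => 0))
  map_add' a b := by
    funext i
    rcases i with i | (i | i) <;> simp
  map_smul' c a := by
    funext i
    rcases i with i | (i | i) <;> simp

/-- The second half of the standard frame. -/
def o7E' : (Fin 3 → F) →ₗ[F] (Unit ⊕ (Fin 3 ⊕ Fin 3) → F) where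
  toFun a := Sum.elim (fun _ => 0) (Sum.elim (fun _ => 0) a)
  map_add' a b := by
    funext i
    rcases i with i | (i | i) <;> simp
  map_smul' c a := by
    funext i
    rcases i with i | (i | i) <;> simp

theorem fr_o7 : Fr (fun u v => polar (LieClassical.OrthForms.oddForm 3 F) u v) (o7E (F := F)) (o7E' (F := F)) := by
  refine ⟨fun a b => ?_, fun a b => ?_, fun a b => ?_⟩
  · show polar _ _ _ = 0
    rw [LieClassical.OrthForms.polar_oddForm]
    simp [o7E]
  · show polar _ _ _ = 0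
    rw [LieClassical.OrthForms.polar_oddForm]
    simp [o7E']
  · show polar _ _ _ = _
    rw [LieClassical.OrthForms.polar_oddForm]
    simp [o7E, o7E', dotProduct]

/-- **`PΩ_7(q)`, `q` an odd prime.** -/
theorem exc_odd_seven {q r : ℕ} (hF : Fintype.card F = q) (hq : q.Prime) (hodd : Odd q) (hr : r.Prime) (hr8 : 8 < r)
    (he : orderOf ((q : ℕ) : ZMod r) = 3)
    (hnsq : ¬ r ^ 2 ∣ q ^ (3 ^ 2) * ∏ i ∈ Finset.range 3, (q ^ (2 * (i + 1)) - 1))
    (hdiv : r ∣ q ^ (3 ^ 2) * ∏ i ∈ Finset.range 3, (q ^ (2 * (i + 1)) - 1))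
    (hZ : Subgroup.center (Cfsg.POmega F (Cfsg.quadFormOdd 3 F)) = ⊥) :
    Exc1 (Cfsg.POmega F (Cfsg.quadFormOdd 3 F)) := by
  have hpf : Fact q.Prime := ⟨hq⟩
  have hcard := Cfsg.Agent.S0292.result hF hodd 3 le_rfl
  rw [← hcard] at hnsq hdiv
  have hout : Nat.card (Cfsg.Out (Cfsg.POmega F (Cfsg.quadFormOdd 3 F))) = 2 * 1 :=
    H163.PG.card_out_oodd (f := 1) hq le_rfl (by rw [hF, pow_one]) (by rwa [hF]) le_rfl hZ
  rw [← LieClassical.OrthForms.coe_oddForm] at hcard hnsq hdiv hout ⊢
  have h2F : (2 : F) ≠ 0 := by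
    rw [← LieClassical.PomegaCard.odd_card_iff, hF]
    exact hodd
  have hG : Good (LieClassical.OrthForms.oddForm 3 F) := by
    rw [oddForm_eq]
    exact good_odd (by norm_num) h2F
  have hfin : Finite (Cfsg.POmega F ⇑(LieClassical.OrthForms.oddForm 3 F)) := inferInstance
  have hK : ¬ r ^ 2 ∣ Nat.card (Cfsg.POmega F ⇑(LieClassical.OrthForms.oddForm 3 F)) :=
    fun h => hnsq (Dvd.dvd.mul_left h 2)
  have hK1 : r ∣ Nat.card (Cfsg.POmega F ⇑(LieClassical.OrthForms.oddForm 3 F)) :=
    ((Nat.Prime.dvd_mul hr).1 hdiv).resolve_left fun h => by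
      have := Nat.le_of_dvd two_pos h
      omega
  have hc : ¬ r ∣ Nat.card (Subgroup.center (Cfsg.Omega F ⇑(LieClassical.OrthForms.oddForm 3 F))) := by
    have hc0 := not_dvd_center_omega (F := F) (LieClassical.OmegaReindex.quadOdd_nondegenerate (m := 3) h2F)
      (by simp) (LieClassical.OmegaReindex.quadOdd_isotropic (F := F) (by norm_num)) hr (by omega)
    rw [LieClassical.OmegaReindex.coe_quadOdd] at hc0
    rwa [LieClassical.OrthForms.coe_oddForm]
  have hcE : ¬ r ∣ Nat.card (Subgroup.center (E (LieClassical.OrthForms.oddForm 3 F))) := by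
    rwa [← Nat.card_congr (Subgroup.centerCongr (oe hG)).toEquiv]
  have hcardO : Nat.card (Cfsg.Omega F ⇑(LieClassical.OrthForms.oddForm 3 F)) =
      Nat.card (Cfsg.POmega F ⇑(LieClassical.OrthForms.oddForm 3 F)) *
        Nat.card (Subgroup.center (Cfsg.Omega F ⇑(LieClassical.OrthForms.oddForm 3 F))) :=
    Subgroup.card_eq_card_quotient_mul_card_subgroup _
  have hE2 : ¬ r ^ 2 ∣ Nat.card (E (LieClassical.OrthForms.oddForm 3 F)) := by
    rw [← Nat.card_congr (oe hG).toEquiv, hcardO, mul_comm]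
    exact not_pow_dvd_mul_of_not_dvd hr hc hK
  have e := pe hG
  have hfinP : Finite (P (LieClassical.OrthForms.oddForm 3 F)) := Finite.of_equiv _ e.toEquiv
  refine Exc1.congr ?_ e.symm
  have hd : finrank F (Unit ⊕ (Fin 3 ⊕ Fin 3) → F) = 7 := by rw [Module.finrank_fintype_fun_eq_card]; rfl
  have hσ : ∀ σ : F ≃+* F, σ = RingEquiv.refl F := by
    intro σ
    have h1 : Nat.card (F ≃+* F) = 1 := Lib.FieldAutCard.card_ringAut (p := q) le_rfl (by rw [hF, pow_one])
    have h2 : Subsingleton (F ≃+* F) := (Nat.card_eq_one_iff_unique.1 h1).1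
    exact Subsingleton.elim _ _
  refine Exc1.of hr (by omega) ?_ ?_ ?_ fun β hβ => ?_
  · rw [← card_out_dvd_congr e, hout]
    intro h
    have := Nat.le_of_dvd two_pos h
    omega
  · rwa [← Nat.card_congr e.toEquiv]
  · rwa [← Nat.card_congr e.toEquiv]
  · refine orth_exc hG h2F hr (by omega) hE2 ?_ ?_ ?_ (by rw [hd]) hcE hσ (AutOrth.Final.surjective_odd le_rfl h2F)
      fr_o7 hβ
    · left
      rw [hd, Nat.sub_self, pow_zero, pow_one]
      omega
    · rw [hF]
      exact not_dvd_of_orderOf hr he (by norm_num)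
    · rw [hF]
      exact he

theorem exc_odd_seven_three (hF : Fintype.card F = 3)
    (hZ : Subgroup.center (Cfsg.POmega F (Cfsg.quadFormOdd 3 F)) = ⊥) :
    Exc1 (Cfsg.POmega F (Cfsg.quadFormOdd 3 F)) := by
  refine exc_odd_seven (r := 13) hF Nat.prime_three (by decide) (by norm_num) (by norm_num) ?_ ?_ ?_ hZ
  · exact orderOf_eq_of (by norm_num) (by norm_num) (by norm_num) fun i h1 h2 => by
      interval_cases i <;> norm_num
  · simp only [Finset.prod_range_succ, Finset.prod_range_zero]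
    norm_num
  · simp only [Finset.prod_range_succ, Finset.prod_range_zero]
    norm_num

theorem exc_odd_seven_five (hF : Fintype.card F = 5)
    (hZ : Subgroup.center (Cfsg.POmega F (Cfsg.quadFormOdd 3 F)) = ⊥) :
    Exc1 (Cfsg.POmega F (Cfsg.quadFormOdd 3 F)) := by
  refine exc_odd_seven (r := 31) hF Nat.prime_five (by decide) (by norm_num) (by norm_num) ?_ ?_ ?_ hZ
  · exact orderOf_eq_of (by norm_num) (by norm_num) (by norm_num) fun i h1 h2 => by
      interval_cases i <;> norm_num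
  · simp only [Finset.prod_range_succ, Finset.prod_range_zero]
    norm_num
  · simp only [Finset.prod_range_succ, Finset.prod_range_zero]
    norm_num

end Orth

end Cfsg.Agent.H518.SU
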