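import Cfsg.Agent.H322.Eng.CoThirteen
import Cfsg.Agent.H444.CoThirteen
import Cfsg.Agent.H773.MonThree

/-!
# The centralizer of an element of order 13 of `Co1` (helper518)

`cent_co1` : its order divides `2 ^ 2 * 3 * 13`.
-/

set_option autoImplicit false

namespace Cfsg.Agent.H518.Co13

open Subgroup Cfsg Module Cfsg.Agent.SporadicStructure.Co0Base
open Cfsg.Agent.CpAutBig Cfsg.Agent.H813.CoSevenRank Cfsg.Agent.H813.CoSevenCard
open Cfsg.Spor (Co1)

/-- no element of order 9 commutes with an element of order 13 -/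
theorem no_nine {x g : Co0} (hx : orderOf x = 13) (hg : orderOf g = 9) (hc : g * x = x * g) : False := by
  have hfree := BpSpor.MBigCo.free_thirteen hx
  have hx13 : x ^ 13 = 1 := by rw [← hx, pow_orderOf_eq_one]
  have hg9 : g ^ 9 = 1 := by rw [← hg, pow_orderOf_eq_one]
  have hg3 : orderOf (g ^ 3) = 3 := by
    rw [orderOf_pow, hg]
    norm_num
  have hfree3 := H444.CoThirteen.free_three hx hg3 (by
    have h1 : Commute (g ^ 3) x := (show Commute g x from hc).pow_left 3
    exact h1)
  have hT : ∀ n, (SigZeroCo2.Lin.rep (x * g)) ^ n = SigZeroCo2.Lin.rep (x ^ n * g ^ n) := fun n => by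
    rw [← map_pow, (show Commute x g from hc.symm).mul_pow]
  have hpw : ∀ k : ℕ, ∀ w, SigZeroCo2.Lin.rep x w = w → SigZeroCo2.Lin.rep (x ^ k) w = w := by
    intro k w hw
    induction k with
    | zero => rw [pow_zero, map_one]; rfl
    | succ k ih => rw [pow_succ, map_mul, Module.End.mul_apply, hw, ih]
  have h1 : (117 : ℕ).totient ∣ finrank ℚ SigZeroCo2.Lin.Sp := by
    refine PreUniqCo.Rat.dvd_finrank (by norm_num) (SigZeroCo2.Lin.rep (x * g)) ?_ ?_
    · rw [hT, show x ^ 117 = 1 by rw [show 117 = 13 * 9 by norm_num, pow_mul, hx13, one_pow],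
        show g ^ 117 = 1 by rw [show 117 = 9 * 13 by norm_num, pow_mul, hg9, one_pow], one_mul, map_one]
    · intro p hp hd w hw
      have hp' : p = 3 ∨ p = 13 := by
        have h2 : p ∣ 3 ^ 2 * 13 := by rw [show 3 ^ 2 * 13 = 117 by norm_num]; exact hd
        rcases hp.dvd_mul.1 h2 with h | h
        · exact Or.inl ((Nat.prime_dvd_prime_iff_eq hp Nat.prime_three).1 (hp.dvd_of_dvd_pow h))
        · exact Or.inr ((Nat.prime_dvd_prime_iff_eq hp (by norm_num)).1 h)
      rcases hp' with rfl | rfl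
      · rw [show 117 / 3 = 39 by norm_num, hT,
          show x ^ 39 = 1 by rw [show 39 = 13 * 3 by norm_num, pow_mul, hx13, one_pow],
          show g ^ 39 = g ^ 3 by
            rw [show 39 = 9 * 4 + 3 by norm_num, pow_add, pow_mul, hg9, one_pow, one_mul], one_mul] at hw
        exact TwoPrimes.free_rep hfree3 hw
      · rw [show 117 / 13 = 9 by norm_num, hT, hg9, mul_one] at hw
        apply TwoPrimes.free_rep hfree
        -- `x ^ 9` fixes `w`, hence `x = (x ^ 9) ^ 3` fixes `w`
        have h4 : ∀ k : ℕ, SigZeroCo2.Lin.rep ((x ^ 9) ^ k) w = w := by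
          intro k
          induction k with
          | zero => rw [pow_zero, map_one]; rfl
          | succ k ih => rw [pow_succ, map_mul, Module.End.mul_apply, hw, ih]
        have h5 := h4 3
        have h6 : (x ^ 9) ^ 3 = x := by
          rw [← pow_mul, show 9 * 3 = 13 * 2 + 1 by norm_num, pow_succ, pow_mul, hx13, one_pow, one_mul]
        rwa [h6] at h5
  rw [finrank_Sp, show (117 : ℕ).totient = 72 by decide +kernel] at h1
  norm_num at h1

theorem not_nine {x : Co0} (hx : orderOf x = 13) : ¬ 3 ^ 2 ∣ Nat.card (centralizer ({x} : Set Co0)) := by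
  have hfin := CoZero.finite_co0
  have : Fact (Nat.Prime 3) := ⟨Nat.prime_three⟩
  intro hd
  obtain ⟨K, hK⟩ := Sylow.exists_subgroup_card_pow_prime 3 hd
  have hcomm := IsPGroup.commutative_of_card_eq_prime_sq hK
  have hKx : ∀ k : K, (((k : ↥(centralizer ({x} : Set Co0))) : Co0)) * x =
      x * (((k : ↥(centralizer ({x} : Set Co0))) : Co0)) := fun k =>
    mem_centralizer_singleton_iff.1 (k : ↥(centralizer ({x} : Set Co0))).2
  have hord : ∀ k : K, orderOf (((k : ↥(centralizer ({x} : Set Co0))) : Co0)) = orderOf k := fun k => by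
    rw [Subgroup.orderOf_coe, Subgroup.orderOf_coe]
  have h3 : ∀ k : K, k ≠ 1 → orderOf k = 3 := by
    intro k hk
    have h1 : orderOf k ∣ 3 ^ 2 := by rw [← hK]; exact orderOf_dvd_natCard k
    obtain ⟨m, hm, hmk⟩ := (Nat.dvd_prime_pow Nat.prime_three).1 h1
    have hm' : m = 0 ∨ m = 1 ∨ m = 2 := by omega
    rcases hm' with rfl | rfl | rfl
    · rw [pow_zero] at hmk
      exact absurd (orderOf_eq_one_iff.1 hmk) hk
    · rw [hmk, pow_one]
    · exfalso
      refine no_nine hx ?_ (hKx k)
      rw [hord, hmk]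
      norm_num
  have : Nontrivial K := by
    rw [← Finite.one_lt_card_iff_nontrivial, hK]
    norm_num
  obtain ⟨v, hv⟩ := exists_ne (1 : K)
  have hv3 := h3 v hv
  obtain ⟨w, hw⟩ : ∃ w : K, w ∉ zpowers v := by
    by_contra hcon
    push Not at hcon
    have h1 : zpowers v = ⊤ := (eq_top_iff' _).2 hcon
    have h2 := Nat.card_zpowers v
    rw [h1, hv3, card_top, hK] at h2
    omega
  have hw1 : w ≠ 1 := by rintro rfl; exact hw (one_mem _)
  have hvw : v * w ≠ 1 := by
    intro h
    apply hw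
    rw [← mul_eq_one_iff_inv_eq.1 h]
    exact inv_mem (mem_zpowers v)
  have hvww : v * (w * w) ≠ 1 := by
    intro h
    apply hw
    have h1 : w * w = v⁻¹ := (mul_eq_one_iff_inv_eq.1 h).symm
    have h2 : w ^ 3 = 1 := by rw [← h3 w hw1, pow_orderOf_eq_one]
    have h4 : w = (w * w) * (w * w) := by
      calc w = w ^ 3 * w := by rw [h2, one_mul]
        _ = (w * w) * (w * w) := by simp only [pow_succ, pow_zero, one_mul, mul_assoc]
    rw [h4, h1]
    exact mul_mem (inv_mem (mem_zpowers v)) (inv_mem (mem_zpowers v))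
  have hval : ∀ k k' : K, (((k * k' : K) : ↥(centralizer ({x} : Set Co0))) : Co0) =
    ((k : ↥(centralizer ({x} : Set Co0))) : Co0) * ((k' : ↥(centralizer ({x} : Set Co0))) : Co0) := fun _ _ => rfl
  refine _root_.Cfsg.Agent.H773.Mon13.not_nine hx (v := ((v : ↥(centralizer ({x} : Set Co0))) : Co0))
    (w := ((w : ↥(centralizer ({x} : Set Co0))) : Co0)) (by rw [hord, hv3]) (by rw [hord, h3 w hw1])
    (by rw [← hval, hord, h3 _ hvw]) (by rw [← hval, ← hval, hord, h3 _ hvww]) (hKx v) (hKx w) ?_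
  rw [← hval, ← hval, hcomm]

theorem cent_co0 {a : Co0} (ha : orderOf a = 13) : Nat.card (centralizer ({a} : Set Co0)) ∣ 2 ^ 3 * 3 * 13 := by
  have hfin := CoZero.finite_co0
  have h0 : Nat.card (centralizer ({a} : Set Co0)) ≠ 0 := Nat.card_pos.ne'
  have h1 : Nat.card (centralizer ({a} : Set Co0)) ∣ 8315553613086720000 := by
    have := card_subgroup_dvd_card (centralizer ({a} : Set Co0))
    rwa [S0397.result] at this
  have hq : ∀ q : ℕ, q.Prime → 5 ≤ q → q ≠ 13 → ¬ q ^ (0 + 1) ∣ Nat.card (centralizer ({a} : Set Co0)) := by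
    intro q hq h7 h13
    rw [zero_add, pow_one]
    exact BpSpor.MBigCo.not_dvd_thirteen ha hq h7 h13
  have h2 := reduce Nat.prime_two 22 3 h0 (M := 3 ^ 9 * 5 ^ 4 * 7 ^ 2 * 11 * 13 * 23) (by
    refine h1.trans ?_
    norm_num) (H322.CoThirteen.not_two ha)
  have h2' := reduce Nat.prime_three 9 1 h0 (M := 2 ^ 3 * (5 ^ 4 * 7 ^ 2 * 11 * 13 * 23)) (by
    refine h2.trans ?_
    norm_num) (not_nine ha)
  have h3 := reduce Nat.prime_five 4 0 h0 (M := 2 ^ 3 * (3 * 7 ^ 2 * 11 * 13 * 23)) (by
    refine h2'.trans ?_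
    norm_num) (hq 5 (by norm_num) (by norm_num) (by norm_num))
  have h5 := reduce (p := 7) (by norm_num) 2 0 h0 (M := 2 ^ 3 * (3 * 11 * 13 * 23)) (by
    refine h3.trans ?_
    norm_num) (hq 7 (by norm_num) (by norm_num) (by norm_num))
  have h6 := reduce (p := 11) (by norm_num) 1 0 h0 (M := 2 ^ 3 * (3 * 13 * 23)) (by
    refine h5.trans ?_
    norm_num) (hq 11 (by norm_num) (by norm_num) (by norm_num))
  have h8 := reduce (p := 23) (by norm_num) 1 0 h0 (M := 2 ^ 3 * (3 * 13)) (by
    refine h6.trans ?_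
    norm_num) (hq 23 (by norm_num) (by norm_num) (by norm_num))
  refine h8.trans ?_
  norm_num

theorem cent_co1 {s : Co1} (hs : orderOf s = 13) : Nat.card (centralizer ({s} : Set Co1)) ∣ 2 ^ 2 * 3 * 13 := by
  obtain ⟨a, rfl, ha, hao⟩ := H55.CoOneBd.exists_lift (by norm_num) (by norm_num) hs
  have hfin := CpAutBig.CoZero.finite_co0
  let f : ↥(centralizer ({a} : Set Co0)) →* ↥(centralizer ({(QuotientGroup.mk a : Co1)} : Set Co1)) :=
    ((QuotientGroup.mk' (center Co0)).comp (Subgroup.subtype _)).codRestrict _ (by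
      intro c
      have h1 := mem_centralizer_singleton_iff.1 c.2
      rw [mem_centralizer_singleton_iff]
      change (QuotientGroup.mk (c : Co0) : Co1) * QuotientGroup.mk a = QuotientGroup.mk a * QuotientGroup.mk (c : Co0)
      rw [← QuotientGroup.mk_mul, ← QuotientGroup.mk_mul, h1])
  have hf : Function.Surjective f := by
    rintro ⟨c, hc⟩
    obtain ⟨b, rfl⟩ := QuotientGroup.mk_surjective c
    have h1 := mem_centralizer_singleton_iff.1 hc
    exact ⟨⟨b, mem_centralizer_singleton_iff.2 (LThreeBX.NoSeven.comm_of_mk (by decide) ha h1.symm).symm⟩, rfl⟩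
  have h1 : center Co0 ≤ centralizer ({a} : Set Co0) := fun z hz =>
    mem_centralizer_singleton_iff.2 (mem_center_iff.1 hz a).symm
  have h2 : (center Co0).subgroupOf (centralizer ({a} : Set Co0)) ≤ f.ker := by
    intro z hz
    rw [MonoidHom.mem_ker]
    apply Subtype.ext
    exact (QuotientGroup.eq_one_iff _).2 hz
  have h3 : 2 ∣ Nat.card f.ker := by
    rw [← SporadicA.Co0Basic.card_center, ← Nat.card_congr (subgroupOfEquivOfLe h1).toEquiv]
    exact card_dvd_of_le h2
  have h4 : Nat.card (centralizer ({a} : Set Co0)) =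
      Nat.card (centralizer ({(QuotientGroup.mk a : Co1)} : Set Co1)) * Nat.card f.ker := by
    have h5 := card_eq_card_quotient_mul_card_subgroup f.ker
    rwa [Nat.card_congr (QuotientGroup.quotientKerEquivOfSurjective f hf).toEquiv] at h5
  have h5 := cent_co0 hao
  rw [h4] at h5
  have h6 : Nat.card (centralizer ({(QuotientGroup.mk a : Co1)} : Set Co1)) * 2 ∣ 2 ^ 2 * 3 * 13 * 2 :=
    (Nat.mul_dvd_mul_left _ h3).trans (h5.trans (by norm_num))
  exact Nat.dvd_of_mul_dvd_mul_right (by norm_num) h6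

end Cfsg.Agent.H518.Co13
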