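import Mathlib
import Cfsg.Agent.H518.SUExc
import Cfsg.Agent.ClassicalGeometry.AutPSL.Main
import Cfsg.Agent.Lib.FieldAutCard

/-!
# `PSL_6(2)` and `PSL_4(3)`
-/

set_option autoImplicit false
set_option linter.unusedSectionVars false

namespace Cfsg.Agent.H518.SU

open Module Cfsg.Agent.H518.DghpFix Cfsg.Agent.H518.DghpPrim Cfsg.Agent.H518.DghpMat

universe u v w

section Lin

variable {F : Type u} [Field F] [Fintype F] {V : Type v} [AddCommGroup V] [Module F V] [FiniteDimensional F V]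

omit [Fintype F] in
theorem finrank_rangeS (x : V →ₗ[F] V) : finrank F (LinearMap.range (x - 1)) + finrank F (fixS x) = finrank F V := by
  have h1 : LinearMap.ker (x - 1) = fixS x := by
    ext v
    rw [LinearMap.mem_ker, mem_fixS, LinearMap.sub_apply, Module.End.one_apply, sub_eq_zero]
  rw [← h1]
  exact LinearMap.finrank_range_add_finrank_ker _

/-- The invariant subspaces when the order of `q` modulo `r` is `dim V - 1`. -/
theorem invariant_anti {x : V →ₗ[F] V} {r : ℕ} (hr : r.Prime) (hrF : ¬ r ∣ Fintype.card F) (hx : x ^ r = 1)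
    (hx1 : x ≠ 1) {n : ℕ} (hn : finrank F V = n) (hn3 : 3 ≤ n)
    (he : orderOf ((Fintype.card F : ℕ) : ZMod r) + 1 = n) (U : Submodule F V) (hU : ∀ v ∈ U, x v ∈ U) :
    U = ⊥ ∨ U = fixS x ∨ U = LinearMap.range (x - 1) ∨ U = ⊤ := by
  have hx' : x ^ r ^ 1 = 1 := by rwa [pow_one]
  have h1 := finrank_fixS_add hr hrF hx' hx1 rfl (by omega)
  have hC : finrank F (fixS x) = 1 := by omega
  have hR := finrank_rangeS x
  have h2 := finrank_fix hr hrF hx' U hU
  have hUle : finrank F U ≤ n := hn ▸ Submodule.finrank_le U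
  by_cases hbot : U ⊓ fixS x = ⊥
  · rw [hbot, finrank_bot, Nat.sub_zero] at h2
    by_cases hU0 : finrank F U = 0
    · exact Or.inl (Submodule.finrank_eq_zero.1 hU0)
    right
    right
    left
    have h3 : finrank F U = orderOf ((Fintype.card F : ℕ) : ZMod r) := by
      obtain ⟨k, hk⟩ := h2
      have hk0 : k ≠ 0 := by
        rintro rfl
        omega
      have hk2 : k < 2 := by
        by_contra hcon
        have : orderOf ((Fintype.card F : ℕ) : ZMod r) * 2 ≤ orderOf ((Fintype.card F : ℕ) : ZMod r) * k :=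
          Nat.mul_le_mul_left _ (by omega)
        omega
      have : k = 1 := by omega
      rw [hk, this, mul_one]
    have h4 : U.map (x - 1) ≤ U := by
      rintro _ ⟨v, hv, rfl⟩
      rw [LinearMap.sub_apply, Module.End.one_apply]
      exact U.sub_mem (hU v hv) hv
    have h5 : finrank F (U.map (x - 1)) = finrank F U := by
      have h6 : Function.Injective ((x - 1).domRestrict U) := by
        rw [← LinearMap.ker_eq_bot, LinearMap.ker_eq_bot']
        intro v hv
        have h7 : (v : V) ∈ U ⊓ fixS x := by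
          refine ⟨v.2, ?_⟩
          have h8 : x v - v = 0 := hv
          exact sub_eq_zero.1 h8
        rw [hbot, Submodule.mem_bot] at h7
        exact Subtype.ext h7
      have h7 := LinearMap.finrank_range_of_inj h6
      rwa [LinearMap.range_domRestrict] at h7
    have h6 : U.map (x - 1) = U := Submodule.eq_of_le_of_finrank_eq h4 h5
    have h7 : U ≤ LinearMap.range (x - 1) := by
      rw [← h6]
      exact LinearMap.map_le_range
    exact Submodule.eq_of_le_of_finrank_eq h7 (by omega)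
  · have h3 : finrank F ↥(U ⊓ fixS x) = 1 := by
      have h4 : finrank F ↥(U ⊓ fixS x) ≤ 1 := hC ▸ Submodule.finrank_mono inf_le_right
      have h5 : finrank F ↥(U ⊓ fixS x) ≠ 0 := fun h => hbot (Submodule.finrank_eq_zero.1 h)
      omega
    have h4 : U ⊓ fixS x = fixS x := Submodule.eq_of_le_of_finrank_eq inf_le_right (by omega)
    have h5 : fixS x ≤ U := inf_eq_right.1 h4
    rw [h3] at h2
    obtain ⟨k, hk⟩ := h2
    have hk2 : k < 2 := by
      by_contra hcon
      have : orderOf ((Fintype.card F : ℕ) : ZMod r) * 2 ≤ orderOf ((Fintype.card F : ℕ) : ZMod r) * k :=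
        Nat.mul_le_mul_left _ (by omega)
      omega
    have hk' : k = 0 ∨ k = 1 := by omega
    have hU1 : 1 ≤ finrank F U := hC ▸ Submodule.finrank_mono h5
    rcases hk' with rfl | rfl
    · right
      left
      exact (Submodule.eq_of_le_of_finrank_eq h5 (by omega)).symm
    · right
      right
      right
      exact Submodule.eq_top_of_finrank_eq (by omega)

theorem isCompl_anti {x : V →ₗ[F] V} {r : ℕ} (hr : r.Prime) (hrF : ¬ r ∣ Fintype.card F) (hx : x ^ r = 1)
    (hx1 : x ≠ 1) {n : ℕ} (hn : finrank F V = n) (hn3 : 3 ≤ n)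
    (he : orderOf ((Fintype.card F : ℕ) : ZMod r) + 1 = n) : IsCompl (fixS x) (LinearMap.range (x - 1)) := by
  have hx' : x ^ r ^ 1 = 1 := by rwa [pow_one]
  have h1 := finrank_fixS_add hr hrF hx' hx1 rfl (by omega)
  have hC : finrank F (fixS x) = 1 := by omega
  have hR := finrank_rangeS x
  have hRx : ∀ v ∈ LinearMap.range (x - 1), x v ∈ LinearMap.range (x - 1) := by
    rintro _ ⟨v, rfl⟩
    refine ⟨x v, ?_⟩
    simp only [LinearMap.sub_apply, Module.End.one_apply, map_sub]
  have h2 := finrank_fix hr hrF hx' _ hRx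
  have hdisj : LinearMap.range (x - 1) ⊓ fixS x = ⊥ := by
    by_contra hbot
    have h3 : finrank F ↥(LinearMap.range (x - 1) ⊓ fixS x) = 1 := by
      have h4 : finrank F ↥(LinearMap.range (x - 1) ⊓ fixS x) ≤ 1 := hC ▸ Submodule.finrank_mono inf_le_right
      have h5 : finrank F ↥(LinearMap.range (x - 1) ⊓ fixS x) ≠ 0 := fun h => hbot (Submodule.finrank_eq_zero.1 h)
      omega
    rw [h3] at h2
    have := Nat.le_of_dvd (by omega) h2
    omega
  refine IsCompl.of_eq (by rwa [inf_comm]) ?_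
  apply Submodule.eq_top_of_finrank_eq
  have h3 := Submodule.finrank_sup_add_finrank_inf_eq (fixS x) (LinearMap.range (x - 1))
  rw [inf_comm, hdisj, finrank_bot] at h3
  omega

/-- Two solvably related elements share the fixed line or the hyperplane. -/
theorem share_anti {G : Type w} [Group G] [Finite G] (φ : G →* (V →ₗ[F] V)) (hφ : Function.Injective φ) {r n : ℕ}
    (hr : r.Prime) (hr2 : r ≠ 2) (hrF : ¬ r ∣ Fintype.card F) (hn : finrank F V = n) (hn3 : 3 ≤ n)
    (he : orderOf ((Fintype.card F : ℕ) : ZMod r) + 1 = n) (hs : n + 1 < r) {x z : G} (hx : orderOf x = r)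
    (hz : orderOf z = r) {M : Subgroup G} (hM : Group.IsSolvable M) (hxM : x ∈ M) (hzM : z ∈ M) :
    fixS (φ x) = fixS (φ z) ∨ LinearMap.range (φ x - 1) = LinearMap.range (φ z - 1) := by
  have hpow : ∀ y : G, orderOf y = r → φ y ^ r = 1 ∧ φ y ≠ 1 := by
    intro y hy
    refine ⟨by rw [← map_pow, ← hy, pow_orderOf_eq_one, map_one], fun h => ?_⟩
    have h1 : y = 1 := hφ (by rw [h, map_one])
    rw [h1, orderOf_one] at hy
    exact hr.one_lt.ne hy
  obtain ⟨hx0, hx1⟩ := hpow x hx
  obtain ⟨hz0, hz1⟩ := hpow z hz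
  have hfin : ∀ y : G, orderOf y = r → finrank F (fixS (φ y)) = 1 ∧
      finrank F (LinearMap.range (φ y - 1)) = n - 1 := by
    intro y hy
    obtain ⟨h0, h1⟩ := hpow y hy
    have h2 := finrank_fixS_add hr hrF (a := 1) (by rwa [pow_one]) h1 rfl (by omega)
    have h3 := finrank_rangeS (φ y)
    omega
  obtain ⟨fx, rx⟩ := hfin x hx
  obtain ⟨fz, rz⟩ := hfin z hz
  by_cases hirr : ∀ U : Submodule F V, (∀ g ∈ M, ∀ v ∈ U, φ g v ∈ U) → U = ⊥ ∨ U = ⊤
  · left
    have hV : (⊤ : Submodule F V) ≠ ⊥ := by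
      intro h
      have h1 : finrank F (⊤ : Submodule F V) = 0 := by rw [h, finrank_bot]
      rw [finrank_top] at h1
      omega
    have h1 := mem_zpowers_of_size φ hφ hr hr2 hrF (by omega) (Or.inl (by
      rw [hn, Nat.sub_self, pow_zero, pow_one]
      exact hs)) hx hM hxM (core_of_irred φ hφ hV hirr) z hzM hz
    obtain ⟨k, hk⟩ : ∃ k : ℕ, x ^ k = z := mem_powers_iff_mem_zpowers.2 h1
    refine Submodule.eq_of_le_of_finrank_eq ?_ (by omega)
    intro v hv
    rw [mem_fixS] at hv ⊢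
    rw [← hk, map_pow]
    clear hk
    induction k with
    | zero => rw [pow_zero]; rfl
    | succ k ih => rw [pow_succ, Module.End.mul_apply, hv, ih]
  · push Not at hirr
    obtain ⟨U, hU, hU0, hU1⟩ := hirr
    have h1 := invariant_anti hr hrF hx0 hx1 hn hn3 he U (hU x hxM)
    have h2 := invariant_anti hr hrF hz0 hz1 hn hn3 he U (hU z hzM)
    rcases h1 with h1 | h1 | h1 | h1
    · exact absurd h1 hU0
    · rcases h2 with h2 | h2 | h2 | h2
      · exact absurd h2 hU0
      · exact Or.inl (h1.symm.trans h2)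
      · exfalso
        rw [← h1] at fx
        rw [← h2] at rz
        omega
      · exact absurd h2 hU1
    · rcases h2 with h2 | h2 | h2 | h2
      · exact absurd h2 hU0
      · exfalso
        rw [← h2] at fz
        rw [← h1] at rx
        omega
      · exact Or.inr (h1.symm.trans h2)
      · exact absurd h2 hU1
    · exact absurd h1 hU1

omit [Fintype F] in
/-- Transitivity on antiflags. -/
theorem exists_equiv_anti {L₀ L H₀ H : Submodule F V} (h₀ : IsCompl L₀ H₀) (h : IsCompl L H)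
    (hL : finrank F L₀ = finrank F L) (hH : finrank F H₀ = finrank F H) :
    ∃ e : V ≃ₗ[F] V, L₀.map (e : V →ₗ[F] V) = L ∧ H₀.map (e : V →ₗ[F] V) = H := by
  let e1 : L₀ ≃ₗ[F] L := LinearEquiv.ofFinrankEq _ _ hL
  let e2 : H₀ ≃ₗ[F] H := LinearEquiv.ofFinrankEq _ _ hH
  let e : V ≃ₗ[F] V := (Submodule.prodEquivOfIsCompl L₀ H₀ h₀).symm.trans
    ((e1.prodCongr e2).trans (Submodule.prodEquivOfIsCompl L H h))
  have hel : ∀ v : L₀, e v = e1 v := by
    intro v
    have h1 : (Submodule.prodEquivOfIsCompl L₀ H₀ h₀).symm (v : V) = (v, 0) := by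
      rw [LinearEquiv.symm_apply_eq]
      simp [Submodule.coe_prodEquivOfIsCompl']
    show (Submodule.prodEquivOfIsCompl L H h) ((e1.prodCongr e2) ((Submodule.prodEquivOfIsCompl L₀ H₀ h₀).symm v)) = _
    rw [h1]
    simp [Submodule.coe_prodEquivOfIsCompl']
  have her : ∀ v : H₀, e v = e2 v := by
    intro v
    have h1 : (Submodule.prodEquivOfIsCompl L₀ H₀ h₀).symm (v : V) = (0, v) := by
      rw [LinearEquiv.symm_apply_eq]
      simp [Submodule.coe_prodEquivOfIsCompl']
    show (Submodule.prodEquivOfIsCompl L H h) ((e1.prodCongr e2) ((Submodule.prodEquivOfIsCompl L₀ H₀ h₀).symm v)) = _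
    rw [h1]
    simp [Submodule.coe_prodEquivOfIsCompl']
  refine ⟨e, ?_, ?_⟩
  · apply le_antisymm
    · rintro _ ⟨v, hv, rfl⟩
      have := hel ⟨v, hv⟩
      show e v ∈ L
      rw [this]
      exact (e1 _).2
    · intro v hv
      refine ⟨e1.symm ⟨v, hv⟩, (e1.symm _).2, ?_⟩
      show e _ = v
      rw [hel, e1.apply_symm_apply]
  · apply le_antisymm
    · rintro _ ⟨v, hv, rfl⟩
      have := her ⟨v, hv⟩
      show e v ∈ H
      rw [this]
      exact (e2 _).2
    · intro v hv
      refine ⟨e2.symm ⟨v, hv⟩, (e2.symm _).2, ?_⟩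
      show e _ = v
      rw [her, e2.apply_symm_apply]

end Lin

section

variable {F : Type u} [Field F] [Fintype F] {n : ℕ}

open Cfsg.Agent.ClassicalGeometry.AutPSL.Root Cfsg.Agent.ClassicalGeometry.AutPSL.Auto
  Cfsg.Agent.ClassicalGeometry.AutPSL.Main Matrix

/-- The representation of `SL`. -/
noncomputable abbrev rho (n : ℕ) (F : Type u) [Field F] :
    Matrix.SpecialLinearGroup (Fin n) F →* ((Fin n → F) →ₗ[F] (Fin n → F)) := matRep (slHom (Fin n) F)

theorem rho_apply (g : Matrix.SpecialLinearGroup (Fin n) F) (v : Fin n → F) : rho n F g v = g.1 *ᵥ v := rfl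

theorem rho_cj (A : GL (Fin n) F) (g : Matrix.SpecialLinearGroup (Fin n) F) (v : Fin n → F) :
    rho n F (cj A g) v = A.1 *ᵥ (g.1 *ᵥ ((A⁻¹ : GL (Fin n) F).1 *ᵥ v)) := by
  rw [rho_apply, coe_cj, ← mulVec_mulVec, ← mulVec_mulVec]

theorem gl_inv_mulVec (A : GL (Fin n) F) (v : Fin n → F) : (A⁻¹ : GL (Fin n) F).1 *ᵥ (A.1 *ᵥ v) = v := by
  rw [mulVec_mulVec, ← Units.val_mul, inv_mul_cancel, Units.val_one, one_mulVec]

theorem gl_mulVec_inv (A : GL (Fin n) F) (v : Fin n → F) : A.1 *ᵥ ((A⁻¹ : GL (Fin n) F).1 *ᵥ v) = v := by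
  rw [mulVec_mulVec, ← Units.val_mul, mul_inv_cancel, Units.val_one, one_mulVec]

theorem mem_fixS_cj {A : GL (Fin n) F} {g : Matrix.SpecialLinearGroup (Fin n) F} {v : Fin n → F} :
    v ∈ fixS (rho n F (cj A g)) ↔ (A⁻¹ : GL (Fin n) F).1 *ᵥ v ∈ fixS (rho n F g) := by
  rw [mem_fixS, mem_fixS, rho_cj, rho_apply]
  constructor
  · intro h
    have := congrArg (fun w => (A⁻¹ : GL (Fin n) F).1 *ᵥ w) h
    simpa only [gl_inv_mulVec] using this
  · intro h
    rw [h, gl_mulVec_inv]

theorem mem_range_cj {A : GL (Fin n) F} {g : Matrix.SpecialLinearGroup (Fin n) F} {v : Fin n → F} :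
    v ∈ LinearMap.range (rho n F (cj A g) - 1) ↔
      (A⁻¹ : GL (Fin n) F).1 *ᵥ v ∈ LinearMap.range (rho n F g - 1) := by
  constructor
  · rintro ⟨w, rfl⟩
    refine ⟨(A⁻¹ : GL (Fin n) F).1 *ᵥ w, ?_⟩
    rw [LinearMap.sub_apply, LinearMap.sub_apply, Module.End.one_apply, Module.End.one_apply, rho_cj, rho_apply,
      mulVec_sub, gl_inv_mulVec]
  · rintro ⟨w, hw⟩
    refine ⟨A.1 *ᵥ w, ?_⟩
    rw [LinearMap.sub_apply, Module.End.one_apply, rho_apply] at hw
    rw [LinearMap.sub_apply, Module.End.one_apply, rho_cj, gl_inv_mulVec, ← mulVec_sub, hw, gl_mulVec_inv]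

theorem hyp_facts {r : ℕ} (hr : r.Prime) {x : Matrix.SpecialLinearGroup (Fin n) F} (hx : orderOf x = r) :
    rho n F x ^ r = 1 ∧ rho n F x ≠ 1 := by
  refine ⟨by rw [← map_pow, ← hx, pow_orderOf_eq_one, map_one], fun h => ?_⟩
  have h1 : x = 1 := matRep_injective (slHom_injective _ _) (by rw [h, map_one])
  rw [h1, orderOf_one] at hx
  exact hr.one_lt.ne hx

/-- Elements of order `r` with a given line and hyperplane. -/
theorem exists_anti {r : ℕ} (hr : r.Prime) (hrF : ¬ r ∣ Fintype.card F) (hn3 : 3 ≤ n)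
    (he : orderOf ((Fintype.card F : ℕ) : ZMod r) + 1 = n) (hrG : r ∣ Nat.card (Matrix.SpecialLinearGroup (Fin n) F))
    {L H : Submodule F (Fin n → F)} (h : IsCompl L H) (hL : finrank F L = 1) :
    ∃ x : Matrix.SpecialLinearGroup (Fin n) F, orderOf x = r ∧ fixS (rho n F x) = L ∧
      LinearMap.range (rho n F x - 1) = H := by
  have : Fact r.Prime := ⟨hr⟩
  have hn : finrank F (Fin n → F) = n := by rw [finrank_pi_fin, Fintype.card_fin]
  obtain ⟨x₀, hx₀⟩ := exists_prime_orderOf_dvd_card' r hrG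
  obtain ⟨h0, h1⟩ := hyp_facts hr hx₀
  have hc := isCompl_anti hr hrF h0 h1 hn hn3 he
  have h2 := finrank_fixS_add hr hrF (a := 1) (by rwa [pow_one]) h1 rfl (by omega)
  have h3 := finrank_rangeS (rho n F x₀)
  have h4 := Submodule.finrank_add_eq_of_isCompl h
  obtain ⟨e, he1, he2⟩ := exists_equiv_anti hc h (by omega) (by omega)
  let A : GL (Fin n) F := Matrix.GeneralLinearGroup.toLin.symm (LinearMap.GeneralLinearGroup.ofLinearEquiv e)
  have hA : ∀ v, A.1 *ᵥ v = e v := by
    intro v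
    have h5 : Matrix.GeneralLinearGroup.toLin A = LinearMap.GeneralLinearGroup.ofLinearEquiv e :=
      Matrix.GeneralLinearGroup.toLin.apply_symm_apply _
    have h6 := congrArg (fun u : LinearMap.GeneralLinearGroup F (Fin n → F) => (u : (Fin n → F) →ₗ[F] (Fin n → F)) v) h5
    exact h6
  have hA' : ∀ v, (A⁻¹ : GL (Fin n) F).1 *ᵥ v = e.symm v := by
    intro v
    rw [LinearEquiv.eq_symm_apply, ← hA, gl_mulVec_inv]
  refine ⟨cj A x₀, by rw [MulEquiv.orderOf_eq, hx₀], ?_, ?_⟩
  · ext v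
    rw [mem_fixS_cj, hA', ← he1, Submodule.mem_map_equiv]
  · ext v
    rw [mem_range_cj, hA', ← he2, Submodule.mem_map_equiv]

end

end Cfsg.Agent.H518.SU
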