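import Mathlib
import Cfsg.Agent.H518.SUAnti

/-!
# `PSL_6(2)` and `PSL_4(3)`: the theorem
-/

set_option autoImplicit false
set_option linter.unusedSectionVars false

namespace Cfsg.Agent.H518.SU

open Module Cfsg.Agent.H518.DghpFix Cfsg.Agent.H518.DghpPrim Cfsg.Agent.H518.DghpMat
open Cfsg.Agent.ClassicalGeometry.AutPSL.Root Cfsg.Agent.ClassicalGeometry.AutPSL.Auto
  Cfsg.Agent.ClassicalGeometry.AutPSL.Main Matrix

universe u v w

section

variable {F : Type u} [Field F] {n : ℕ}

/-- The linear form given by a vector. -/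
def dl (a : Fin n → F) : (Fin n → F) →ₗ[F] F where
  toFun w := a ⬝ᵥ w
  map_add' := dotProduct_add a
  map_smul' c w := by rw [dotProduct_smul]; rfl

theorem dl_apply (a w : Fin n → F) : dl a w = a ⬝ᵥ w := rfl

theorem isCompl_ker {V : Type v} [AddCommGroup V] [Module F V] {f : V →ₗ[F] F} {v : V} (h : f v ≠ 0) :
    IsCompl (F ∙ v) (LinearMap.ker f) := by
  refine IsCompl.of_eq ?_ ?_
  · rw [eq_bot_iff]
    rintro w ⟨hw1, hw2⟩
    obtain ⟨c, rfl⟩ := Submodule.mem_span_singleton.1 hw1
    have h1 : f (c • v) = 0 := hw2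
    rw [map_smul, smul_eq_mul] at h1
    rw [Submodule.mem_bot, (mul_eq_zero.1 h1).resolve_right h, zero_smul]
  · rw [eq_top_iff]
    intro w _
    rw [Submodule.mem_sup]
    refine ⟨(f w / f v) • v, Submodule.smul_mem _ _ (Submodule.mem_span_singleton_self v), w - (f w / f v) • v, ?_, by
      abel⟩
    rw [LinearMap.mem_ker, map_sub, map_smul, smul_eq_mul, div_mul_cancel₀ _ h, sub_self]

/-- Every hyperplane form is given by a vector. -/
theorem exists_dl {v w : Fin n → F} (h : v ∉ (F ∙ w : Submodule F (Fin n → F))) : ∃ a : Fin n → F,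
    a ⬝ᵥ v ≠ 0 ∧ a ⬝ᵥ w = 0 := by
  obtain ⟨f, hf1, hf2⟩ := Submodule.exists_dual_map_eq_bot_of_notMem h inferInstance
  have hf : ∀ u, (fun i => f (Pi.single i 1)) ⬝ᵥ u = f u := by
    intro u
    have h1 : u = ∑ i, u i • (Pi.single i 1 : Fin n → F) := by
      ext j
      simp [Finset.sum_apply, Pi.single_apply]
    conv_rhs => rw [h1, map_sum]
    simp only [map_smul, smul_eq_mul, dotProduct]
    exact Finset.sum_congr rfl fun i _ => mul_comm _ _
  refine ⟨fun i => f (Pi.single i 1), by rwa [hf], ?_⟩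
  rw [hf]
  have h1 : f w ∈ Submodule.map f (F ∙ w : Submodule F (Fin n → F)) :=
    ⟨w, Submodule.mem_span_singleton_self w, rfl⟩
  rw [hf2, Submodule.mem_bot] at h1
  exact h1

/-- Matrices preserving all lines are scalar. -/
theorem cj_eq_one_of_lines {A : GL (Fin n) F} (h : ∀ v, A.1 *ᵥ v ∈ (F ∙ v : Submodule F (Fin n → F))) : cj A = 1 := by
  obtain ⟨a, ha⟩ := LinearMap.exists_eq_smul_id_of_forall_notLinearIndependent (f := Matrix.toLin' A.1) (by
    intro v hli
    obtain ⟨c, hc⟩ := Submodule.mem_span_singleton.1 (h v)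
    rw [LinearIndependent.pair_iff] at hli
    have := hli c (-1) (by
      rw [Matrix.toLin'_apply, ← hc]
      simp)
    exact absurd this.2 (by simp))
  have hA : ∀ v, A.1 *ᵥ v = a • v := by
    intro v
    have := congrArg (fun f : (Fin n → F) →ₗ[F] (Fin n → F) => f v) ha
    exact this
  have hA' : A.1 = a • 1 := by
    apply Matrix.toLin'.injective
    apply LinearMap.ext
    intro v
    rw [Matrix.toLin'_apply, hA, Matrix.toLin'_apply, smul_mulVec, one_mulVec]
  apply MulEquiv.ext
  intro g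
  apply Subtype.ext
  rw [coe_cj]
  have h1 : A.1 * g.1 = g.1 * A.1 := by
    rw [hA']
    simp
  show A.1 * g.1 * (A⁻¹ : GL (Fin n) F).1 = g.1
  rw [h1, mul_assoc, ← Units.val_mul, mul_inv_cancel, Units.val_one, mul_one]

/-- A vector off a hyperplane and off two lines. -/
theorem exists_off (hn : 3 ≤ n) {a : Fin n → F} (ha : a ≠ 0) (b c : Fin n → F) :
    ∃ v : Fin n → F, a ⬝ᵥ v ≠ 0 ∧ v ∉ (F ∙ b : Submodule F (Fin n → F)) ∧ v ∉ (F ∙ c : Submodule F (Fin n → F)) := by
  classical
  obtain ⟨i, hi⟩ : ∃ i, a i ≠ 0 := by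
    by_contra hcon
    push Not at hcon
    exact ha (funext hcon)
  have hv₁ : a ⬝ᵥ Pi.single i 1 ≠ 0 := by simpa using hi
  -- two independent vectors of the hyperplane
  have hker : finrank F (LinearMap.ker (dl a)) + 1 = n := by
    have h1 := LinearMap.finrank_range_add_finrank_ker (dl a)
    rw [finrank_fin_fun] at h1
    have h2 : LinearMap.range (dl a) = ⊤ := by
      rw [LinearMap.range_eq_top]
      intro t
      refine ⟨(t / (a ⬝ᵥ Pi.single i 1)) • Pi.single i 1, ?_⟩
      rw [dl_apply, dotProduct_smul, smul_eq_mul, div_mul_cancel₀ _ hv₁]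
    rw [h2, finrank_top, finrank_self] at h1
    omega
  obtain ⟨h₁, hh₁⟩ : ∃ h : LinearMap.ker (dl a), h ≠ 0 := by
    have : Nontrivial (LinearMap.ker (dl a)) := Module.nontrivial_of_finrank_pos (R := F) (by omega)
    exact exists_ne 0
  obtain ⟨h₂, hh₂⟩ : ∃ h : LinearMap.ker (dl a), h ∉ (F ∙ h₁ : Submodule F (LinearMap.ker (dl a))) := by
    by_contra hcon
    push Not at hcon
    have h2 : (F ∙ h₁ : Submodule F (LinearMap.ker (dl a))) = ⊤ := by
      rw [eq_top_iff]
      intro x _
      exact hcon x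
    have h3 := finrank_span_singleton (K := F) hh₁
    rw [h2, finrank_top] at h3
    omega
  have hh₂0 : h₂ ≠ 0 := by
    rintro rfl
    exact hh₂ (Submodule.zero_mem _)
  have hh12 : h₂ ≠ h₁ := by
    rintro rfl
    exact hh₂ (Submodule.mem_span_singleton_self _)
  set v₁ : Fin n → F := Pi.single i 1 with hv₁def
  have hoff : ∀ h : LinearMap.ker (dl a), a ⬝ᵥ (v₁ + h) ≠ 0 := by
    intro h
    rw [dotProduct_add, show a ⬝ᵥ (h : Fin n → F) = 0 from h.2, add_zero]
    exact hv₁
  -- a line contains at most one of the vectors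
  have key : ∀ d : Fin n → F, ∀ h h' : LinearMap.ker (dl a), v₁ + h ∈ (F ∙ d : Submodule F (Fin n → F)) →
      v₁ + h' ∈ (F ∙ d : Submodule F (Fin n → F)) → h = h' := by
    intro d h h' hm hm'
    by_contra hne
    have h1 : (h : Fin n → F) - h' ∈ (F ∙ d : Submodule F (Fin n → F)) := by
      have := Submodule.sub_mem _ hm hm'
      rwa [add_sub_add_left_eq_sub] at this
    have h2 : (h : Fin n → F) - h' ≠ 0 := fun h3 => hne (Subtype.ext (sub_eq_zero.1 h3))
    obtain ⟨s, hs⟩ := Submodule.mem_span_singleton.1 h1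
    have hs0 : s ≠ 0 := by
      rintro rfl
      rw [zero_smul] at hs
      exact h2 hs.symm
    obtain ⟨t, ht⟩ := Submodule.mem_span_singleton.1 hm
    have h3 : a ⬝ᵥ d = 0 := by
      have h4 : a ⬝ᵥ (s • d) = 0 := by
        rw [hs, dotProduct_sub, show a ⬝ᵥ (h : Fin n → F) = 0 from h.2, show a ⬝ᵥ (h' : Fin n → F) = 0 from h'.2,
          sub_zero]
      rw [dotProduct_smul, smul_eq_mul] at h4
      exact (mul_eq_zero.1 h4).resolve_left hs0
    apply hoff h
    rw [← ht, dotProduct_smul, h3, smul_zero]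
  by_contra hcon
  push Not at hcon
  have hin : ∀ h : LinearMap.ker (dl a), v₁ + h ∈ (F ∙ b : Submodule F (Fin n → F)) ∨
      v₁ + h ∈ (F ∙ c : Submodule F (Fin n → F)) := by
    intro h
    by_cases h1 : v₁ + h ∈ (F ∙ b : Submodule F (Fin n → F))
    · exact Or.inl h1
    · exact Or.inr (hcon _ (hoff h) h1)
  rcases hin 0 with h0 | h0 <;> rcases hin h₁ with h1 | h1 <;> rcases hin h₂ with h2 | h2
  · exact hh₁ (key b _ _ h1 h0)
  · exact hh₁ (key b _ _ h1 h0)
  · exact hh₂0 (key b _ _ h2 h0)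
  · exact hh12 (key c _ _ h2 h1)
  · exact hh12 (key b _ _ h2 h1)
  · exact hh₂0 (key c _ _ h2 h0)
  · exact hh₁ (key c _ _ h1 h0)
  · exact hh₁ (key c _ _ h1 h0)

end

section

variable {F : Type u} [Field F] [Fintype F] {n : ℕ}

theorem mem_fixS_itr {x : Matrix.SpecialLinearGroup (Fin n) F} {a : Fin n → F}
    (h : ∀ w, a ⬝ᵥ (x.1 *ᵥ w) = a ⬝ᵥ w) : a ∈ fixS (rho n F (itr x)) := by
  rw [mem_fixS, rho_apply, coe_itr]
  have h1 : x.1ᵀ *ᵥ a = a := by
    rw [mulVec_transpose]
    apply dotProduct_eq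
    intro w
    rw [← dotProduct_mulVec, h]
  have h2 : ((x⁻¹ : Matrix.SpecialLinearGroup (Fin n) F) : Matrix (Fin n) (Fin n) F)ᵀ *ᵥ (x.1ᵀ *ᵥ a) = a := by
    rw [mulVec_mulVec, ← transpose_mul]
    have h3 : x.1 * ((x⁻¹ : Matrix.SpecialLinearGroup (Fin n) F) : Matrix (Fin n) (Fin n) F) = 1 := by
      have := congrArg (Subtype.val : Matrix.SpecialLinearGroup (Fin n) F → _) (mul_inv_cancel x)
      exact this
    rw [h3, transpose_one, one_mulVec]
  rwa [h1] at h2

theorem dotProduct_range_itr {x : Matrix.SpecialLinearGroup (Fin n) F} {v : Fin n → F}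
    (h : v ∈ fixS (rho n F x)) : ∀ w ∈ LinearMap.range (rho n F (itr x) - 1), v ⬝ᵥ w = 0 := by
  rintro _ ⟨w, rfl⟩
  rw [LinearMap.sub_apply, Module.End.one_apply, rho_apply, coe_itr, dotProduct_sub, dotProduct_mulVec,
    vecMul_transpose]
  have h1 : (x⁻¹ : Matrix.SpecialLinearGroup (Fin n) F).1 *ᵥ v = v := by
    rw [mem_fixS, rho_apply] at h
    conv_lhs => rw [← h]
    rw [mulVec_mulVec]
    have h3 : (x⁻¹ : Matrix.SpecialLinearGroup (Fin n) F).1 * x.1 = 1 := by
      have := congrArg (Subtype.val : Matrix.SpecialLinearGroup (Fin n) F → _) (inv_mul_cancel x)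
      exact this
    rw [h3, one_mulVec]
  show ((x⁻¹ : Matrix.SpecialLinearGroup (Fin n) F).1 *ᵥ v) ⬝ᵥ w - v ⬝ᵥ w = 0
  rw [h1, sub_self]

end

section

variable {F : Type} [Field F] [Fintype F] {n : ℕ}

/-- **The antiflag theorem.** -/
theorem exc_anti {p₀ r : ℕ} (hp₀ : p₀.Prime) (hF : Fintype.card F = p₀) (hr : r.Prime) (h5 : 5 ≤ r) (hn3 : 3 ≤ n)
    (he : orderOf ((p₀ : ℕ) : ZMod r) + 1 = n) (hs : n + 1 < r)
    (hO : ¬ r ∣ Nat.card (Cfsg.Out (Matrix.ProjectiveSpecialLinearGroup (Fin n) F)))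
    (hK2 : ¬ r ^ 2 ∣ Nat.card (Matrix.ProjectiveSpecialLinearGroup (Fin n) F)) :
    Exc1 (Matrix.ProjectiveSpecialLinearGroup (Fin n) F) := by
  have hpf : Fact p₀.Prime := ⟨hp₀⟩
  have hcharP : CharP F p₀ := charP_of_card_eq_prime hF
  have hrq : ¬ r ∣ p₀ := not_dvd_of_orderOf hr rfl (by omega)
  have hrF : ¬ r ∣ Fintype.card F := by rwa [hF]
  have he' : orderOf ((Fintype.card F : ℕ) : ZMod r) + 1 = n := by rw [hF]; exact he
  have hn : finrank F (Fin n → F) = n := by rw [finrank_pi_fin, Fintype.card_fin]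
  have hrG : r ∣ Nat.card (Matrix.SpecialLinearGroup (Fin n) F) :=
    (dvd_pow_sub_one (q := p₀) (r := r) (n := n - 1) hp₀.one_lt.le (by omega)).trans
      (pow_sub_one_dvd_card_SL (n := n) hF (j := n - 1) (by omega) (by omega))
  have hfinK : Finite (Matrix.ProjectiveSpecialLinearGroup (Fin n) F) := inferInstanceAs (Finite (_ ⧸ _))
  have hrZ : ¬ r ∣ Nat.card (Subgroup.center (Matrix.SpecialLinearGroup (Fin n) F)) := by
    have h2 := Cfsg.Agent.S0243.result hF n (by omega)
    have h3 := Cfsg.Agent.S0242.result hF n (by omega)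
    have hq1 : 0 < p₀ - 1 := by
      have := hp₀.one_lt
      omega
    have h4 : (p₀ - 1) * (Nat.gcd n (p₀ - 1) * Nat.card (Matrix.ProjectiveSpecialLinearGroup (Fin n) F)) =
        (p₀ - 1) * Nat.card (Matrix.SpecialLinearGroup (Fin n) F) := by
      rw [h3, ← h2]
      ring
    have h5 := Nat.eq_of_mul_eq_mul_left hq1 h4
    have h6 : Nat.card (Matrix.SpecialLinearGroup (Fin n) F) =
        Nat.card (Matrix.ProjectiveSpecialLinearGroup (Fin n) F) *
          Nat.card (Subgroup.center (Matrix.SpecialLinearGroup (Fin n) F)) :=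
      Subgroup.card_eq_card_quotient_mul_card_subgroup _
    rw [h6, mul_comm] at h5
    have h7 : Nat.gcd n (p₀ - 1) = Nat.card (Subgroup.center (Matrix.SpecialLinearGroup (Fin n) F)) :=
      Nat.eq_of_mul_eq_mul_left Nat.card_pos h5
    rw [← h7]
    intro h
    have := Nat.le_of_dvd (Nat.gcd_pos_of_pos_left _ (by omega)) h
    have := Nat.gcd_le_left (p₀ - 1) (by omega : 0 < n)
    omega
  have hker : (pr : Matrix.SpecialLinearGroup (Fin n) F →* _).ker =
      Subgroup.center (Matrix.SpecialLinearGroup (Fin n) F) := QuotientGroup.ker_mk' _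
  have hkerS : Group.IsSolvable (pr : Matrix.SpecialLinearGroup (Fin n) F →* _).ker := by
    rw [hker]
    exact Group.isSolvable_of_comm fun a b => Subtype.ext ((Subgroup.mem_center_iff.1 b.2) a)
  have hrK : r ∣ Nat.card (Matrix.ProjectiveSpecialLinearGroup (Fin n) F) := by
    have h6 : Nat.card (Matrix.SpecialLinearGroup (Fin n) F) =
        Nat.card (Matrix.ProjectiveSpecialLinearGroup (Fin n) F) *
          Nat.card (Subgroup.center (Matrix.SpecialLinearGroup (Fin n) F)) :=
      Subgroup.card_eq_card_quotient_mul_card_subgroup _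
    rw [h6] at hrG
    exact ((Nat.Prime.dvd_mul hr).1 hrG).resolve_right hrZ
  refine Exc1.of hr h5 hO hrK hK2 fun β hβ => ?_
  by_contra hcon
  push Not at hcon
  -- the condition on `SL`
  have key : ∀ e : MulAut (Matrix.SpecialLinearGroup (Fin n) F), β = lift e →
      ∀ x : Matrix.SpecialLinearGroup (Fin n) F, orderOf x = r →
      fixS (rho n F x) = fixS (rho n F (e x)) ∨
        LinearMap.range (rho n F x - 1) = LinearMap.range (rho n F (e x) - 1) := by
    intro e hβe x hx
    have h1 : orderOf (pr x) = r := by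
      have := orderOf_map (a := 1) hr (by rw [hx, pow_one]) pr (by rw [hker]; exact hrZ)
      rwa [pow_one] at this
    have h2 := hcon (pr x) h1
    rw [hβe, lift_pr] at h2
    have h3 : (Subgroup.closure ({x, e x} : Set (Matrix.SpecialLinearGroup (Fin n) F))).map pr =
        Subgroup.closure ({pr x, pr (e x)} : Set _) := by
      rw [MonoidHom.map_closure, Set.image_pair]
    have h4 : Group.IsSolvable
        (Subgroup.closure ({x, e x} : Set (Matrix.SpecialLinearGroup (Fin n) F))) := by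
      apply solvable_of_map pr hkerS
      rw [h3]
      exact h2
    exact share_anti (rho n F) (matRep_injective (slHom_injective _ _)) hr (by omega) hrF hn hn3 he' hs hx
      (by rw [MulEquiv.orderOf_eq, hx]) h4 (Subgroup.subset_closure (by simp)) (Subgroup.subset_closure (by simp))
  have hfld : ∀ σ : F ≃+* F, fld (ι := Fin n) σ = 1 := by
    intro σ
    have h1 : Nat.card (F ≃+* F) = 1 := Lib.FieldAutCard.card_ringAut (p := p₀) le_rfl (by rw [hF, pow_one])
    have h2 : Subsingleton (F ≃+* F) := (Nat.card_eq_one_iff_unique.1 h1).1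
    rw [Subsingleton.elim σ 1, map_one]
  rcases surj_three p₀ hn3 β with ⟨A, σ, hA⟩ | ⟨A, σ, hA⟩
  · rw [hfld, mul_one] at hA
    have hAv : ∃ v, A.1 *ᵥ v ∉ (F ∙ v : Submodule F (Fin n → F)) := by
      by_contra hc
      push Not at hc
      exact hβ (by rw [hA, cj_eq_one_of_lines hc, map_one])
    obtain ⟨v, hv⟩ := hAv
    have hv' : v ∉ (F ∙ ((A⁻¹ : GL (Fin n) F).1 *ᵥ v) : Submodule F (Fin n → F)) := by
      intro h
      obtain ⟨c, hc⟩ := Submodule.mem_span_singleton.1 h
      apply hv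
      have h1 := congrArg (fun w => A.1 *ᵥ w) hc
      simp only [mulVec_smul, gl_mulVec_inv] at h1
      rw [← h1]
      exact Submodule.smul_mem _ _ (Submodule.mem_span_singleton_self v)
    obtain ⟨a, ha1, ha2⟩ := exists_dl hv'
    have hv0 : v ≠ 0 := by
      rintro rfl
      exact ha1 (dotProduct_zero a)
    obtain ⟨x, hx, hfix, hrange⟩ := exists_anti hr hrF hn3 he' hrG
      (isCompl_ker (f := dl a) (v := v) ha1) (finrank_span_singleton hv0)
    rcases key _ hA x hx with h | h
    · apply hv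
      have h1 : v ∈ fixS (rho n F x) := by rw [hfix]; exact Submodule.mem_span_singleton_self v
      rw [← hfix, h, mem_fixS_cj, gl_inv_mulVec]
      exact h1
    · have h1 : (A⁻¹ : GL (Fin n) F).1 *ᵥ v ∈ LinearMap.range (rho n F x - 1) := by
        rw [hrange]
        exact ha2
      have h2 : v ∈ LinearMap.range (rho n F (cj A x) - 1) := mem_range_cj.2 h1
      rw [← h, hrange] at h2
      exact ha1 h2
  · rw [hfld, mul_one] at hA
    have hn0 : 0 < n := by omega
    set a : Fin n → F := Pi.single ⟨0, hn0⟩ 1 with hadef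
    have ha0 : a ≠ 0 := by
      intro h
      have := congrFun h ⟨0, hn0⟩
      rw [hadef, Pi.single_eq_same] at this
      exact one_ne_zero this
    obtain ⟨v, hav, hv1, hv2⟩ := exists_off hn3 ha0 (A.1 *ᵥ a) (a ᵥ* A.1)
    have hv0 : v ≠ 0 := by
      rintro rfl
      exact hav (dotProduct_zero a)
    obtain ⟨x, hx, hfix, hrange⟩ := exists_anti hr hrF hn3 he' hrG
      (isCompl_ker (f := dl a) (v := v) hav) (finrank_span_singleton hv0)
    rcases key _ hA x hx with h | h
    · -- the fixed line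
      have h1 : a ∈ fixS (rho n F (itr x)) := by
        refine mem_fixS_itr fun w => ?_
        have h2 : rho n F x w - w ∈ LinearMap.range (rho n F x - 1) := ⟨w, rfl⟩
        rw [hrange] at h2
        have h3 : a ⬝ᵥ (rho n F x w - w) = 0 := h2
        rw [dotProduct_sub, sub_eq_zero] at h3
        exact h3
      have h2 : A.1 *ᵥ a ∈ fixS (rho n F ((cj A * itr : MulAut _) x)) := by
        show A.1 *ᵥ a ∈ fixS (rho n F (cj A (itr x)))
        rw [mem_fixS_cj, gl_inv_mulVec]
        exact h1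
      rw [← h, hfix] at h2
      obtain ⟨c, hc⟩ := Submodule.mem_span_singleton.1 h2
      have hc0 : c ≠ 0 := by
        rintro rfl
        rw [zero_smul] at hc
        have h3 := gl_inv_mulVec A a
        rw [← hc, mulVec_zero] at h3
        exact ha0 h3.symm
      apply hv1
      rw [← hc]
      refine Submodule.mem_span_singleton.2 ⟨c⁻¹, ?_⟩
      rw [smul_smul, inv_mul_cancel₀ hc0, one_smul]
    · -- the hyperplane
      have hvx : v ∈ fixS (rho n F x) := by rw [hfix]; exact Submodule.mem_span_singleton_self v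
      apply hv2
      -- the forms `a` and `A⁻ᵀ v` have the same kernel
      have h3 : ∀ w, a ⬝ᵥ w = 0 → (v ᵥ* (A⁻¹ : GL (Fin n) F).1) ⬝ᵥ w = 0 := by
        intro w hw
        have h4 : w ∈ LinearMap.range (rho n F x - 1) := by rw [hrange]; exact hw
        rw [h] at h4
        have h5 := dotProduct_range_itr hvx _ (mem_range_cj.1 (show w ∈ LinearMap.range (rho n F (cj A (itr x)) - 1)
          from h4))
        rwa [dotProduct_mulVec] at h5
      by_contra hcon2
      have h6 : (v ᵥ* (A⁻¹ : GL (Fin n) F).1) ∉ (F ∙ a : Submodule F (Fin n → F)) := by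
        intro h7
        apply hcon2
        obtain ⟨c, hc⟩ := Submodule.mem_span_singleton.1 h7
        have h8 : (v ᵥ* (A⁻¹ : GL (Fin n) F).1) ᵥ* A.1 = v := by
          rw [vecMul_vecMul, ← Units.val_mul, inv_mul_cancel, Units.val_one, vecMul_one]
        rw [← h8, ← hc, smul_vecMul]
        exact Submodule.smul_mem _ _ (Submodule.mem_span_singleton_self _)
      obtain ⟨w, hw1, hw2⟩ := exists_dl h6
      rw [dotProduct_comm] at hw1 hw2
      exact hw1 (h3 w hw2)

theorem exc_psl_six {F : Type} [Field F] [Fintype F] (hF : Fintype.card F = 2)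
    (hZ : Subgroup.center (Matrix.ProjectiveSpecialLinearGroup (Fin 6) F) = ⊥) :
    Exc1 (Matrix.ProjectiveSpecialLinearGroup (Fin 6) F) := by
  have hord : orderOf ((2 : ℕ) : ZMod 31) = 5 :=
    orderOf_eq_of (by norm_num) (by norm_num) (by norm_num) fun i h1 h2 => by
      interval_cases i <;> norm_num
  refine exc_anti (r := 31) Nat.prime_two hF (by norm_num) (by norm_num) (by norm_num) (by rw [hord]) (by norm_num) ?_ ?_
  · rw [H163.PG.card_out_psl (f := 1) Nat.prime_two le_rfl (by rw [hF]; rfl) (by norm_num) hZ, hF]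
    norm_num
  · intro h
    have h2 := Cfsg.Agent.S0243.result hF 6 (by norm_num)
    have h3 : 31 ^ 2 ∣ ∏ i : Fin 6, (2 ^ 6 - 2 ^ (i : ℕ)) := by
      rw [← h2]
      exact Dvd.dvd.mul_left (Dvd.dvd.mul_left h _) _
    revert h3
    decide

theorem exc_psl_four {F : Type} [Field F] [Fintype F] (hF : Fintype.card F = 3)
    (hZ : Subgroup.center (Matrix.ProjectiveSpecialLinearGroup (Fin 4) F) = ⊥) :
    Exc1 (Matrix.ProjectiveSpecialLinearGroup (Fin 4) F) := by
  have hord : orderOf ((3 : ℕ) : ZMod 13) = 3 :=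
    orderOf_eq_of (by norm_num) (by norm_num) (by norm_num) fun i h1 h2 => by
      interval_cases i <;> norm_num
  refine exc_anti (r := 13) Nat.prime_three hF (by norm_num) (by norm_num) (by norm_num) (by rw [hord]) (by norm_num) ?_ ?_
  · rw [H163.PG.card_out_psl (f := 1) Nat.prime_three le_rfl (by rw [hF]; rfl) (by norm_num) hZ, hF]
    norm_num
  · intro h
    have h2 := Cfsg.Agent.S0243.result hF 4 (by norm_num)
    have h3 : 13 ^ 2 ∣ ∏ i : Fin 4, (3 ^ 4 - 3 ^ (i : ℕ)) := by
      rw [← h2]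
      exact Dvd.dvd.mul_left (Dvd.dvd.mul_left h _) _
    revert h3
    decide

end

end Cfsg.Agent.H518.SU
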