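import Mathlib
import Cfsg.Agent.H518.SUPair

/-!
# Hermitian planes over the field with four elements
-/

set_option autoImplicit false
set_option linter.unusedSectionVars false

namespace Cfsg.Agent.H518.SU

open Module Cfsg.Agent.H518.DghpFix Cfsg.Agent.H518.DghpPrim

universe u v w w'

section

variable {F : Type u} [Field F] [Fintype F] {V : Type v} [AddCommGroup V] [Module F V] {B : V → V → F}

/-- A hermitian form over the field with four elements. -/
structure Hm (B : V → V → F) : Prop extends Frm B where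
  herm : ∀ x y, B y x = B x y ^ 2
  cd : Fintype.card F = 4

theorem Hm.two (h : Hm B) : (2 : F) = 0 := by
  have h1 := FiniteField.cast_card_eq_zero F
  rw [h.cd] at h1
  have h2 : (2 : F) * 2 = 0 := by
    have : ((4 : ℕ) : F) = 2 * 2 := by norm_num
    rw [← this, h1]
  exact mul_self_eq_zero.1 h2

theorem Hm.pow_four (h : Hm B) (x : F) : x ^ 4 = x := by
  have := FiniteField.pow_card x
  rwa [h.cd] at this

theorem Hm.add_sq (h : Hm B) (x y : F) : (x + y) ^ 2 = x ^ 2 + y ^ 2 := by
  linear_combination (x * y) * h.two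

theorem Hm.addl (h : Hm B) (a b c : V) : B (a + b) c = B a c + B b c := by
  rw [h.herm c, h.add, h.add_sq, ← h.herm, ← h.herm]

theorem Hm.smull (h : Hm B) (t : F) (a b : V) : B (t • a) b = t ^ 2 * B a b := by
  rw [h.herm b, h.smul, mul_pow, ← h.herm]

theorem Hm.zl (h : Hm B) (a : V) : B 0 a = 0 := by
  rw [h.herm a, h.toFrm.zero]
  norm_num

theorem Hm.suml (h : Hm B) {ι : Type*} (s : Finset ι) (f : ι → V) (x : V) :
    B (∑ i ∈ s, f i) x = ∑ i ∈ s, B (f i) x := by
  classical
  induction s using Finset.induction_on with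
  | empty => simp [h.zl]
  | insert a s ha ih => rw [Finset.sum_insert ha, Finset.sum_insert ha, h.addl, ih]

/-- Prescribed values on a linearly independent family. -/
theorem Hm.exists_vec (h : Hm B) {k : ℕ} {w : Fin k → V}
    (hw : LinearIndependent F w) (c : Fin k → F) : ∃ v, ∀ i, B (w i) v = c i := by
  let L : V →ₗ[F] (Fin k → F) :=
    { toFun := fun y i => B (w i) y
      map_add' := fun y z => by
        funext i
        exact h.add _ _ _
      map_smul' := fun c y => by
        funext i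
        exact h.smul _ _ _ }
  have hL : LinearMap.range L = ⊤ := by
    by_contra hne
    obtain ⟨f, hf, hfL⟩ := Submodule.exists_le_ker_of_lt_top _ (lt_top_iff_ne_top.2 hne)
    apply hf
    have h1 : ∑ i, (f (Pi.single i 1) ^ 2) • w i = 0 := by
      apply h.nondeg
      intro v
      rw [h.suml]
      have h2 : f (L v) = 0 := hfL ⟨v, rfl⟩
      have h3 : L v = ∑ i, B (w i) v • (Pi.single i 1 : Fin k → F) := by
        funext j
        simp [Finset.sum_apply, Pi.single_apply, L]
      rw [h3, map_sum] at h2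
      rw [← h2]
      refine Finset.sum_congr rfl fun i _ => ?_
      rw [h.smull, map_smul, smul_eq_mul, mul_comm, ← pow_mul]
      norm_num
      rw [h.pow_four]
      simp
    have h2 := Fintype.linearIndependent_iff.1 hw _ h1
    apply LinearMap.pi_ext'
    intro i
    ext
    have h3 := h2 i
    have h4 : f (Pi.single i 1) = 0 := by
      rcases pow_eq_zero_iff (two_ne_zero) |>.1 h3 with h5
      exact h5
    simpa using h4
  have h1 : c ∈ LinearMap.range L := by rw [hL]; trivial
  obtain ⟨v, hv⟩ := h1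
  exact ⟨v, fun i => congrFun hv i⟩

variable [FiniteDimensional F V]

/-- Totally isotropic subspaces have at most half the dimension. -/
theorem Hm.two_mul_le (h : Hm B) {U : Submodule F V}
    (hU : ∀ u ∈ U, ∀ v ∈ U, B u v = 0) : 2 * finrank F U ≤ finrank F V := by
  let b := Module.finBasis F U
  let L : V →ₗ[F] (Fin (finrank F U) → F) :=
    { toFun := fun y i => B (b i) y
      map_add' := fun y z => by
        funext i
        exact h.add _ _ _
      map_smul' := fun c y => by
        funext i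
        exact h.smul _ _ _ }
  have hb : LinearIndependent F (fun i => ((b i : U) : V)) :=
    b.linearIndependent.map' U.subtype (Submodule.ker_subtype U)
  have hL : LinearMap.range L = ⊤ := by
    rw [LinearMap.range_eq_top]
    intro c
    obtain ⟨v, hv⟩ := h.exists_vec hb c
    exact ⟨v, funext hv⟩
  have h1 := LinearMap.finrank_range_add_finrank_ker L
  rw [hL, finrank_top, Module.finrank_fin_fun] at h1
  have h2 : U ≤ LinearMap.ker L := by
    intro u hu
    rw [LinearMap.mem_ker]
    funext i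
    exact hU _ (b i).2 _ hu
  have h3 := Submodule.finrank_mono h2
  omega

end

section

variable {F : Type u} [Field F] [Fintype F] {V : Type v} [AddCommGroup V] [Module F V]

/-- A hermitian frame: two bases of opposite totally isotropic planes. -/
structure Fr2 (B : V → V → F) (w1 w2 x y : V) : Prop where
  w11 : B w1 w1 = 0
  w12 : B w1 w2 = 0
  w22 : B w2 w2 = 0
  xx : B x x = 0
  xy : B x y = 0
  yy : B y y = 0
  a11 : B w1 x = 1
  a12 : B w1 y = 0
  a21 : B w2 x = 0
  a22 : B w2 y = 1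

/-- The plane spanned by two vectors. -/
def pln (F : Type u) [Field F] {V : Type v} [AddCommGroup V] [Module F V] (a b : V) : Submodule F V where
  carrier := {v | ∃ r s : F, v = r • a + s • b}
  zero_mem' := ⟨0, 0, by simp⟩
  add_mem' := by
    rintro _ _ ⟨r, s, rfl⟩ ⟨r', s', rfl⟩
    exact ⟨r + r', s + s', by module⟩
  smul_mem' := by
    rintro c _ ⟨r, s, rfl⟩
    exact ⟨c * r, c * s, by module⟩

theorem mem_pln {a b v : V} : v ∈ pln F a b ↔ ∃ r s : F, v = r • a + s • b := Iff.rfl

/-- `z` of order five acts on the opposite totally isotropic planes `W`, `W'`. -/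
structure GP2 (B : V → V → F) (z : V → V) (W W' : Submodule F V) : Prop where
  ti : TI B W
  ti' : TI B W'
  dim : finrank F W = 2
  dim' : finrank F W' = 2
  disj : W ⊓ W' = ⊥
  inv : ∀ v ∈ W, z v ∈ W
  inv' : ∀ v ∈ W', z v ∈ W'
  eq_or : ∀ U : Submodule F V, U ≠ ⊥ → TI B U → (∀ v ∈ U, z v ∈ U) → U = W ∨ U = W'

variable {B : V → V → F} [FiniteDimensional F V]

theorem Fr2.coords {w1 w2 x y : V} (h : Fr2 B w1 w2 x y) (hB : Hm B) (a b c d : F) :
    B w1 (a • w1 + b • w2 + (c • x + d • y)) = c ∧ B w2 (a • w1 + b • w2 + (c • x + d • y)) = d ∧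
    B x (a • w1 + b • w2 + (c • x + d • y)) = a ∧ B y (a • w1 + b • w2 + (c • x + d • y)) = b := by
  have w21 : B w2 w1 = 0 := by rw [hB.herm w1, h.w12]; norm_num
  have yx : B y x = 0 := by rw [hB.herm x, h.xy]; norm_num
  have x1 : B x w1 = 1 := by rw [hB.herm w1, h.a11]; norm_num
  have y1 : B y w1 = 0 := by rw [hB.herm w1, h.a12]; norm_num
  have x2 : B x w2 = 0 := by rw [hB.herm w2, h.a21]; norm_num
  have y2 : B y w2 = 1 := by rw [hB.herm w2, h.a22]; norm_num
  refine ⟨?_, ?_, ?_, ?_⟩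
  · simp only [hB.add, hB.smul, h.w11, h.w12, h.a11, h.a12]
    ring
  · simp only [hB.add, hB.smul, w21, h.w22, h.a21, h.a22]
    ring
  · simp only [hB.add, hB.smul, x1, x2, h.xx, h.xy]
    ring
  · simp only [hB.add, hB.smul, y1, y2, yx, h.yy]
    ring

/-- The coordinates. -/
theorem Fr2.exists_coords {w1 w2 x y : V} (h : Fr2 B w1 w2 x y) (hB : Hm B) (hV : finrank F V = 4) (v : V) :
    v = B x v • w1 + B y v • w2 + (B w1 v • x + B w2 v • y) := by
  let L : (Fin 4 → F) →ₗ[F] V :=
    { toFun := fun t => t 0 • w1 + t 1 • w2 + (t 2 • x + t 3 • y)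
      map_add' := fun s t => by
        simp only [Pi.add_apply]
        module
      map_smul' := fun c t => by
        simp only [Pi.smul_apply, smul_eq_mul, RingHom.id_apply]
        module }
  have hLapp : ∀ t, L t = t 0 • w1 + t 1 • w2 + (t 2 • x + t 3 • y) := fun _ => rfl
  have hinj : Function.Injective L := by
    rw [← LinearMap.ker_eq_bot, LinearMap.ker_eq_bot']
    intro t ht
    have h1 := h.coords hB (t 0) (t 1) (t 2) (t 3)
    rw [hLapp] at ht
    rw [ht] at h1
    simp only [hB.toFrm.zero] at h1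
    funext i
    fin_cases i
    · exact h1.2.2.1.symm
    · exact h1.2.2.2.symm
    · exact h1.1.symm
    · exact h1.2.1.symm
  have hsurj : Function.Surjective L :=
    (LinearMap.injective_iff_surjective_of_finrank_eq_finrank (by rw [Module.finrank_fin_fun, hV])).1 hinj
  obtain ⟨t, rfl⟩ := hsurj v
  have h1 := h.coords hB (t 0) (t 1) (t 2) (t 3)
  rw [hLapp, h1.1, h1.2.1, h1.2.2.1, h1.2.2.2]

theorem finrank_pln {a b : V} (h : ∀ r s : F, r • a + s • b = 0 → r = 0 ∧ s = 0) : finrank F (pln F a b) = 2 := by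
  let L : (Fin 2 → F) →ₗ[F] V :=
    { toFun := fun t => t 0 • a + t 1 • b
      map_add' := fun s t => by
        simp only [Pi.add_apply]
        module
      map_smul' := fun c t => by
        simp only [Pi.smul_apply, smul_eq_mul, RingHom.id_apply]
        module }
  have hLapp : ∀ t, L t = t 0 • a + t 1 • b := fun _ => rfl
  have hinj : Function.Injective L := by
    rw [← LinearMap.ker_eq_bot, LinearMap.ker_eq_bot']
    intro t ht
    obtain ⟨h1, h2⟩ := h _ _ ht
    funext i
    fin_cases i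
    · exact h1
    · exact h2
  have hr : LinearMap.range L = pln F a b := by
    ext v
    rw [mem_pln]
    constructor
    · rintro ⟨t, rfl⟩
      exact ⟨_, _, rfl⟩
    · rintro ⟨r, s, rfl⟩
      exact ⟨![r, s], rfl⟩
  rw [← hr, LinearMap.finrank_range_of_inj hinj, Module.finrank_fin_fun]

/-- **The element attached to a frame.** -/
theorem Fr2.exists_gp {w1 w2 x y : V} (h : Fr2 B w1 w2 x y) (hB : Hm B) (hV : finrank F V = 4) {τ : F}
    (hτ : τ ^ 2 + τ + 1 = 0) :
    ∃ z : V →ₗ[F] V, z ^ 5 = 1 ∧ z ≠ 1 ∧ (∀ u v, B (z u) (z v) = B u v) ∧ GP2 B z (pln F w1 w2) (pln F x y) := by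
  have h2 := hB.two
  have hc := h.coords hB
  have hco := h.exists_coords hB hV
  let z : V →ₗ[F] V :=
    { toFun := fun v => (τ * B x v + B y v) • w1 + B x v • w2 + (B w2 v • x + (B w1 v + τ ^ 2 * B w2 v) • y)
      map_add' := fun u v => by
        simp only [hB.add]
        module
      map_smul' := fun c v => by
        simp only [hB.smul, RingHom.id_apply]
        module }
  have hz : ∀ a b c d : F, z (a • w1 + b • w2 + (c • x + d • y)) =
      (τ * a + b) • w1 + a • w2 + (d • x + (c + τ ^ 2 * d) • y) := by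
    intro a b c d
    show (τ * B x _ + B y _) • w1 + B x _ • w2 + (B w2 _ • x + (B w1 _ + τ ^ 2 * B w2 _) • y) = _
    rw [(hc a b c d).1, (hc a b c d).2.1, (hc a b c d).2.2.1, (hc a b c d).2.2.2]
  -- the values of the form
  have hval : ∀ a b c d a' b' c' d' : F, B (a • w1 + b • w2 + (c • x + d • y)) (a' • w1 + b' • w2 + (c' • x + d' • y)) =
      a ^ 2 * c' + b ^ 2 * d' + c ^ 2 * a' + d ^ 2 * b' := by
    intro a b c d a' b' c' d'
    have h3 := hc a' b' c' d'
    rw [hB.addl, hB.addl, hB.addl, hB.smull, hB.smull, hB.smull, hB.smull, h3.1, h3.2.1, h3.2.2.1, h3.2.2.2]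
    ring
  have hunique : ∀ a b c d a' b' c' d' : F, a • w1 + b • w2 + (c • x + d • y) = a' • w1 + b' • w2 + (c' • x + d' • y) →
      a = a' ∧ b = b' ∧ c = c' ∧ d = d' := by
    intro a b c d a' b' c' d' heq
    have h3 := hc a b c d
    have h4 := hc a' b' c' d'
    rw [heq] at h3
    exact ⟨h3.2.2.1.symm.trans h4.2.2.1, h3.2.2.2.symm.trans h4.2.2.2, h3.1.symm.trans h4.1, h3.2.1.symm.trans h4.2.1⟩
  have h4 : orderOf ((4 : ℕ) : ZMod 5) = 2 :=
    orderOf_eq_of (by norm_num) (by norm_num) (by norm_num) fun i h1 h2 => by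
      interval_cases i
      norm_num
  -- powers of `z`
  have hz2 : ∀ a b c d : F, z (z (a • w1 + b • w2 + (c • x + d • y))) =
      (τ * a + τ * b) • w1 + (τ * a + b) • w2 + ((c + τ ^ 2 * d) • x + (τ ^ 2 * c + τ ^ 2 * d) • y) := by
    intro a b c d
    have e1 : τ * (τ * a + b) + a = τ * a + τ * b := by linear_combination a * hτ - τ * a * h2
    have e2 : d + τ ^ 2 * (c + τ ^ 2 * d) = τ ^ 2 * c + τ ^ 2 * d := by
      linear_combination d * (τ ^ 2 - τ + 1) * hτ - d * τ ^ 2 * h2
    rw [hz, hz, e1, e2]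
  have hz3 : ∀ a b c d : F, z (z (z (a • w1 + b • w2 + (c • x + d • y)))) =
      (a + τ * b) • w1 + (τ * a + τ * b) • w2 + ((τ ^ 2 * c + τ ^ 2 * d) • x + (τ ^ 2 * c + d) • y) := by
    intro a b c d
    have e1 : τ * (τ * a + τ * b) + (τ * a + b) = a + τ * b := by
      linear_combination (a + b) * hτ - (a + τ * b) * h2
    have e2 : c + τ ^ 2 * d + τ ^ 2 * (τ ^ 2 * c + τ ^ 2 * d) = τ ^ 2 * c + d := by
      linear_combination (c + d) * (τ ^ 2 - τ + 1) * hτ - (c * τ ^ 2 + d) * h2
    rw [hz2, hz, e1, e2]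
  have hz5' : ∀ a b c d : F, z (z (z (z (z (a • w1 + b • w2 + (c • x + d • y)))))) =
      a • w1 + b • w2 + (c • x + d • y) := by
    intro a b c d
    have e1 : τ * (a + τ * b) + τ * (τ * a + τ * b) = a := by
      linear_combination a * hτ + (τ ^ 2 * b - a) * h2
    have e2 : τ * (a + τ * b) + (τ * a + τ * b) = b := by
      linear_combination b * hτ + (τ * a - b) * h2
    have e3 : τ ^ 2 * c + τ ^ 2 * d + τ ^ 2 * (τ ^ 2 * c + d) = c := by
      linear_combination c * (τ ^ 2 - τ + 1) * hτ + (τ ^ 2 * d - c) * h2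
    have e4 : τ ^ 2 * (τ ^ 2 * c + τ ^ 2 * d) + τ ^ 2 * (τ ^ 2 * c + d) = d := by
      linear_combination d * (τ ^ 2 - τ + 1) * hτ + (τ ^ 4 * c - d) * h2
    rw [hz3, hz2, e1, e2, e3, e4]
  have hz5 : ∀ v, z (z (z (z (z v)))) = v := by
    intro v
    conv_rhs => rw [hco v]
    conv_lhs => rw [hco v]
    exact hz5' _ _ _ _
  have hpow : z ^ 5 = 1 := by
    ext v
    exact hz5 v
  have hT : ∀ a b c d : F, z (z (a • w1 + b • w2 + (c • x + d • y))) + τ • z (a • w1 + b • w2 + (c • x + d • y)) +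
      (a • w1 + b • w2 + (c • x + d • y)) = z (c • x + d • y) := by
    intro a b c d
    have h0 : c • x + d • y = (0 : F) • w1 + (0 : F) • w2 + (c • x + d • y) := by
      rw [zero_smul, zero_smul, zero_add, zero_add]
    have e0 : z (c • x + d • y) = (0 : F) • w1 + (0 : F) • w2 + (d • x + (c + τ ^ 2 * d) • y) := by
      rw [h0, hz, mul_zero, zero_add]
    rw [e0, hz2, hz]
    have e1 : τ * a + τ * b + τ * (τ * a + b) + a = 0 := by linear_combination a * hτ + τ * b * h2
    have e2 : τ * a + b + τ * a + b = 0 := by linear_combination (τ * a + b) * h2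
    have e3 : c + τ ^ 2 * d + τ * d + c = d := by linear_combination d * hτ + (c - d) * h2
    have e4 : τ ^ 2 * c + τ ^ 2 * d + τ * (c + τ ^ 2 * d) + d = c + τ ^ 2 * d := by
      linear_combination (c + (τ - 1) * d) * hτ + (-c + d) * h2
    calc _ = (τ * a + τ * b + τ * (τ * a + b) + a) • w1 + (τ * a + b + τ * a + b) • w2 +
          ((c + τ ^ 2 * d + τ * d + c) • x + (τ ^ 2 * c + τ ^ 2 * d + τ * (c + τ ^ 2 * d) + d) • y) := by module
      _ = _ := by rw [e1, e2, e3, e4]
  have hτ0 : τ ≠ 0 := by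
    rintro rfl
    norm_num at hτ
  -- no fixed vectors
  have hfix : fixS z = ⊥ := by
    rw [eq_bot_iff]
    intro v hv
    rw [mem_fixS] at hv
    rw [hco v, hz] at hv
    obtain ⟨f1, f2, f3, f4⟩ := hunique _ _ _ _ _ _ _ _ hv
    have g1 : τ * B x v = 0 := by
      rw [← f2] at f1
      exact left_eq_add.1 (by rw [add_comm]; exact f1.symm)
    have g2 : B x v = 0 := (mul_eq_zero.1 g1).resolve_left hτ0
    have g3 : B y v = 0 := by rw [← f2, g2]
    have g4 : τ ^ 2 * B w2 v = 0 := by
      rw [← f3] at f4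
      exact left_eq_add.1 f4.symm
    have g5 : B w2 v = 0 := (mul_eq_zero.1 g4).resolve_left (pow_ne_zero 2 hτ0)
    have g6 : B w1 v = 0 := by rw [← f3, g5]
    rw [Submodule.mem_bot, hco v, g2, g3, g5, g6]
    simp
  have hd1 : finrank F (pln F w1 w2) = 2 := finrank_pln fun r s hrs => by
    have h3 := hunique r s 0 0 0 0 0 0 (by rw [hrs]; simp)
    exact ⟨h3.1, h3.2.1⟩
  have hd2 : finrank F (pln F x y) = 2 := finrank_pln fun r s hrs => by
    have h3 := hunique 0 0 r s 0 0 0 0 (by rw [hrs]; simp)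
    exact ⟨h3.2.2.1, h3.2.2.2⟩
  have hinv1 : ∀ v ∈ pln F w1 w2, z v ∈ pln F w1 w2 := by
    rintro _ ⟨r, s, rfl⟩
    refine ⟨τ * r + s, r, ?_⟩
    have h3 := hz r s 0 0
    simpa using h3
  have hinv2 : ∀ v ∈ pln F x y, z v ∈ pln F x y := by
    rintro _ ⟨r, s, rfl⟩
    refine ⟨s, r + τ ^ 2 * s, ?_⟩
    have h3 := hz 0 0 r s
    simpa using h3
  have hdiv : ∀ T T' : Submodule F V, finrank F T = 2 → (∀ v ∈ T, z v ∈ T) → (∀ v ∈ T', z v ∈ T') →
      T' ⊓ T = ⊥ ∨ T' ⊓ T = T := by
    intro T T' hT hTz hT'z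
    have h5 := finrank_fix (r := 5) (k := 1) (by norm_num) (by rw [hB.cd]; norm_num) (by rw [pow_one]; exact hpow)
      (T' ⊓ T) (fun v hv => ⟨hT'z v hv.1, hTz v hv.2⟩)
    rw [hfix, inf_bot_eq, finrank_bot, Nat.sub_zero, hB.cd, h4] at h5
    have h6 : finrank F ↥(T' ⊓ T) ≤ 2 := hT ▸ Submodule.finrank_mono inf_le_right
    rcases Nat.eq_zero_or_pos (finrank F ↥(T' ⊓ T)) with h7 | h7
    · exact Or.inl (Submodule.finrank_eq_zero.1 h7)
    · right
      have := Nat.le_of_dvd h7 h5
      exact Submodule.eq_of_le_of_finrank_eq inf_le_right (by omega)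
  have hti1 : TI B (pln F w1 w2) := by
    rintro _ ⟨r, s, rfl⟩ _ ⟨r', s', rfl⟩
    have h3 := hval r s 0 0 r' s' 0 0
    simpa using h3
  have hti2 : TI B (pln F x y) := by
    rintro _ ⟨r, s, rfl⟩ _ ⟨r', s', rfl⟩
    have h3 := hval 0 0 r s 0 0 r' s'
    simpa using h3
  refine ⟨z, hpow, ?_, ?_, hti1, hti2, hd1, hd2, ?_, hinv1, hinv2, ?_⟩
  · intro h1
    have h3 : fixS z = ⊤ := fixS_eq_top_iff.2 h1
    rw [hfix] at h3
    have h5 : finrank F (⊤ : Submodule F V) = 4 := by rw [finrank_top, hV]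
    rw [← h3, finrank_bot] at h5
    omega
  · intro u v
    conv_rhs => rw [hco u, hco v]
    conv_lhs => rw [hco u, hco v]
    rw [hz, hz, hval, hval]
    generalize B x u = a
    generalize B y u = b
    generalize B w1 u = c
    generalize B w2 u = d
    generalize B x v = a'
    generalize B y v = b'
    generalize B w1 v = c'
    generalize B w2 v = d'
    linear_combination (a * b * τ * d' + a ^ 2 * τ ^ 2 * d' + c * d * τ ^ 2 * a' + τ * d ^ 2 * a') * h2 +
      ((τ ^ 2 - τ) * d ^ 2 * a' ) * hτ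
  · rw [eq_bot_iff]
    rintro _ ⟨⟨r, s, rfl⟩, ⟨r', s', h3⟩⟩
    have h5 := hunique r s 0 0 0 0 r' s' (by simpa using h3)
    rw [h5.1, h5.2.1]
    simp
  · intro U hU hTI hUz
    have hpart : ∀ u ∈ U, B w1 u • x + B w2 u • y ∈ U := by
      intro u hu
      have h3 : z (z u) + τ • z u + u ∈ U :=
        U.add_mem (U.add_mem (hUz _ (hUz _ hu)) (U.smul_mem _ (hUz _ hu))) hu
      have h5 := hT (B x u) (B y u) (B w1 u) (B w2 u)
      rw [← hco u] at h5
      rw [h5] at h3
      have h6 := hUz _ (hUz _ (hUz _ (hUz _ h3)))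
      rwa [hz5] at h6
    have hpart' : ∀ u ∈ U, B x u • w1 + B y u • w2 ∈ U := by
      intro u hu
      have h3 := U.sub_mem hu (hpart u hu)
      have h5 : B x u • w1 + B y u • w2 = u - (B w1 u • x + B w2 u • y) := by
        conv_rhs => rw [hco u]
        rw [(hc _ _ _ _).1, (hc _ _ _ _).2.1]
        abel
      rwa [h5]
    rcases hdiv _ U hd1 hinv1 hUz with h3 | h3 <;> rcases hdiv _ U hd2 hinv2 hUz with h5 | h5
    · exfalso
      apply hU
      rw [eq_bot_iff]
      intro u hu
      have h6 : B x u • w1 + B y u • w2 ∈ U ⊓ pln F w1 w2 := ⟨hpart' u hu, _, _, rfl⟩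
      have h7 : B w1 u • x + B w2 u • y ∈ U ⊓ pln F x y := ⟨hpart u hu, _, _, rfl⟩
      rw [h3, Submodule.mem_bot] at h6
      rw [h5, Submodule.mem_bot] at h7
      rw [Submodule.mem_bot, hco u, h6, h7, add_zero]
    · right
      apply le_antisymm
      · intro u hu
        have h6 : B x u • w1 + B y u • w2 ∈ U ⊓ pln F w1 w2 := ⟨hpart' u hu, _, _, rfl⟩
        rw [h3, Submodule.mem_bot] at h6
        rw [hco u, h6, zero_add]
        exact ⟨_, _, rfl⟩
      · rw [← h5]
        exact inf_le_left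
    · left
      apply le_antisymm
      · intro u hu
        have h7 : B w1 u • x + B w2 u • y ∈ U ⊓ pln F x y := ⟨hpart u hu, _, _, rfl⟩
        rw [h5, Submodule.mem_bot] at h7
        rw [hco u, h7, add_zero]
        exact ⟨_, _, rfl⟩
      · rw [← h3]
        exact inf_le_left
    · exfalso
      have h6 : w1 ∈ U := by
        have : w1 ∈ pln F w1 w2 := ⟨1, 0, by simp⟩
        rw [← h3] at this
        exact this.1
      have h7 : x ∈ U := by
        have : x ∈ pln F x y := ⟨1, 0, by simp⟩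
        rw [← h5] at this
        exact this.1
      have h8 := hTI w1 h6 x h7
      rw [h.a11] at h8
      exact one_ne_zero h8

/-- **Frames avoiding a subspace.** -/
theorem exists_frame2 (hB : Hm B) (hV : finrank F V = 4) {τ : F} (hτ : τ ^ 2 + τ + 1 = 0) {W : Submodule F V}
    (hTI : TI B W) (hW : finrank F W = 2) {x : V} (hxx : B x x = 0) (hx : x ∉ W) (A₁ : Submodule F V) :
    ∃ w1 w2 y : V, Fr2 B w1 w2 x y ∧ pln F w1 w2 = W ∧ pln F x y ≠ A₁ := by
  have h2 := hB.two
  have hneg : ∀ t : F, -t = t := fun t => by linear_combination (-t) * h2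
  let g : W →ₗ[F] F :=
    { toFun := fun w => B x w
      map_add' := fun a b => hB.add _ _ _
      map_smul' := fun c a => hB.smul _ _ _ }
  have hg : g ≠ 0 := by
    intro hg0
    have hxW : ∀ w ∈ W, B x w = 0 := fun w hw => by
      have : g ⟨w, hw⟩ = 0 := by rw [hg0]; rfl
      exact this
    have hWx : ∀ w ∈ W, B w x = 0 := fun w hw => by
      rw [hB.herm x, hxW w hw]
      norm_num
    have hxne : x ≠ 0 := by
      rintro rfl
      exact hx W.zero_mem
    have h1 : ∀ u ∈ W ⊔ (F ∙ x), ∀ v ∈ W ⊔ (F ∙ x), B u v = 0 := by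
      intro u hu v hv
      obtain ⟨a, ha, b, hb, rfl⟩ := Submodule.mem_sup.1 hu
      obtain ⟨c, hc, d, hd, rfl⟩ := Submodule.mem_sup.1 hv
      obtain ⟨s, rfl⟩ := Submodule.mem_span_singleton.1 hb
      obtain ⟨t, rfl⟩ := Submodule.mem_span_singleton.1 hd
      rw [hB.add, hB.addl, hB.addl, hB.smul, hB.smul, hB.smull, hB.smull, hTI a ha c hc, hxW c hc, hWx a ha, hxx]
      ring
    have h3 := hB.two_mul_le h1
    have h4 := Submodule.finrank_sup_add_finrank_inf_eq W (F ∙ x)
    have h5 : W ⊓ (F ∙ x) = ⊥ := by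
      rw [eq_bot_iff]
      rintro u ⟨hu, hu'⟩
      obtain ⟨c, rfl⟩ := Submodule.mem_span_singleton.1 hu'
      have hc : c = 0 := by
        by_contra hc
        apply hx
        have := W.smul_mem c⁻¹ hu
        rwa [smul_smul, inv_mul_cancel₀ hc, one_smul] at this
      rw [hc, zero_smul]
      exact Submodule.zero_mem _
    rw [h5, finrank_bot, hW, finrank_span_singleton hxne] at h4
    omega
  obtain ⟨w1, hw1⟩ : ∃ w : W, g w = 1 := by
    obtain ⟨w, hw⟩ : ∃ w, g w ≠ 0 := by
      by_contra hcon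
      push Not at hcon
      exact hg (LinearMap.ext hcon)
    exact ⟨(g w)⁻¹ • w, by rw [map_smul, smul_eq_mul, inv_mul_cancel₀ hw]⟩
  obtain ⟨w2, hw2, hw20⟩ : ∃ w : W, g w = 0 ∧ w ≠ 0 := by
    have h1 := LinearMap.finrank_range_add_finrank_ker g
    have h3 : finrank F (LinearMap.range g) ≤ 1 := by
      have := Submodule.finrank_le (LinearMap.range g)
      rwa [finrank_self] at this
    have h4 : LinearMap.ker g ≠ ⊥ := by
      intro h4
      rw [h4, finrank_bot, hW] at h1
      omega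
    obtain ⟨w, hw, hw0⟩ := (Submodule.ne_bot_iff _).1 h4
    exact ⟨w, hw, hw0⟩
  set v1 : V := (w1 : V) with hv1
  set v2 : V := (w2 : V) with hv2
  have hv1W : v1 ∈ W := w1.2
  have hv2W : v2 ∈ W := w2.2
  have x1 : B x v1 = 1 := hw1
  have x2 : B x v2 = 0 := hw2
  have x1' : B v1 x = 1 := by rw [hB.herm x, x1]; norm_num
  have x2' : B v2 x = 0 := by rw [hB.herm x, x2]; norm_num
  have hv20 : v2 ≠ 0 := fun h => hw20 (Subtype.ext h)
  have hli : ∀ r s : F, r • v1 + s • v2 = 0 → r = 0 ∧ s = 0 := by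
    intro r s h
    have hr : r = 0 := by
      have h1 : B x (r • v1 + s • v2) = 0 := by rw [h, hB.toFrm.zero]
      rw [hB.add, hB.smul, hB.smul, x1, x2] at h1
      simpa using h1
    rw [hr, zero_smul, zero_add] at h
    exact ⟨hr, (smul_eq_zero.1 h).resolve_right hv20⟩
  have hrange : pln F v1 v2 = W := by
    apply Submodule.eq_of_le_of_finrank_eq
    · rintro _ ⟨r, s, rfl⟩
      exact W.add_mem (W.smul_mem _ hv1W) (W.smul_mem _ hv2W)
    · rw [finrank_pln hli, hW]
  have hli3 : LinearIndependent F ![v1, v2, x] := by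
    rw [Fintype.linearIndependent_iff]
    intro c hc
    rw [Fin.sum_univ_three] at hc
    have hc' : c 0 • v1 + c 1 • v2 + c 2 • x = 0 := hc
    have h4 : c 2 = 0 := by
      by_contra h4
      apply hx
      have h5 : c 2 • x = -(c 0 • v1 + c 1 • v2) := by
        rw [eq_neg_iff_add_eq_zero, add_comm]
        exact hc'
      have h6 : c 2 • x ∈ W := by
        rw [h5]
        exact W.neg_mem (W.add_mem (W.smul_mem _ hv1W) (W.smul_mem _ hv2W))
      have := W.smul_mem (c 2)⁻¹ h6
      rwa [smul_smul, inv_mul_cancel₀ h4, one_smul] at this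
    rw [h4, zero_smul, add_zero] at hc'
    obtain ⟨h1, h5⟩ := hli _ _ hc'
    intro i
    fin_cases i
    · exact h1
    · exact h5
    · exact h4
  obtain ⟨f, hf⟩ := hB.exists_vec hli3 ![0, 1, 0]
  have f1 : B v1 f = 0 := hf 0
  have f2 : B v2 f = 1 := hf 1
  have fx : B x f = 0 := hf 2
  have f2' : B f v2 = 1 := by rw [hB.herm v2, f2]; norm_num
  set N := B f f with hN
  have hNN : N ^ 2 = N := (hB.herm f f).symm
  have w11 : B v1 v1 = 0 := hTI _ hv1W _ hv1W
  have w12 : B v1 v2 = 0 := hTI _ hv1W _ hv2W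
  have w22 : B v2 v2 = 0 := hTI _ hv2W _ hv2W
  have key : ∀ s : F, s ^ 2 + s = N → Fr2 B v1 v2 x (f + s • v2) := by
    intro s hs
    refine ⟨w11, w12, w22, hxx, ?_, ?_, x1', ?_, x2', ?_⟩
    · rw [hB.add, hB.smul, fx, x2]
      ring
    · rw [hB.add, hB.addl, hB.addl, hB.smul, hB.smul, hB.smull, hB.smull, ← hN, f2, f2', w22]
      linear_combination (-1 : F) * hs + (s ^ 2 + s) * h2
    · rw [hB.add, hB.smul, f1, w12]
      ring
    · rw [hB.add, hB.smul, f2, w22]
      ring
  have hs1 : (N * τ) ^ 2 + N * τ = N := by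
    linear_combination τ ^ 2 * hNN + N * hτ - N * h2
  have hs2 : (N * τ + 1) ^ 2 + (N * τ + 1) = N := by
    linear_combination τ ^ 2 * hNN + N * hτ + (1 + N * τ - N) * h2
  have hne : pln F x (f + (N * τ) • v2) ≠ pln F x (f + (N * τ + 1) • v2) := by
    intro heq
    have h3 : f + (N * τ) • v2 ∈ pln F x (f + (N * τ + 1) • v2) := by
      rw [← heq]
      exact ⟨0, 1, by simp⟩
    obtain ⟨r, s, hrs⟩ := h3
    have e1 := congrArg (B v1) hrs
    have e2 := congrArg (B v2) hrs
    simp only [hB.add, hB.smul, f1, w12, x1', mul_zero, add_zero, mul_one] at e1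
    simp only [hB.add, hB.smul, f2, w22, x2', mul_zero, add_zero, mul_one, zero_add] at e2
    subst e1
    subst e2
    rw [zero_smul, zero_add, one_smul, add_smul, one_smul, ← add_assoc] at hrs
    exact hv20 (left_eq_add.1 hrs)
  by_cases h3 : pln F x (f + (N * τ) • v2) = A₁
  · exact ⟨v1, v2, f + (N * τ + 1) • v2, key _ hs2, hrange, fun h4 => hne (h3.trans h4.symm)⟩
  · exact ⟨v1, v2, f + (N * τ) • v2, key _ hs1, hrange, h3⟩

end

end Cfsg.Agent.H518.SU
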