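import Mathlib
import Cfsg.Agent.H518.SUHerm
import Cfsg.Agent.ClassicalGeometry.PSUAutMain

/-!
# `PSU_4(2)`
-/

set_option autoImplicit false
set_option linter.unusedSectionVars false

namespace Cfsg.Agent.H518.SU

open Module Cfsg.Agent.H518.DghpFix Cfsg.Agent.H518.DghpPrim

universe u v w w'

section

variable {F : Type u} [Field F] [Fintype F] {V : Type v} [AddCommGroup V] [Module F V]

/-- The image of a subspace under a semilinear bijection. -/
def sm (b : V ≃+ V) (σ : F ≃+* F) (hb : ∀ (c : F) (v : V), b (c • v) = σ c • b v) (W : Submodule F V) :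
    Submodule F V where
  carrier := {v | b.symm v ∈ W}
  zero_mem' := by
    show b.symm 0 ∈ W
    rw [map_zero]
    exact W.zero_mem
  add_mem' := by
    intro x y hx hy
    show b.symm (x + y) ∈ W
    rw [map_add]
    exact W.add_mem hx hy
  smul_mem' := by
    intro c x hx
    show b.symm (c • x) ∈ W
    have h1 : b.symm (c • x) = σ.symm c • b.symm x := by
      apply b.injective
      rw [b.apply_symm_apply, hb, b.apply_symm_apply, RingEquiv.apply_symm_apply]
    rw [h1]
    exact W.smul_mem _ hx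

variable {b : V ≃+ V} {σ : F ≃+* F} {hb : ∀ (c : F) (v : V), b (c • v) = σ c • b v}

theorem mem_sm {W : Submodule F V} {v : V} : v ∈ sm b σ hb W ↔ b.symm v ∈ W := Iff.rfl

theorem apply_mem_sm {W : Submodule F V} {v : V} : b v ∈ sm b σ hb W ↔ v ∈ W := by
  rw [mem_sm, b.symm_apply_apply]

variable [FiniteDimensional F V]

theorem finrank_sm (W : Submodule F V) : finrank F (sm b σ hb W) = finrank F W := by
  have hfin : Finite V := Module.finite_of_finite F
  have h1 : Nat.card (sm b σ hb W) = Nat.card W := Nat.card_congr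
    { toFun := fun v => ⟨b.symm v.1, v.2⟩
      invFun := fun v => ⟨b v.1, apply_mem_sm.2 v.2⟩
      left_inv := fun v => Subtype.ext (b.apply_symm_apply _)
      right_inv := fun v => Subtype.ext (b.symm_apply_apply _) }
  have h2 : ∀ T : Submodule F V, Nat.card T = Nat.card F ^ finrank F T := fun T =>
    Module.natCard_eq_pow_finrank
  rw [h2, h2, Nat.card_eq_fintype_card] at h1
  exact Nat.pow_right_injective Fintype.one_lt_card h1

theorem sm_inj {W W' : Submodule F V} (h : sm b σ hb W = sm b σ hb W') : W = W' := by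
  ext v
  rw [← apply_mem_sm (b := b) (σ := σ) (hb := hb), h, apply_mem_sm]

variable {B : V → V → F}

/-- Conjugation. -/
theorem GP2.conj {z y : V → V} {W W' : Submodule F V} (h : GP2 B z W W')
    (hbB : ∀ u v, B (b u) (b v) = σ (B u v)) (hy : ∀ v, y (b v) = b (z v)) :
    GP2 B y (sm b σ hb W) (sm b σ hb W') := by
  have hti : ∀ U : Submodule F V, TI B U → TI B (sm b σ hb U) := by
    intro U hU u hu v hv
    have h1 := hbB (b.symm u) (b.symm v)
    rw [b.apply_symm_apply, b.apply_symm_apply, hU _ hu _ hv, map_zero] at h1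
    exact h1
  have hinv : ∀ U : Submodule F V, (∀ v ∈ U, z v ∈ U) → ∀ v ∈ sm b σ hb U, y v ∈ sm b σ hb U := by
    intro U hU v hv
    have h1 := hy (b.symm v)
    rw [b.apply_symm_apply] at h1
    rw [h1, apply_mem_sm]
    exact hU _ hv
  refine ⟨hti _ h.ti, hti _ h.ti', by rw [finrank_sm, h.dim], by rw [finrank_sm, h.dim'], ?_, hinv _ h.inv,
    hinv _ h.inv', ?_⟩
  · rw [eq_bot_iff]
    rintro v ⟨h1, h2⟩
    have h3 : b.symm v ∈ W ⊓ W' := ⟨h1, h2⟩
    rw [h.disj, Submodule.mem_bot] at h3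
    rw [Submodule.mem_bot, ← b.apply_symm_apply v, h3, map_zero]
  · intro U hU hTI hUy
    -- the preimage
    let U₀ : Submodule F V :=
      { carrier := {v | b v ∈ U}
        zero_mem' := by
          show b 0 ∈ U
          rw [map_zero]
          exact U.zero_mem
        add_mem' := by
          intro x y hx hy
          show b (x + y) ∈ U
          rw [map_add]
          exact U.add_mem hx hy
        smul_mem' := by
          intro c x hx
          show b (c • x) ∈ U
          rw [hb]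
          exact U.smul_mem _ hx }
    have hU₀ : ∀ v, v ∈ U₀ ↔ b v ∈ U := fun _ => Iff.rfl
    have hsm : sm b σ hb U₀ = U := by
      ext v
      rw [mem_sm, hU₀, b.apply_symm_apply]
    have h1 : U₀ ≠ ⊥ := by
      intro h1
      apply hU
      rw [eq_bot_iff]
      intro v hv
      have h2 : b.symm v ∈ U₀ := by rwa [hU₀, b.apply_symm_apply]
      rw [h1, Submodule.mem_bot] at h2
      rw [Submodule.mem_bot, ← b.apply_symm_apply v, h2, map_zero]
    have h2 : TI B U₀ := by
      intro u hu v hv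
      have h3 := hbB u v
      rw [hTI _ hu _ hv] at h3
      exact (map_eq_zero σ).1 h3.symm
    have h3 : ∀ v ∈ U₀, z v ∈ U₀ := by
      intro v hv
      rw [hU₀, ← hy]
      exact hUy _ hv
    rcases h.eq_or U₀ h1 h2 h3 with h4 | h4
    · left
      rw [← hsm, h4]
    · right
      rw [← hsm, h4]

variable {G : Type w} [Group G] [Finite G]

/-- The data. -/
structure Dat2 (φ : G →* (V →ₗ[F] V)) (B : V → V → F) : Prop where
  inj : Function.Injective φ
  hm : Hm B
  isom : ∀ g u v, B (φ g u) (φ g v) = B u v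
  not_sq : ¬ 5 ^ 2 ∣ Nat.card G
  dim : finrank F V = 4
  all : ∀ z : V →ₗ[F] V, z ^ 5 = 1 → (∀ u v, B (z u) (z v) = B u v) → ∃ g : G, φ g = z

theorem Dat2.exists_elt {φ : G →* (V →ₗ[F] V)} (D : Dat2 φ B) {τ : F} (hτ : τ ^ 2 + τ + 1 = 0) {W : Submodule F V}
    (hTI : TI B W) (hW : finrank F W = 2) {x : V} (hxx : B x x = 0) (hx : x ∉ W) (A₁ : Submodule F V) :
    ∃ z : G, orderOf z = 5 ∧ ∃ W', GP2 B (φ z) W W' ∧ x ∈ W' ∧ W' ≠ A₁ := by
  obtain ⟨w1, w2, y, hfr, hw, hne⟩ := exists_frame2 D.hm D.dim hτ hTI hW hxx hx A₁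
  obtain ⟨z, hz5, hz1, hiso, hgp⟩ := hfr.exists_gp D.hm D.dim hτ
  obtain ⟨g, hg⟩ := D.all z hz5 hiso
  have : Fact (Nat.Prime 5) := ⟨by norm_num⟩
  refine ⟨g, orderOf_eq_prime ?_ ?_, pln F x y, ?_, ⟨1, 0, by simp⟩, hne⟩
  · apply D.inj
    rw [map_pow, hg, hz5, map_one]
  · rintro rfl
    rw [map_one] at hg
    exact hz1 hg.symm
  · rw [hg, ← hw]
    exact hgp

theorem pair_false2 {φ : G →* (V →ₗ[F] V)} (D : Dat2 φ B) {x y : G} (hx : orderOf x = 5)
    (hy : orderOf y = 5) {W W' A A' : Submodule F V} (hxp : GP2 B (φ x) W W') (hyp : GP2 B (φ y) A A')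
    (h1 : W ≠ A) (h2 : W ≠ A') (h3 : W' ≠ A) (h4 : W' ≠ A') {M : Subgroup G} (hM : Group.IsSolvable M)
    (hxM : x ∈ M) (hyM : y ∈ M) : False := by
  have key : ∀ U : Submodule F V, U ≠ ⊥ → TI B U → (∀ v ∈ U, φ x v ∈ U) → (∀ v ∈ U, φ y v ∈ U) → False := by
    intro U hU hTI hUx hUy
    rcases hxp.eq_or U hU hTI hUx with h5 | h5 <;> rcases hyp.eq_or U hU hTI hUy with h6 | h6
    · exact h1 (h5.symm.trans h6)
    · exact h2 (h5.symm.trans h6)
    · exact h3 (h5.symm.trans h6)
    · exact h4 (h5.symm.trans h6)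
  have hp5 : Nat.Prime 5 := by norm_num
  rcases share_pair φ D.inj D.hm.toFrm D.isom hp5 (by norm_num) D.not_sq (by
      rw [D.dim, D.hm.cd]
      exact Or.inr ⟨rfl, rfl, Or.inl (by norm_num)⟩) hx hy hM hxM hyM with h | ⟨U, hU, hTI, hUM⟩
  · -- `A` is invariant under `x`
    have h5 : x ∈ Subgroup.zpowers y := mem_zpowers_symm hp5 hy hx h
    obtain ⟨k, hk⟩ : ∃ k : ℕ, y ^ k = x := mem_powers_iff_mem_zpowers.2 h5
    have hA0 : A ≠ ⊥ := by
      intro h0
      have h6 := hyp.dim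
      rw [h0, finrank_bot] at h6
      omega
    refine key A hA0 hyp.ti ?_ hyp.inv
    rw [← hk, map_pow]
    clear hk
    intro v hv
    induction k with
    | zero => exact hv
    | succ k ih =>
      rw [pow_succ', Module.End.mul_apply]
      exact hyp.inv _ ih
  · exact key U hU hTI (hUM x hxM) (hUM y hyM)

/-- **The abstract theorem.** -/
theorem herm_exc {φ : G →* (V →ₗ[F] V)} (D : Dat2 φ B) {τ : F} (hτ : τ ^ 2 + τ + 1 = 0)
    {K : Type w'} [Group K] [IsSimpleGroup K]
    (π : G →* K) (hπ : Function.Surjective π) (hker : Group.IsSolvable π.ker) (hkr : ¬ 5 ∣ Nat.card π.ker)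
    {W₀ : Submodule F V} (hW₀ : TI B W₀) (hW₀d : finrank F W₀ = 2) {x₀ : V} (hx₀ : B x₀ x₀ = 0) (hx₀W : x₀ ∉ W₀)
    {β : MulAut K} (hβ : β ≠ 1) (γ : MulAut G) (hγ : ∀ g, π (γ g) = β (π g)) (b : V ≃+ V) (σ : F ≃+* F)
    (hb : ∀ (c : F) (v : V), b (c • v) = σ c • b v) (hbB : ∀ u v, B (b u) (b v) = σ (B u v))
    (hφb : ∀ g v, φ (γ g) (b v) = b (φ g v)) :
    ∃ y : K, orderOf y = 5 ∧ ¬ Group.IsSolvable (Subgroup.closure ({y, β y} : Set K)) := by
  have hp5 : Nat.Prime 5 := by norm_num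
  have : Fact (Nat.Prime 5) := ⟨hp5⟩
  obtain ⟨z₀, hz₀, W₀', hGP₀, hx₀W', -⟩ := D.exists_elt hτ hW₀ hW₀d hx₀ hx₀W ⊥
  have hmapG : ∀ (g : G) (W₁ : Submodule F V), TI B W₁ → finrank F W₁ = 2 →
      TI B (W₁.map (φ g)) ∧ finrank F (W₁.map (φ g)) = 2 := by
    intro g W₁ hTI h3
    have hinj : Function.Injective (φ g) := by
      intro a b hab
      have h1 : φ g⁻¹ (φ g a) = φ g⁻¹ (φ g b) := by rw [hab]
      rw [← Module.End.mul_apply, ← Module.End.mul_apply, ← map_mul, inv_mul_cancel, map_one] at h1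
      exact h1
    refine ⟨?_, ?_⟩
    · rintro _ ⟨u, hu, rfl⟩ _ ⟨v, hv, rfl⟩
      rw [D.isom]
      exact hTI u hu v hv
    · rw [← h3]
      exact (LinearEquiv.finrank_eq (Submodule.equivMapOfInjective (φ g) hinj W₁)).symm
  have hinvφ : ∀ (g : G) (v : V), φ g⁻¹ (φ g v) = v := by
    intro g v
    rw [← Module.End.mul_apply, ← map_mul, inv_mul_cancel, map_one]
    rfl
  have hφinv : ∀ (g : G) (v : V), φ g (φ g⁻¹ v) = v := by
    intro g v
    rw [← Module.End.mul_apply, ← map_mul, mul_inv_cancel, map_one]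
    rfl
  -- a moved subspace
  obtain ⟨W₁, hTI, h3, hmove⟩ : ∃ W₁ : Submodule F V, TI B W₁ ∧ finrank F W₁ = 2 ∧ sm b σ hb W₁ ≠ W₁ := by
    by_contra hcon
    push Not at hcon
    let N : Subgroup G :=
      { carrier := {g | ∀ W₁ : Submodule F V, TI B W₁ → finrank F W₁ = 2 →
          (∀ v ∈ W₁, φ g v ∈ W₁) ∧ (∀ v ∈ W₁, φ g⁻¹ v ∈ W₁)}
        one_mem' := fun W₁ _ _ => ⟨fun v hv => by rw [map_one]; exact hv, fun v hv => by
          rw [inv_one, map_one]
          exact hv⟩
        mul_mem' := fun {g h} hg hh W₁ h1 h2 => ⟨fun v hv => by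
          rw [map_mul, Module.End.mul_apply]
          exact (hg W₁ h1 h2).1 _ ((hh W₁ h1 h2).1 v hv), fun v hv => by
          rw [mul_inv_rev, map_mul, Module.End.mul_apply]
          exact (hh W₁ h1 h2).2 _ ((hg W₁ h1 h2).2 v hv)⟩
        inv_mem' := fun {g} hg W₁ h1 h2 => ⟨(hg W₁ h1 h2).2, by rw [inv_inv]; exact (hg W₁ h1 h2).1⟩ }
    have hNn : N.Normal := by
      constructor
      intro n hn g W₁ h1 h2
      obtain ⟨h4, h5⟩ := hmapG g⁻¹ W₁ h1 h2
      have h6 := hn _ h4 h5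
      have hback : ∀ u ∈ W₁.map (φ g⁻¹), φ g u ∈ W₁ := by
        rintro _ ⟨u, hu, rfl⟩
        rw [hφinv]
        exact hu
      refine ⟨fun v hv => ?_, fun v hv => ?_⟩
      · rw [map_mul, map_mul, Module.End.mul_apply, Module.End.mul_apply]
        exact hback _ (h6.1 _ ⟨v, hv, rfl⟩)
      · have e : (g * n * g⁻¹)⁻¹ = g * n⁻¹ * g⁻¹ := by group
        rw [e, map_mul, map_mul, Module.End.mul_apply, Module.End.mul_apply]
        exact hback _ (h6.2 _ ⟨v, hv, rfl⟩)
    have hNγ : ∀ g : G, g⁻¹ * γ g ∈ N := by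
      intro g W₁ h1 h2
      obtain ⟨h4, h5⟩ := hmapG g W₁ h1 h2
      have hb1 := hcon W₁ h1 h2
      have hb2 := hcon _ h4 h5
      refine ⟨fun v hv => ?_, fun v hv => ?_⟩
      · rw [← hb1] at hv
        have hv' : b.symm v ∈ W₁ := hv
        have h6 : φ (γ g) v ∈ W₁.map (φ g) := by
          have h7 := hφb g (b.symm v)
          rw [b.apply_symm_apply] at h7
          rw [h7, ← hb2, apply_mem_sm]
          exact ⟨_, hv', rfl⟩
        obtain ⟨w, hw, hw'⟩ := h6
        rw [map_mul, Module.End.mul_apply]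
        rw [← hw', hinvφ]
        exact hw
      · have e : (g⁻¹ * γ g)⁻¹ = γ g⁻¹ * g := by rw [map_inv]; group
        rw [e, map_mul, Module.End.mul_apply]
        have h6 : φ g v ∈ W₁.map (φ g) := ⟨v, hv, rfl⟩
        rw [← hb2] at h6
        obtain ⟨w, hw, hw'⟩ : b.symm (φ g v) ∈ W₁.map (φ g) := h6
        have h7 : φ g v = b (φ g w) := by rw [hw', b.apply_symm_apply]
        rw [h7, hφb, hinvφ, ← hb1, apply_mem_sm]
        exact hw
    have hNπ : (N.map π).Normal := hNn.map π hπ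
    rcases hNπ.eq_bot_or_eq_top with h1 | h1
    · apply hβ
      ext k
      obtain ⟨g, rfl⟩ := hπ k
      have h2 : π (g⁻¹ * γ g) ∈ N.map π := ⟨_, hNγ g, rfl⟩
      rw [h1, Subgroup.mem_bot, map_mul, map_inv, hγ] at h2
      exact (inv_mul_eq_one.1 h2).symm
    · -- `z₀ ∈ N`
      have h2 : π z₀ ∈ N.map π := by rw [h1]; trivial
      obtain ⟨n, hn, hn'⟩ := h2
      have h4 : orderOf (π z₀) = 5 := by
        have := orderOf_map (a := 1) hp5 (by rw [hz₀, pow_one]) π hkr
        rwa [pow_one] at this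
      have h5 : 5 ∣ orderOf n := by
        rw [← h4, ← hn']
        exact orderOf_map_dvd π n
      have h6 : orderOf (n ^ (orderOf n / 5)) = 5 := by
        rw [orderOf_pow_of_dvd (Nat.div_pos (Nat.le_of_dvd (orderOf_pos n) h5) hp5.pos).ne' (Nat.div_dvd_of_dvd h5),
          Nat.div_div_self h5 (orderOf_pos n).ne']
      obtain ⟨g, hg⟩ := exists_conj_zpowers hp5 D.not_sq h6 hz₀
      have h7 : z₀ ∈ N := by
        refine (Subgroup.zpowers_le.2 ?_) hg
        exact hNn.conj_mem _ (N.pow_mem hn _) g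
      -- contradiction
      obtain ⟨z, -, W', hz', hxW', hA1⟩ := D.exists_elt hτ hW₀ hW₀d hx₀ hx₀W W₀'
      have hW'0 : W' ≠ ⊥ := by
        intro h0
        have h8 := hz'.dim'
        rw [h0, finrank_bot] at h8
        omega
      rcases hGP₀.eq_or W' hW'0 hz'.ti' (h7 W' hz'.ti' hz'.dim').1 with h8 | h8
      · rw [h8] at hxW'
        exact hx₀W hxW'
      · exact hA1 h8
  -- the preimage of `W₁`
  let S' : Submodule F V :=
    { carrier := {v | b v ∈ W₁}
      zero_mem' := by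
        show b 0 ∈ W₁
        rw [map_zero]
        exact W₁.zero_mem
      add_mem' := by
        intro x y hx hy
        show b (x + y) ∈ W₁
        rw [map_add]
        exact W₁.add_mem hx hy
      smul_mem' := by
        intro c x hx
        show b (c • x) ∈ W₁
        rw [hb]
        exact W₁.smul_mem _ hx }
  have hS' : ∀ v, v ∈ S' ↔ b v ∈ W₁ := fun _ => Iff.rfl
  have hsmS' : sm b σ hb S' = W₁ := by
    ext v
    rw [mem_sm, hS', b.apply_symm_apply]
  have hdS' : finrank F S' = 2 := by rw [← h3, ← hsmS', finrank_sm]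
  have hdS : finrank F (sm b σ hb W₁) = 2 := by rw [finrank_sm, h3]
  -- the vector
  obtain ⟨x, hxS, hxW, hxS'⟩ : ∃ x ∈ sm b σ hb W₁, x ∉ W₁ ∧ (x ∉ S' ∨ S' = sm b σ hb W₁) := by
    obtain ⟨s1, hs1, hs1'⟩ : ∃ x ∈ sm b σ hb W₁, x ∉ W₁ := by
      by_contra hcon
      push Not at hcon
      exact hmove (Submodule.eq_of_le_of_finrank_eq hcon (by rw [hdS, h3]))
    by_cases heq : S' = sm b σ hb W₁
    · exact ⟨s1, hs1, hs1', Or.inr heq⟩
    obtain ⟨s2, hs2, hs2'⟩ : ∃ x ∈ sm b σ hb W₁, x ∉ S' := by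
      by_contra hcon
      push Not at hcon
      exact heq (Submodule.eq_of_le_of_finrank_eq hcon (by rw [hdS, hdS'])).symm
    by_cases h4 : s1 ∈ S'
    · by_cases h5 : s2 ∈ W₁
      · refine ⟨s1 + s2, Submodule.add_mem _ hs1 hs2, fun h6 => hs1' ?_, Or.inl fun h6 => hs2' ?_⟩
        · have := W₁.sub_mem h6 h5
          rwa [add_sub_cancel_right] at this
        · have := S'.sub_mem h6 h4
          rwa [add_sub_cancel_left] at this
      · exact ⟨s2, hs2, h5, Or.inl hs2'⟩
    · exact ⟨s1, hs1, hs1', Or.inl h4⟩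
  have hxx : B x x = 0 := by
    have h4 := hbB (b.symm x) (b.symm x)
    rw [b.apply_symm_apply, hTI _ hxS _ hxS, map_zero] at h4
    exact h4
  obtain ⟨z, hz, W', hzW, hxW', hA1⟩ := D.exists_elt hτ hTI h3 hxx hxW (sm b σ hb W₁)
  refine ⟨π z, ?_, fun hs => ?_⟩
  · have := orderOf_map (a := 1) hp5 (by rw [hz, pow_one]) π hkr
    rwa [pow_one] at this
  · have h4 : (Subgroup.closure ({z, γ z} : Set G)).map π = Subgroup.closure ({π z, β (π z)} : Set K) := by
      rw [MonoidHom.map_closure, Set.image_pair, hγ]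
    have h5 : Group.IsSolvable (Subgroup.closure ({z, γ z} : Set G)) := by
      apply solvable_of_map π hker
      rw [h4]
      exact hs
    have h6 : GP2 B (φ (γ z)) (sm b σ hb W₁) (sm b σ hb W') := hzW.conj hbB (fun v => hφb z v)
    refine pair_false2 D hz (by rw [MulEquiv.orderOf_eq, hz]) hzW h6 hmove.symm ?_ hA1 ?_ h5
      (Subgroup.subset_closure (by simp)) (Subgroup.subset_closure (by simp))
    · intro h7
      have h8 : S' = W' := sm_inj (b := b) (σ := σ) (hb := hb) (by rw [hsmS', ← h7])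
      rcases hxS' with h9 | h9
      · apply h9
        rw [h8]
        exact hxW'
      · exact hA1 (h8.symm.trans h9)
    · intro h7
      have h8 : b.symm x ∈ W' := by
        have h9 : x ∈ sm b σ hb W' := by rw [← h7]; exact hxW'
        exact h9
      have h10 : b.symm x ∈ W₁ ⊓ W' := ⟨hxS, h8⟩
      rw [hzW.disj, Submodule.mem_bot] at h10
      have h11 : x = 0 := by rw [← b.apply_symm_apply x, h10, map_zero]
      rw [h11] at hxW
      exact hxW W₁.zero_mem

end

end Cfsg.Agent.H518.SU
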