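import Mathlib
import Cfsg.Agent.H518.SUSevenFin

/-!
# `PSp_6(2)`
-/

set_option autoImplicit false
set_option linter.unusedSectionVars false

namespace Cfsg.Agent.H518.SU

open Module Cfsg.Agent.H518.DghpFix Cfsg.Agent.H518.DghpPrim Cfsg.Agent.H518.DghpMat Matrix

universe u v w w'

section

variable {F : Type} [Field F]

/-- The symplectic form. -/
def spB (m : ℕ) (F : Type) [Field F] (u v : Fin m ⊕ Fin m → F) : F := u ⬝ᵥ (Matrix.J (Fin m) F *ᵥ v)

theorem spB_eq (m : ℕ) (u v : Fin m ⊕ Fin m → F) :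
    spB m F u v = ∑ i, (u (Sum.inr i) * v (Sum.inl i) - u (Sum.inl i) * v (Sum.inr i)) := by
  unfold spB Matrix.J
  have hv : v = Sum.elim (v ∘ Sum.inl) (v ∘ Sum.inr) := by
    funext i
    rcases i with i | i <;> rfl
  have hu : u = Sum.elim (u ∘ Sum.inl) (u ∘ Sum.inr) := by
    funext i
    rcases i with i | i <;> rfl
  conv_lhs => rw [hv, hu]
  rw [Matrix.fromBlocks_mulVec]
  simp only [dotProduct, Fintype.sum_sum_type, Sum.elim_inl, Sum.elim_inr, Function.comp_apply, zero_mulVec,
    one_mulVec, neg_mulVec, add_zero, zero_add, Pi.neg_apply]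
  rw [← Finset.sum_add_distrib]
  refine Finset.sum_congr rfl fun i _ => ?_
  simp
  ring

theorem spB_sym (m : ℕ) (h2 : (2 : F) = 0) (u v : Fin m ⊕ Fin m → F) : spB m F u v = spB m F v u := by
  rw [spB_eq, spB_eq]
  refine Finset.sum_congr rfl fun i _ => ?_
  linear_combination (u (Sum.inr i) * v (Sum.inl i) - u (Sum.inl i) * v (Sum.inr i)) * h2

theorem spB_self (m : ℕ) (u : Fin m ⊕ Fin m → F) : spB m F u u = 0 := by
  rw [spB_eq]
  refine Finset.sum_eq_zero fun i _ => ?_
  ring

theorem frm_sp (m : ℕ) (h2 : (2 : F) = 0) : Frm (spB m F) where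
  add x y z := by
    unfold spB
    rw [mulVec_add, dotProduct_add]
  smul c x y := by
    unfold spB
    rw [mulVec_smul, dotProduct_smul, smul_eq_mul]
  symm x y h := by
    rw [spB_sym m h2]
    exact h
  nondeg x h := by
    funext i
    rcases i with i | i
    · have h1 := h (Pi.single (Sum.inr i) 1)
      rw [spB_eq] at h1
      simpa [Pi.single_apply] using h1
    · have h1 := h (Pi.single (Sum.inl i) 1)
      rw [spB_eq] at h1
      simpa [Pi.single_apply] using h1

theorem spB_isom (m : ℕ) (g : Matrix.symplecticGroup (Fin m) F) (u v : Fin m ⊕ Fin m → F) :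
    spB m F (matRep (spHom m F) g u) (matRep (spHom m F) g v) = spB m F u v := by
  have h1 := (SymplecticGroup.mem_iff').1 g.2
  show (g.1 *ᵥ u) ⬝ᵥ (Matrix.J (Fin m) F *ᵥ (g.1 *ᵥ v)) = u ⬝ᵥ (Matrix.J (Fin m) F *ᵥ v)
  rw [← vecMul_transpose, ← dotProduct_mulVec, mulVec_mulVec, mulVec_mulVec, h1]

theorem exists_sp (m : ℕ) {z : (Fin m ⊕ Fin m → F) →ₗ[F] (Fin m ⊕ Fin m → F)}
    (hz : ∀ u v, spB m F (z u) (z v) = spB m F u v) : ∃ g, matRep (spHom m F) g = z := by
  classical
  have hA : ∀ v, LinearMap.toMatrix' z *ᵥ v = z v := fun v => by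
    rw [LinearMap.toMatrix'_mulVec]
  have hmem : LinearMap.toMatrix' z ∈ Matrix.symplecticGroup (Fin m) F := by
    rw [SymplecticGroup.mem_iff']
    ext i j
    have h1 := hz (Pi.single i 1) (Pi.single j 1)
    unfold spB at h1
    rw [← hA, ← hA, ← vecMul_transpose, ← dotProduct_mulVec, mulVec_mulVec, mulVec_mulVec] at h1
    rw [single_one_dotProduct, single_one_dotProduct, Matrix.mulVec_single_one,
      Matrix.mulVec_single_one] at h1
    exact h1
  refine ⟨⟨_, hmem⟩, ?_⟩
  rw [matRep_apply]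
  show Matrix.toLin' (LinearMap.toMatrix' z) = z
  rw [Matrix.toLin'_toMatrix']

/-- The first half of the standard frame. -/
def s6E : (Fin 3 → F) →ₗ[F] (Fin 3 ⊕ Fin 3 → F) where
  toFun a := Sum.elim a (fun _ => 0)
  map_add' a b := by
    funext i
    rcases i with i | i <;> simp
  map_smul' c a := by
    funext i
    rcases i with i | i <;> simp

/-- The second half of the standard frame. -/
def s6E' : (Fin 3 → F) →ₗ[F] (Fin 3 ⊕ Fin 3 → F) where
  toFun a := Sum.elim (fun _ => 0) a
  map_add' a b := by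
    funext i
    rcases i with i | i <;> simp
  map_smul' c a := by
    funext i
    rcases i with i | i <;> simp

theorem fr_s6 (h2 : (2 : F) = 0) : Fr (spB 3 F) (s6E (F := F)) (s6E' (F := F)) := by
  refine ⟨fun a b => ?_, fun a b => ?_, fun a b => ?_⟩
  · rw [spB_eq]
    simp [s6E]
  · rw [spB_eq]
    simp [s6E']
  · rw [spB_eq, dotProduct]
    refine Finset.sum_congr rfl fun i _ => ?_
    simp only [s6E, s6E', LinearMap.coe_mk, AddHom.coe_mk, Sum.elim_inl, Sum.elim_inr]
    linear_combination (- (a i * b i)) * h2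

variable [Fintype F]

theorem exc_psp_six (hF : Fintype.card F = 2) (hZ : Subgroup.center (Cfsg.PSp 3 F) = ⊥)
    (hsimp : IsSimpleGroup (Cfsg.PSp 3 F)) : Exc1 (Cfsg.PSp 3 F) := by
  have hpf : Fact (Nat.Prime 2) := ⟨Nat.prime_two⟩
  have hcharP : CharP F 2 := charP_of_card_eq_prime hF
  have h2 : (2 : F) = 0 := by
    have := CharP.cast_eq_zero F 2
    exact_mod_cast this
  have hr : Nat.Prime 7 := by norm_num
  have hfinG : Finite (Matrix.symplecticGroup (Fin 3) F) := Subtype.finite
  have hfinK : Finite (Cfsg.PSp 3 F) := inferInstance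
  have hcG : Nat.card (Matrix.symplecticGroup (Fin 3) F) = 1451520 := by
    rw [Cfsg.Agent.S0245.result hF 3]
    simp only [Finset.prod_range_succ, Finset.prod_range_zero]
    norm_num
  have hcZ : Nat.card (Subgroup.center (Matrix.symplecticGroup (Fin 3) F)) = 1 := by
    rw [Cfsg.Agent.S0246.result hF 3 (by norm_num)]
    norm_num
  have hcK : Nat.card (Cfsg.PSp 3 F) = 1451520 := by
    have h6 : Nat.card (Matrix.symplecticGroup (Fin 3) F) =
        Nat.card (Cfsg.PSp 3 F) * Nat.card (Subgroup.center (Matrix.symplecticGroup (Fin 3) F)) :=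
      Subgroup.card_eq_card_quotient_mul_card_subgroup _
    rw [hcZ, hcG, mul_one] at h6
    exact h6.symm
  have hout : Nat.card (Cfsg.Out (Cfsg.PSp 3 F)) = 1 := by
    rw [H163.PG.card_out_psp (f := 1) Nat.prime_two le_rfl (by rw [hF]; rfl) (by norm_num) (fun h => by omega) hZ]
    norm_num
  have hord := orderOf_two_seven
  have hker : (QuotientGroup.mk' (Subgroup.center (Matrix.symplecticGroup (Fin 3) F))).ker =
      Subgroup.center (Matrix.symplecticGroup (Fin 3) F) := QuotientGroup.ker_mk' _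
  have hd : finrank F (Fin 3 ⊕ Fin 3 → F) = 6 := finrank_sum_fin
  have D : Dat (matRep (spHom 3 F)) (spB 3 F) 7 :=
    { inj := matRep_injective (spHom_injective _ _)
      frm := frm_sp 3 h2
      sym := spB_sym 3 h2
      isom := spB_isom 3
      prime := hr
      ne_two := by norm_num
      not_sq := by rw [hcG]; norm_num
      size := by
        rw [hd, hF]
        exact Or.inr ⟨rfl, rfl, Or.inl dvd_rfl⟩
      not_dvd := by rw [hF]; norm_num
      ord := by rw [hF]; exact hord
      dim := by rw [hd]; norm_num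
      char := Or.inr ⟨hF, spB_self 3⟩ }
  refine Exc1.of hr (by norm_num) (by rw [hout]; norm_num) (by rw [hcK]; norm_num) (by rw [hcK]; norm_num)
    fun β hβ => ?_
  -- `β` is inner
  have hin : β ∈ (MulAut.conj : Cfsg.PSp 3 F →* MulAut (Cfsg.PSp 3 F)).range := by
    have h3 : Subsingleton (Cfsg.Out (Cfsg.PSp 3 F)) := (Nat.card_eq_one_iff_unique.1 hout).1
    have h4 : (QuotientGroup.mk β : MulAut (Cfsg.PSp 3 F) ⧸ (MulAut.conj : Cfsg.PSp 3 F →* _).range) =
        QuotientGroup.mk 1 := Subsingleton.elim (α := Cfsg.Out (Cfsg.PSp 3 F)) _ _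
    rw [QuotientGroup.eq, mul_one, inv_mem_iff] at h4
    exact h4
  obtain ⟨k, rfl⟩ := hin
  obtain ⟨g, rfl⟩ := QuotientGroup.mk'_surjective (Subgroup.center (Matrix.symplecticGroup (Fin 3) F)) k
  set φ := matRep (spHom 3 F) with hφ
  have hinv : ∀ (g : Matrix.symplecticGroup (Fin 3) F) (v : Fin 3 ⊕ Fin 3 → F), φ g (φ g⁻¹ v) = v := by
    intro g v
    rw [← Module.End.mul_apply, ← map_mul, mul_inv_cancel, map_one]
    rfl
  have hinv' : ∀ (g : Matrix.symplecticGroup (Fin 3) F) (v : Fin 3 ⊕ Fin 3 → F), φ g⁻¹ (φ g v) = v := by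
    intro g v
    rw [← Module.End.mul_apply, ← map_mul, inv_mul_cancel, map_one]
    rfl
  let b : (Fin 3 ⊕ Fin 3 → F) ≃ₗ[F] (Fin 3 ⊕ Fin 3 → F) :=
    LinearEquiv.ofLinearMap (φ g) (φ g⁻¹) (LinearMap.ext (hinv g)) (LinearMap.ext (hinv' g))
  refine pair_exc_isom D (QuotientGroup.mk' (Subgroup.center (Matrix.symplecticGroup (Fin 3) F)))
    (QuotientGroup.mk'_surjective _) ?_ ?_ (fun z _ hz => exists_sp 3 hz) (fr_s6 h2) hβ (MulAut.conj g) ?_ b
    one_ne_zero ?_ ?_
  · rw [hker]
    exact Group.isSolvable_of_comm fun a b => Subtype.ext ((Subgroup.mem_center_iff.1 b.2) a)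
  · rw [hker, hcZ]
    norm_num
  · intro h
    rw [MulAut.conj_apply, map_mul, map_mul, map_inv, MulAut.conj_apply]
  · intro u v
    rw [one_mul]
    exact spB_isom 3 g u v
  · intro h v
    show φ (g * h * g⁻¹) (φ g v) = φ g (φ h v)
    rw [map_mul, map_mul, Module.End.mul_apply, Module.End.mul_apply, hinv']

end

end Cfsg.Agent.H518.SU
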