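import Mathlib
import Cfsg.Agent.H518.SUHermFin
import Cfsg.Agent.H518.SUSpSix
import Cfsg.Agent.S0822

/-!
# `PSU_4(2)` and `PSp_4(3)`
-/

set_option autoImplicit false
set_option linter.unusedSectionVars false

namespace Cfsg.Agent.H518.SU

open Module Cfsg.Agent.H518.DghpFix Cfsg.Agent.H518.DghpPrim Cfsg.Agent.H518.DghpMat Matrix
open Cfsg.Agent.ClassicalGeometry Cfsg.Agent.ClassicalGeometry.PSUAutCount Cfsg.Agent.LieClassical.HermSiegel

universe u v w w'

variable {F : Type} [Field F] [Fintype F]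

/-- The form. -/
def hB4 (F : Type) [Field F] (x y : Fin 4 → F) : F := Cfsg.hermForm 4 F 2 y x

theorem hm4 (hF : Fintype.card F = 4) : Hm (hB4 F) where
  toFrm := frm_herm (n := 4) (q := 2) (by rw [hF]; norm_num)
  herm x y := by
    have hF' : Fintype.card F = 2 ^ 2 := by rw [hF]; norm_num
    show Cfsg.hermForm 4 F 2 x y = (Cfsg.hermForm 4 F 2 y x) ^ 2
    simp only [Cfsg.hermForm]
    rw [Cfsg.Agent.LieClassical.HermBasic.sum_pow_q hF']
    refine Finset.sum_congr rfl fun i _ => ?_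
    rw [mul_pow, Cfsg.Agent.LieClassical.HermBasic.pow_q_pow_q hF', mul_comm]
  cd := hF

theorem exc_psu_four (hF : Fintype.card F = 4) (hsimp : IsSimpleGroup (Cfsg.PSU 4 F 2))
    (hZ : Subgroup.center (Cfsg.PSU 4 F 2) = ⊥) : Exc1 (Cfsg.PSU 4 F 2) := by
  have hF' : Fintype.card F = 2 ^ 2 := by rw [hF]; norm_num
  have hH := hm4 hF
  have h2 : (2 : F) = 0 := hH.two
  have hp5 : Nat.Prime 5 := by norm_num
  have hpf : Fact (Nat.Prime 2) := ⟨Nat.prime_two⟩
  have hcSU : Nat.card (Cfsg.SU 4 F 2) = 25920 := by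
    rw [card_SU_succ hF']
    simp only [Finset.prod_range_succ, Finset.prod_range_zero]
    norm_num [Nat.even_iff]
  have hcZ : Nat.card (Subgroup.center (Cfsg.SU 4 F 2)) = 1 := by
    rw [Cfsg.Agent.S0279.result hF' 4 (by norm_num)]
    norm_num
  have hcK : Nat.card (Cfsg.PSU 4 F 2) = 25920 := by
    have h6 : Nat.card (Cfsg.SU 4 F 2) = Nat.card (Cfsg.PSU 4 F 2) * Nat.card (Subgroup.center (Cfsg.SU 4 F 2)) :=
      Subgroup.card_eq_card_quotient_mul_card_subgroup _
    rw [hcZ, hcSU, mul_one] at h6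
    exact h6.symm
  have hout : Nat.card (Cfsg.Out (Cfsg.PSU 4 F 2)) = 2 := by
    rw [H163.PG.card_out_psu (p := 2) (f := 1) Nat.prime_two le_rfl (by norm_num) hF' (by norm_num) (by norm_num) hZ]
    norm_num
  have hd : finrank F (Fin 4 → F) = 4 := by rw [Module.finrank_fin_fun]
  have hker : (QuotientGroup.mk' (Subgroup.center (Cfsg.SU 4 F 2))).ker =
      Subgroup.center (Cfsg.SU 4 F 2) := QuotientGroup.ker_mk' _
  obtain ⟨τ, hτ⟩ : ∃ τ : F, τ ^ 2 + τ + 1 = 0 := by
    obtain ⟨τ, h0, h1⟩ : ∃ τ : F, τ ≠ 0 ∧ τ ≠ 1 := by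
      by_contra hcon
      push Not at hcon
      have h3 : Fintype.card F ≤ 2 := by
        classical
        have h4 : (Finset.univ : Finset F) ⊆ {0, 1} := by
          intro t _
          by_cases ht : t = 0
          · simp [ht]
          · simp [hcon t ht]
        exact (Finset.card_le_card h4).trans Finset.card_le_two
      omega
    refine ⟨τ, ?_⟩
    have h3 : τ * ((τ - 1) * (τ ^ 2 + τ + 1)) = 0 := by
      linear_combination hH.pow_four τ
    exact ((mul_eq_zero.1 h3).resolve_left h0 |> mul_eq_zero.1).resolve_left (sub_ne_zero.2 h1)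
  have D : Dat2 (matRep (suHom 4 F 2)) (hB4 F) :=
    { inj := matRep_injective (suHom_injective _ _ _)
      hm := hH
      isom := fun g u v => g.2 v u
      not_sq := by rw [hcSU]; norm_num
      dim := hd
      all := by
        intro z hz hiso
        classical
        have hA : ∀ v, LinearMap.toMatrix' z *ᵥ v = z v := fun v => by
          rw [LinearMap.toMatrix'_mulVec]
        have hpow : (LinearMap.toMatrix' z) ^ 5 = 1 := by
          have h3 : LinearMap.toMatrixAlgEquiv' (z ^ 5) = (LinearMap.toMatrixAlgEquiv' z) ^ 5 := map_pow _ _ _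
          rw [hz, map_one] at h3
          exact h3.symm
        have hdet5 : (LinearMap.toMatrix' z).det ^ 5 = 1 := by rw [← det_pow, hpow, det_one]
        have hdet : (LinearMap.toMatrix' z).det = 1 := by
          have h4 := hH.pow_four (LinearMap.toMatrix' z).det
          have h5 : (LinearMap.toMatrix' z).det * (LinearMap.toMatrix' z).det = 1 := by
            calc _ = (LinearMap.toMatrix' z).det ^ 4 * (LinearMap.toMatrix' z).det := by rw [h4]
              _ = 1 := by rw [← pow_succ, hdet5]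
          have h6 : ((LinearMap.toMatrix' z).det - 1) ^ 2 = 0 := by
            linear_combination h5 + (1 - (LinearMap.toMatrix' z).det) * h2
          exact sub_eq_zero.1 (pow_eq_zero_iff (two_ne_zero) |>.1 h6)
        refine ⟨⟨⟨LinearMap.toMatrix' z, hdet⟩, (LieClassical.SUBasic.mem_SU_iff _).2 fun u v => ?_⟩, ?_⟩
        · show Cfsg.hermForm 4 F 2 (LinearMap.toMatrix' z *ᵥ u) (LinearMap.toMatrix' z *ᵥ v) = _
          rw [hA, hA]
          exact hiso v u
        · rw [matRep_apply]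
          show Matrix.toLin' (LinearMap.toMatrix' z) = z
          rw [Matrix.toLin'_toMatrix'] }
  -- the plane
  have hplane : ∀ r s : F, r • (![1, 1, 0, 0] : Fin 4 → F) + s • ![0, 0, 1, 1] = ![r, r, s, s] := by
    intro r s
    funext i
    fin_cases i <;> simp
  refine Exc1.of hp5 (by norm_num) (by rw [hout]; norm_num) (by rw [hcK]; norm_num) (by rw [hcK]; norm_num)
    fun β hβ => ?_
  obtain ⟨A, ρ, rfl⟩ := PSUAutMain.exists_toAut hF' (by norm_num) (by norm_num) β
  let b : (Fin 4 → F) ≃+ (Fin 4 → F) :=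
    { toFun := fun v => gm A *ᵥ fun i => ρ (v i)
      invFun := fun v => fun i => ρ.symm ((gm A⁻¹ *ᵥ v) i)
      left_inv := fun v => by
        funext i
        show ρ.symm ((gm A⁻¹ *ᵥ (gm A *ᵥ fun i => ρ (v i))) i) = v i
        rw [gm_inv_mulVec, RingEquiv.symm_apply_apply]
      right_inv := fun v => by
        show gm A *ᵥ (fun i => ρ (ρ.symm ((gm A⁻¹ *ᵥ v) i))) = v
        simp only [RingEquiv.apply_symm_apply]
        exact gm_mulVec_inv A v
      map_add' := fun u v => by
        rw [← mulVec_add]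
        congr 1
        funext i
        exact map_add ρ _ _ }
  refine herm_exc D hτ (QuotientGroup.mk' (Subgroup.center (Cfsg.SU 4 F 2)))
    (QuotientGroup.mk'_surjective _) ?_ ?_ (W₀ := pln F ![1, 1, 0, 0] ![0, 0, 1, 1]) ?_ ?_ (x₀ := ![1, 0, 1, 0]) ?_ ?_
    hβ (semiConj A ρ) (fun g => rfl) b ρ ?_ ?_ ?_
  · rw [hker]
    exact Group.isSolvable_of_comm fun a b => Subtype.ext ((Subgroup.mem_center_iff.1 b.2) a)
  · rw [hker, hcZ]
    norm_num
  · rintro _ ⟨r, s, rfl⟩ _ ⟨r', s', rfl⟩
    rw [hplane, hplane]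
    show Cfsg.hermForm 4 F 2 _ _ = 0
    simp only [Cfsg.hermForm, Fin.sum_univ_four]
    show r' * r ^ 2 + r' * r ^ 2 + s' * s ^ 2 + s' * s ^ 2 = 0
    linear_combination (r' * r ^ 2 + s' * s ^ 2) * h2
  · refine finrank_pln fun r s hrs => ?_
    rw [hplane] at hrs
    exact ⟨congrFun hrs 0, congrFun hrs 2⟩
  · show Cfsg.hermForm 4 F 2 _ _ = 0
    simp only [Cfsg.hermForm, Fin.sum_univ_four]
    show (1 : F) * 1 ^ 2 + 0 * 0 ^ 2 + 1 * 1 ^ 2 + 0 * 0 ^ 2 = 0
    linear_combination h2
  · rintro ⟨r, s, hrs⟩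
    rw [hplane] at hrs
    have h3 : (1 : F) = r := congrFun hrs 0
    have h4 : (0 : F) = r := congrFun hrs 1
    exact one_ne_zero (h3.trans h4.symm)
  · intro c v
    show gm A *ᵥ (fun i => ρ ((c • v) i)) = ρ c • (gm A *ᵥ fun i => ρ (v i))
    rw [← mulVec_smul]
    congr 1
    funext i
    exact map_mul ρ _ _
  · intro u v
    exact herm_semi A ρ v u
  · intro g v
    exact act_semiConj A ρ g v

end Cfsg.Agent.H518.SU
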