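import Mathlib
import Cfsg.Agent.H518.SUPsuFour
import Cfsg.Agent.H518.SUAntiFin

/-!
# The exceptional classical groups, except `PΩ⁺₈(q)`
-/

set_option autoImplicit false

namespace Cfsg.Agent.H518.SU

universe u v w

theorem exc_psp_four {F : Type} [Field F] [Fintype F] (hF : Fintype.card F = 3) (hsimp : IsSimpleGroup (Cfsg.PSp 2 F))
    (hZ : Subgroup.center (Cfsg.PSp 2 F) = ⊥) : Exc1 (Cfsg.PSp 2 F) := by
  have : Fact (Nat.Prime 2) := ⟨Nat.prime_two⟩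
  have : Fintype (GaloisField 2 2) := Fintype.ofFinite _
  have h4 : Fintype.card (GaloisField 2 2) = 4 := by
    rw [← Nat.card_eq_fintype_card, GaloisField.card 2 2 (by norm_num)]
    norm_num
  obtain ⟨e⟩ := Cfsg.Agent.S0822.result (F := GaloisField 2 2) (K := F) h4 hF
  have hs : IsSimpleGroup (Cfsg.PSU 4 (GaloisField 2 2) 2) := e.isSimpleGroup
  exact (exc_psu_four h4 hs (center_eq_bot_of e.symm hZ)).congr e

/-- **The exceptional classical groups**, except `PΩ⁺₈(q)`. -/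
theorem exc1_of_exceptions {K : Type u} [Group K] [IsSimpleGroup K] (hZ : Subgroup.center K = ⊥)
    (h : Exceptions K) : Exc1 K ∨ ∃ (F : Type) (_ : Field F) (_ : Fintype F),
      (Fintype.card F = 2 ∨ Fintype.card F = 3 ∨ Fintype.card F = 5) ∧
      Nonempty (K ≃* Cfsg.POmega F (Cfsg.quadFormPlus 4 F)) := by
  obtain ⟨F, iF, iF', h⟩ := h
  rcases h with ⟨hF, ⟨e⟩⟩ | ⟨hF, ⟨e⟩⟩ | ⟨hF, ⟨e⟩⟩ | ⟨hF, ⟨e⟩⟩ | ⟨hF, ⟨e⟩⟩ | ⟨hF, ⟨e⟩⟩ | ⟨hF, ⟨e⟩⟩ | ⟨hF, ⟨e⟩⟩ |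
    ⟨hF, ⟨e⟩⟩ | ⟨hF, ⟨e⟩⟩
  · exact Or.inl ((exc_psl_six hF (center_eq_bot_of e hZ)).congr e.symm)
  · exact Or.inl ((exc_psl_four hF (center_eq_bot_of e hZ)).congr e.symm)
  · have : IsSimpleGroup (Cfsg.PSp 3 F) := e.symm.isSimpleGroup
    exact Or.inl ((exc_psp_six hF (center_eq_bot_of e hZ) this).congr e.symm)
  · have : IsSimpleGroup (Cfsg.PSp 2 F) := e.symm.isSimpleGroup
    exact Or.inl ((exc_psp_four hF this (center_eq_bot_of e hZ)).congr e.symm)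
  · have : IsSimpleGroup (Cfsg.PSU 4 F 2) := e.symm.isSimpleGroup
    exact Or.inl ((exc_psu_four hF this (center_eq_bot_of e hZ)).congr e.symm)
  · exact Or.inl ((exc_odd_seven_three hF (center_eq_bot_of e hZ)).congr e.symm)
  · exact Or.inl ((exc_odd_seven_five hF (center_eq_bot_of e hZ)).congr e.symm)
  · exact Or.inr ⟨F, iF, iF', Or.inl hF, ⟨e⟩⟩
  · exact Or.inr ⟨F, iF, iF', Or.inr (Or.inl hF), ⟨e⟩⟩
  · exact Or.inr ⟨F, iF, iF', Or.inr (Or.inr hF), ⟨e⟩⟩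

end Cfsg.Agent.H518.SU
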