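import Cfsg.Agent.H518.Co13
import Cfsg.Agent.H322.SU.CoOne
import Cfsg.Agent.H965.ASLt
import Cfsg.Agent.ConwayFacts.AutCo1
import Cfsg.Agent.H599.IdxJor

/-!
# `AS2` for `Co1` (helper518, S3943)
-/

set_option autoImplicit false

namespace Cfsg.Agent.H518.ASCo1

open Cfsg Subgroup Cfsg.Agent.H465.SU Cfsg.Agent.H465.Red Cfsg.Agent.H965.SU Cfsg.Agent.H965.AS

universe u

theorem row_co1 {K : Type u} [Group K] [Finite K] [IsSimpleGroup K] (hna : ¬ IsMulCommutative K)
    (h : Spor.IsoCo1 K) : AS2 K := by
  have hcard := Cfsg.Agent.NotCT.Orders.co1 h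
  have hp : Nat.Prime 13 := by norm_num
  have hpf : Fact (Nat.Prime 13) := ⟨hp⟩
  obtain ⟨f⟩ := id h
  obtain ⟨y, hy⟩ := exists_prime_orderOf_dvd_card' (G := K) 13 (by rw [hcard]; norm_num)
  have hfy : orderOf (f y) = 13 := by rw [MulEquiv.orderOf_eq, hy]
  have hsu : SUel 13 y := by
    have h1 := (H322.SUCo.suel_co1 (s := f y) hfy).congr f.symm
    rwa [f.symm_apply_apply] at h1
  have hrow : SURow K 13 1 y :=
    { hp := hp
      odd := by norm_num
      ha := le_rfl
      ord := by rw [hy, pow_one]
      su := hsu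
      full := by rw [hcard]; norm_num
      inn := by
        rintro b -
        obtain ⟨s, hs⟩ := ConwayFacts.AutCo1.inner_of_equiv f b
        exact ⟨s, by ext g; rw [MulAut.conj_apply]; exact hs g⟩ }
  refine AS2.of_lt hna hrow (by norm_num) (c := 156) (b := 46) ?_ ?_ (by norm_num)
  · have h1 : y ^ 13 ^ (1 - 1) = y := by norm_num
    rw [h1]
    have h2 := Co13.cent_co1 hfy
    have h3 : Nat.card ↥(centralizer ({f y} : Set Spor.Co1)) = Nat.card ↥(centralizer ({y} : Set K)) := by
      have h4 : (centralizer ({y} : Set K)).map f.toMonoidHom = centralizer ({f y} : Set Spor.Co1) := by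
        ext g
        rw [mem_centralizer_singleton_iff]
        constructor
        · rintro ⟨k, hk, rfl⟩
          have h5 := mem_centralizer_singleton_iff.1 hk
          show f k * f y = f y * f k
          rw [← map_mul, ← map_mul, h5]
        · intro hg
          refine ⟨f.symm g, mem_centralizer_singleton_iff.2 (f.injective ?_), f.apply_symm_apply g⟩
          rw [map_mul, map_mul, f.apply_symm_apply, hg]
      rw [← h4]
      exact Subgroup.card_map_of_injective (f := f.toMonoidHom) f.injective
    rw [h3] at h2
    exact (Nat.le_of_dvd (by norm_num) h2).trans (by norm_num)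
  · intro H hH
    exact H599.IdxJor.le_index_of_check hna hcard (P := [13, 23]) (by
      intro p hp
      simp only [List.mem_cons, List.not_mem_nil, or_false] at hp
      rcases hp with rfl | rfl <;> norm_num) (N := 46) (by decide +kernel) H hH

end Cfsg.Agent.H518.ASCo1
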