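import Mathlib
import Cfsg.Agent.H518.DghpCore
import Cfsg.Agent.S4150
import Cfsg.Prelude.Def_Classical

/-!
# The alternating groups
-/

set_option autoImplicit false

namespace Cfsg.Agent.H518.DghpMat

open Cfsg.Agent.H518.Dghp

universe u

/-- Alternating groups of degree at least `5` are not solvable. -/
theorem not_isSolvable_alternating {d : ℕ} (hd : 5 ≤ d) : ¬ Group.IsSolvable (alternatingGroup (Fin d)) := by
  intro h
  refine Equiv.Perm.not_isSolvable (Fin d) (by simpa using hd) ?_
  exact Group.isSolvable_of_ker_le_range (G' := alternatingGroup (Fin d)) (G'' := ℤˣ)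
    (alternatingGroup (Fin d)).subtype Equiv.Perm.sign (by
      intro x hx
      exact ⟨⟨x, hx⟩, rfl⟩)

/-- **The alternating groups.** -/
theorem core_isAlternating {G : Type u} [Group G] (h : Cfsg.IsAlternating G) : Core G := by
  obtain ⟨m, hm, ⟨e⟩⟩ := h
  refine Core.congr e.symm ?_
  obtain ⟨p, q, hp, hq, hmp, hpq, hqm, hgen⟩ := Cfsg.Agent.S4150.result m hm
  have hcard : ∀ t : ℕ, t.Prime → 2 < t → t ≤ m → ∃ x : alternatingGroup (Fin m), orderOf x = t := by
    intro t ht ht2 htm
    have : Fact t.Prime := ⟨ht⟩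
    have : Nontrivial (Fin m) := Fin.nontrivial_iff_two_le.2 (by omega)
    have h1 := two_mul_card_alternatingGroup (α := Fin m)
    rw [Fintype.card_perm, Fintype.card_fin] at h1
    have h2 : t ∣ 2 * Fintype.card (alternatingGroup (Fin m)) := by
      rw [h1]
      exact (Nat.Prime.dvd_factorial ht).2 htm
    have h3 : t ∣ Fintype.card (alternatingGroup (Fin m)) :=
      ((Nat.Prime.dvd_mul ht).1 h2).resolve_left fun h => by
        have := Nat.le_of_dvd two_pos h
        omega
    exact exists_prime_orderOf_dvd_card t h3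
  refine ⟨p, q, 1, 1, hp, hq, hpq.ne, one_pos, one_pos, ?_, ?_, fun x y hx hy hsol => ?_⟩
  · rw [pow_one]
    exact hcard p hp (by omega) (by omega)
  · rw [pow_one]
    exact hcard q hq (by omega) hqm
  · rw [pow_one] at hx hy
    obtain ⟨d, hd, ⟨f⟩⟩ := hgen x y hx hy
    exact not_isSolvable_alternating hd
      (Group.isSolvable_of_isSolvable_injective (f := f.symm.toMonoidHom) f.symm.injective)

end Cfsg.Agent.H518.DghpMat
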