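import Mathlib
import Cfsg.Agent.S4106

/-!
# Counting classes of `π`-elements (for S4104, S4105)

`kc s G` is the number of conjugacy classes of `s`-elements of `G` (`s` a finite set of primes).
`kc_le_sum`: the number of classes of `σ ∪ τ`-elements is at most the sum, over representatives `y` of the
classes of `σ`-elements, of the number of classes of `τ`-elements of `C_G(y)`.
`mul_kc_le`: the number of classes bounded by the sizes of the traces on a set.
-/

set_option autoImplicit false

namespace Cfsg.Agent.H518.PiCount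

universe u v

/-- all prime divisors of the order of `g` lie in `s` -/
def IsElt {G : Type u} [Group G] (s : Finset ℕ) (g : G) : Prop :=
  ∀ q : ℕ, q.Prime → q ∣ orderOf g → q ∈ s

/-- number of conjugacy classes of `s`-elements -/
noncomputable def kc (s : Finset ℕ) (G : Type u) [Group G] : ℕ :=
  Nat.card {C : ConjClasses G // ∃ g : G, ConjClasses.mk g = C ∧ IsElt s g}

/-- the `s`-part of a natural number -/
def part (s : Finset ℕ) (n : ℕ) : ℕ := ∏ q ∈ s, q ^ n.factorization q

theorem kc_le_part {G : Type u} [Group G] [Finite G] (s : Finset ℕ) (hs : ∀ q ∈ s, q.Prime) :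
    kc s G ≤ part s (Nat.card G) := Cfsg.Agent.S4106.key s hs G

theorem orderOf_conj {G : Type u} [Group G] (c g : G) : orderOf (c * g * c⁻¹) = orderOf g := by
  have := MulAut.conj_apply c g
  rw [← this]
  exact orderOf_injective (MulAut.conj c).toMonoidHom (MulAut.conj c).injective g

theorem IsElt.of_isConj {G : Type u} [Group G] {s : Finset ℕ} {g h : G} (hg : IsElt s g) (h' : IsConj g h) :
    IsElt s h := by
  obtain ⟨c, rfl⟩ := isConj_iff.1 h'
  intro q hq hqd
  rw [orderOf_conj] at hqd
  exact hg q hq hqd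

theorem IsElt.mono {G : Type u} [Group G] {s t : Finset ℕ} (h : s ⊆ t) {g : G} (hg : IsElt s g) : IsElt t g :=
  fun q hq hqd => h (hg q hq hqd)

theorem IsElt.of_dvd {G : Type u} [Group G] {H : Type v} [Group H] {s : Finset ℕ} {g : G} {h : H} (hg : IsElt s g)
    (hd : orderOf h ∣ orderOf g) : IsElt s h :=
  fun q hq hqd => hg q hq (hqd.trans hd)

/-- a representative of a class -/
noncomputable def rep {G : Type u} [Group G] (C : ConjClasses G) : G := Classical.choose (ConjClasses.exists_rep C)

theorem mk_rep {G : Type u} [Group G] (C : ConjClasses G) : ConjClasses.mk (rep C) = C :=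
  Classical.choose_spec (ConjClasses.exists_rep C)

theorem isConj_rep {G : Type u} [Group G] (g : G) : IsConj g (rep (ConjClasses.mk g)) :=
  (ConjClasses.mk_eq_mk_iff_isConj.1 (mk_rep (ConjClasses.mk g))).symm

/-- **Summation formula (upper bound).** -/
theorem kc_le_sum {G : Type u} [Group G] [Finite G] {π σ τ : Finset ℕ} {I : Type v} [Fintype I] (f : I → G)
    (hf : ∀ y : G, IsElt σ y → ∃ i, IsConj y (f i))
    (hsplit : ∀ g : G, IsElt π g → ∃ y x : G, y * x = g ∧ Commute y x ∧ IsElt σ y ∧ IsElt τ x) :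
    kc π G ≤ ∑ i, kc τ (Subgroup.centralizer ({f i} : Set G)) := by
  classical
  let T : I → Type u := fun i => {C : ConjClasses (Subgroup.centralizer ({f i} : Set G)) //
    ∃ g : Subgroup.centralizer ({f i} : Set G), ConjClasses.mk g = C ∧ IsElt τ g}
  have hT : ∀ i, kc τ (Subgroup.centralizer ({f i} : Set G)) = Nat.card (T i) := fun i => rfl
  have hex : ∀ C : {C : ConjClasses G // ∃ g : G, ConjClasses.mk g = C ∧ IsElt π g},
      ∃ z : (Σ i, T i), C.1 = ConjClasses.mk (f z.1 * ((rep z.2.1 : Subgroup.centralizer ({f z.1} : Set G)) : G)) := by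
    rintro ⟨_, g, rfl, hg⟩
    obtain ⟨y, x, hyx, hcomm, hy, hx⟩ := hsplit g hg
    obtain ⟨i, hi⟩ := hf y hy
    obtain ⟨c, hc⟩ := isConj_iff.1 hi
    have hxc : c * x * c⁻¹ ∈ Subgroup.centralizer ({f i} : Set G) := by
      rw [Subgroup.mem_centralizer_singleton_iff, ← hc]
      have := hcomm.eq
      calc c * x * c⁻¹ * (c * y * c⁻¹) = c * (x * y) * c⁻¹ := by group
        _ = c * (y * x) * c⁻¹ := by rw [this]
        _ = c * y * c⁻¹ * (c * x * c⁻¹) := by group
    have hxe : IsElt τ (⟨c * x * c⁻¹, hxc⟩ : Subgroup.centralizer ({f i} : Set G)) := by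
      refine hx.of_dvd ?_
      rw [← Subgroup.orderOf_coe]
      simp only
      rw [orderOf_conj]
    refine ⟨⟨i, ⟨ConjClasses.mk ⟨c * x * c⁻¹, hxc⟩, _, rfl, hxe⟩⟩, ?_⟩
    simp only
    rw [ConjClasses.mk_eq_mk_iff_isConj]
    obtain ⟨d, hd⟩ := isConj_iff.1 (isConj_rep (⟨c * x * c⁻¹, hxc⟩ : Subgroup.centralizer ({f i} : Set G)))
    rw [← hd]
    have hdc : (d : G) * f i = f i * d := by
      have := d.2
      rwa [Subgroup.mem_centralizer_singleton_iff] at this
    rw [isConj_iff]
    refine ⟨d * c, ?_⟩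
    push_cast
    rw [← hyx]
    calc (d : G) * c * (y * x) * ((d : G) * c)⁻¹ = d * (c * y * c⁻¹) * (c * x * c⁻¹) * (d : G)⁻¹ := by group
      _ = d * f i * (c * x * c⁻¹) * (d : G)⁻¹ := by rw [hc]
      _ = f i * d * (c * x * c⁻¹) * (d : G)⁻¹ := by rw [hdc]
      _ = f i * (d * (c * x * c⁻¹) * (d : G)⁻¹) := by group
  choose φ hφ using hex
  have hinj : Function.Injective φ := by
    intro C D h
    apply Subtype.ext
    rw [hφ C, hφ D, h]
  calc kc π G ≤ Nat.card (Σ i, T i) := Nat.card_le_card_of_injective φ hinj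
    _ = ∑ i, Nat.card (T i) := Nat.card_sigma
    _ = ∑ i, kc τ (Subgroup.centralizer ({f i} : Set G)) := rfl

theorem split_p {G : Type u} [Group G] [Finite G] {p : ℕ} (hp : p.Prime) {s : Finset ℕ} (g : G)
    (hg : IsElt (insert p s) g) : ∃ y x : G, y * x = g ∧ Commute y x ∧ IsElt s y ∧ IsElt {p} x := by
  obtain ⟨x, y, hxy, hcomm, ⟨k, hk⟩, hy, hxg, hyg⟩ := Cfsg.Agent.S4106.split p hp g
  refine ⟨y, x, ?_, hcomm.symm, ?_, ?_⟩
  · rw [← hcomm.eq, hxy]
  · intro q hq hqd
    rcases Finset.mem_insert.1 (hg q hq (hqd.trans hyg)) with h | h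
    · exact absurd (h ▸ hqd) hy
    · exact h
  · intro q hq hqd
    have : q ∣ p ^ k := hqd.trans hk
    rw [(Nat.prime_dvd_prime_iff_eq hq hp).1 (hq.dvd_of_dvd_pow this)]
    exact Finset.mem_singleton_self _

theorem split_p' {G : Type u} [Group G] [Finite G] {p : ℕ} (hp : p.Prime) {s : Finset ℕ} (g : G)
    (hg : IsElt (insert p s) g) : ∃ y x : G, y * x = g ∧ Commute y x ∧ IsElt {p} y ∧ IsElt s x := by
  obtain ⟨y, x, h1, h2, h3, h4⟩ := split_p hp g hg
  exact ⟨x, y, by rw [← h2.eq, h1], h2.symm, h4, h3⟩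

/-- **Orbit bound.** If every `s`-element is conjugate into `V`, and elements of `V` outside `F` have at least `u`
conjugates in `V`, then `u * kc s H ≤ |V| + (u - 1) |F|`. -/
theorem mul_kc_le {H : Type u} [Group H] [Finite H] {s : Finset ℕ} (V F : Set H) (m : ℕ) (hm : 1 ≤ m)
    (hcov : ∀ g : H, IsElt s g → ∃ v ∈ V, IsConj g v)
    (hu : ∀ v ∈ V, v ∉ F → m ≤ Nat.card {w : H // w ∈ V ∧ IsConj v w}) :
    m * kc s H ≤ Nat.card V + (m - 1) * Nat.card F := by
  classical
  have : Fintype H := Fintype.ofFinite H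
  have : Fintype (ConjClasses H) := Fintype.ofFinite _
  set V' : Finset H := Finset.univ.filter (fun x => x ∈ V) with hV'
  set F' : Finset H := Finset.univ.filter (fun x => x ∈ F) with hF'
  set 𝒞 : Finset (ConjClasses H) := Finset.univ.filter (fun C => ∃ g : H, ConjClasses.mk g = C ∧ IsElt s g) with h𝒞
  have hcardV : Nat.card V = V'.card := by
    rw [hV', ← Fintype.card_subtype, ← Nat.card_eq_fintype_card]
  have hcardF : Nat.card F = F'.card := by
    rw [hF', ← Fintype.card_subtype, ← Nat.card_eq_fintype_card]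
  have hkc : kc s H = 𝒞.card := by
    rw [h𝒞, ← Fintype.card_subtype, ← Nat.card_eq_fintype_card]
    rfl
  have hVsum : V'.card = ∑ C : ConjClasses H, (V'.filter (fun x => ConjClasses.mk x = C)).card :=
    Finset.card_eq_sum_card_fiberwise (f := fun x : H => ConjClasses.mk x) (s := V')
      (t := (Finset.univ : Finset (ConjClasses H))) (fun _ _ => Finset.mem_univ _)
  have hFsum : F'.card = ∑ C : ConjClasses H, (F'.filter (fun x => ConjClasses.mk x = C)).card :=
    Finset.card_eq_sum_card_fiberwise (f := fun x : H => ConjClasses.mk x) (s := F')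
      (t := (Finset.univ : Finset (ConjClasses H))) (fun _ _ => Finset.mem_univ _)
  rw [hcardV, hcardF, hkc, hVsum, hFsum, Finset.mul_sum, ← Finset.sum_add_distrib]
  calc m * 𝒞.card = ∑ C ∈ 𝒞, m := by rw [Finset.sum_const, smul_eq_mul, mul_comm]
    _ ≤ ∑ C ∈ 𝒞, ((V'.filter (fun x => ConjClasses.mk x = C)).card +
          (m - 1) * (F'.filter (fun x => ConjClasses.mk x = C)).card) := by
        apply Finset.sum_le_sum
        intro C hC
        rw [h𝒞, Finset.mem_filter] at hC
        obtain ⟨_, g, rfl, hg⟩ := hC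
        obtain ⟨v, hv, hgv⟩ := hcov g hg
        have hmk : ConjClasses.mk v = ConjClasses.mk g := ConjClasses.mk_eq_mk_iff_isConj.2 hgv.symm
        have hvV : v ∈ V'.filter (fun x => ConjClasses.mk x = ConjClasses.mk g) := by
          rw [hV', Finset.mem_filter, Finset.mem_filter]
          exact ⟨⟨Finset.mem_univ _, hv⟩, hmk⟩
        have h1 : 1 ≤ (V'.filter (fun x => ConjClasses.mk x = ConjClasses.mk g)).card :=
          Finset.card_pos.2 ⟨v, hvV⟩
        by_cases hvF : v ∈ F
        · have hvF' : v ∈ F'.filter (fun x => ConjClasses.mk x = ConjClasses.mk g) := by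
            rw [hF', Finset.mem_filter, Finset.mem_filter]
            exact ⟨⟨Finset.mem_univ _, hvF⟩, hmk⟩
          have h2 : 1 ≤ (F'.filter (fun x => ConjClasses.mk x = ConjClasses.mk g)).card :=
            Finset.card_pos.2 ⟨v, hvF'⟩
          have h3 : (m - 1) * 1 ≤ (m - 1) * (F'.filter (fun x => ConjClasses.mk x = ConjClasses.mk g)).card :=
            Nat.mul_le_mul_left _ h2
          omega
        · have h2 := hu v hv hvF
          have h3 : Nat.card {w : H // w ∈ V ∧ IsConj v w} =
              (V'.filter (fun x => ConjClasses.mk x = ConjClasses.mk g)).card := by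
            rw [hV', Finset.filter_filter, Nat.card_eq_fintype_card, Fintype.card_subtype]
            congr 1
            ext w
            simp only [Finset.mem_filter, Finset.mem_univ, true_and]
            rw [← hmk, ConjClasses.mk_eq_mk_iff_isConj]
            constructor
            · rintro ⟨a, b⟩; exact ⟨a, b.symm⟩
            · rintro ⟨a, b⟩; exact ⟨a, b.symm⟩
          rw [h3] at h2
          exact h2.trans (Nat.le_add_right _ _)
    _ ≤ ∑ C : ConjClasses H, ((V'.filter (fun x => ConjClasses.mk x = C)).card +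
          (m - 1) * (F'.filter (fun x => ConjClasses.mk x = C)).card) :=
        Finset.sum_le_sum_of_subset (Finset.subset_univ _)

/-- The number of classes of `s`-elements is at most the number of classes of a subgroup covering them. -/
theorem kc_le_card_conjClasses {G : Type u} [Group G] [Finite G] {s : Finset ℕ} (A : Subgroup G)
    (hcov : ∀ g : G, IsElt s g → ∃ v ∈ A, IsConj g v) : kc s G ≤ Nat.card (ConjClasses A) := by
  classical
  have hex : ∀ C : {C : ConjClasses G // ∃ g : G, ConjClasses.mk g = C ∧ IsElt s g},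
      ∃ D : ConjClasses A, C.1 = ConjClasses.mk ((rep D : A) : G) := by
    rintro ⟨_, g, rfl, hg⟩
    obtain ⟨v, hv, hgv⟩ := hcov g hg
    refine ⟨ConjClasses.mk ⟨v, hv⟩, ?_⟩
    simp only
    rw [ConjClasses.mk_eq_mk_iff_isConj]
    refine hgv.trans ?_
    obtain ⟨d, hd⟩ := isConj_iff.1 (isConj_rep (⟨v, hv⟩ : A))
    rw [isConj_iff]
    refine ⟨d, ?_⟩
    rw [← hd]
    simp
  choose φ hφ using hex
  have hinj : Function.Injective φ := by
    intro C D h
    apply Subtype.ext
    rw [hφ C, hφ D, h]
  exact Nat.card_le_card_of_injective φ hinj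

end Cfsg.Agent.H518.PiCount
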