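import Mathlib
import Cfsg.Agent.H518.PiCount
import Cfsg.Agent.S0581

/-!
# Nilpotent Hall subgroups and parts of numbers (for S4104, S4105)
-/

set_option autoImplicit false

namespace Cfsg.Agent.H518.PiHall

open Cfsg.Agent.H518.PiCount
open scoped Pointwise

universe u

theorem part_ne_zero {s : Finset ℕ} (hs : ∀ q ∈ s, q.Prime) (n : ℕ) : part s n ≠ 0 := by
  unfold part
  rw [Finset.prod_ne_zero_iff]
  intro q hq
  exact pow_ne_zero _ (hs q hq).ne_zero

theorem factorization_part {s : Finset ℕ} (hs : ∀ q ∈ s, q.Prime) (n q : ℕ) :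
    (part s n).factorization q = if q ∈ s then n.factorization q else 0 := by
  classical
  induction s using Finset.induction_on with
  | empty => simp [part]
  | insert a s ha ih =>
    have hs' : ∀ q ∈ s, q.Prime := fun q hq => hs q (Finset.mem_insert_of_mem hq)
    have hap : a.Prime := hs a (Finset.mem_insert_self _ _)
    have h1 : part (insert a s) n = a ^ n.factorization a * part s n := Finset.prod_insert ha
    rw [h1, Nat.factorization_mul (pow_ne_zero _ hap.ne_zero) (part_ne_zero hs' n), Finsupp.add_apply, ih hs',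
      hap.factorization_pow, Finsupp.single_apply]
    by_cases hqa : q = a
    · subst hqa
      simp [ha]
    · rw [if_neg (fun h => hqa h.symm), zero_add]
      simp [hqa]

theorem part_insert {p : ℕ} {s : Finset ℕ} (hp : p ∉ s) (n : ℕ) :
    part (insert p s) n = p ^ n.factorization p * part s n := Finset.prod_insert hp

theorem part_dvd {s : Finset ℕ} (hs : ∀ q ∈ s, q.Prime) {n : ℕ} (hn : n ≠ 0) : part s n ∣ n := by
  rw [← Nat.factorization_le_iff_dvd (part_ne_zero hs n) hn]
  intro q
  rw [factorization_part hs]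
  split_ifs
  · exact le_rfl
  · exact Nat.zero_le _

theorem mem_of_dvd_part {s : Finset ℕ} (hs : ∀ q ∈ s, q.Prime) {n q : ℕ} (hq : q.Prime) (hqd : q ∣ part s n) :
    q ∈ s := by
  by_contra hqs
  have h := factorization_part hs n q
  rw [if_neg hqs] at h
  have h1 := (hq.dvd_iff_one_le_factorization (part_ne_zero hs n)).1 hqd
  omega

theorem dvd_part {s : Finset ℕ} (hs : ∀ q ∈ s, q.Prime) {n d : ℕ} (hn : n ≠ 0) (hd : d ∣ n)
    (hds : ∀ q : ℕ, q.Prime → q ∣ d → q ∈ s) : d ∣ part s n := by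
  have hd0 : d ≠ 0 := fun h => hn (by rw [h, zero_dvd_iff] at hd; exact hd)
  rw [← Nat.factorization_le_iff_dvd hd0 (part_ne_zero hs n)]
  intro q
  rw [factorization_part hs]
  split_ifs with h
  · exact (Nat.factorization_le_iff_dvd hd0 hn).2 hd q
  · by_cases hq : q.Prime
    · rw [Nat.le_zero]
      exact Nat.factorization_eq_zero_of_not_dvd (fun hqd => h (hds q hq hqd))
    · rw [Nat.factorization_eq_zero_of_not_prime _ hq]

theorem coprime_div_part {s : Finset ℕ} (hs : ∀ q ∈ s, q.Prime) {n m k : ℕ} (hn : n ≠ 0) (hm : m * k = n)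
    (hmp : m = part s n) : m.Coprime k := by
  refine Nat.coprime_of_dvd fun q hq hqm hqk => ?_
  have hqs : q ∈ s := mem_of_dvd_part hs hq (hmp ▸ hqm)
  have hm0 : m ≠ 0 := fun h => hn (by rw [← hm, h, zero_mul])
  have hk0 : k ≠ 0 := fun h => hn (by rw [← hm, h, mul_zero])
  have h1 : n.factorization q = m.factorization q + k.factorization q := by
    rw [← hm, Nat.factorization_mul hm0 hk0, Finsupp.add_apply]
  have h2 : m.factorization q = n.factorization q := by
    rw [hmp, factorization_part hs, if_pos hqs]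
  have h3 := (hq.dvd_iff_one_le_factorization hk0).1 hqk
  omega

theorem part_mono {s : Finset ℕ} (hs : ∀ q ∈ s, q.Prime) {n m : ℕ} (hn : n ≠ 0) (hmn : m ∣ n) :
    part s m ∣ part s n := by
  have hm : m ≠ 0 := fun h => hn (by rw [h, zero_dvd_iff] at hmn; exact hmn)
  exact dvd_part hs hn ((part_dvd hs hm).trans hmn) (fun q hq hqd => mem_of_dvd_part hs hq hqd)

/-- A nilpotent Hall `s`-subgroup. -/
structure NilHall {G : Type u} [Group G] (s : Finset ℕ) (A : Subgroup G) : Prop where
  nil : Group.IsNilpotent A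
  card : Nat.card A = part s (Nat.card G)

namespace NilHall

variable {G : Type u} [Group G] [Finite G] {s : Finset ℕ} {A : Subgroup G}

theorem coprime_index (hs : ∀ q ∈ s, q.Prime) (hA : NilHall s A) : (Nat.card A).Coprime A.index :=
  coprime_div_part hs Nat.card_pos.ne' A.card_mul_index hA.card

theorem exists_conj (hs : ∀ q ∈ s, q.Prime) (hA : NilHall s A) (K : Subgroup G)
    (hK : ∀ q : ℕ, q.Prime → q ∣ Nat.card K → q ∈ s) : ∃ x : G, K ≤ MulAut.conj x • A := by
  refine Cfsg.Agent.S0581.result A K hA.nil (hA.coprime_index hs) ?_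
  intro q hq hqK
  rw [hA.card]
  exact dvd_part hs Nat.card_pos.ne' (hqK.trans (Subgroup.card_subgroup_dvd_card K))
    (fun r hr hrq => by rw [(Nat.prime_dvd_prime_iff_eq hr hq).1 hrq]; exact hK q hq hqK)

omit [Finite G] in
theorem mem_of_dvd (hs : ∀ q ∈ s, q.Prime) (hA : NilHall s A) {q : ℕ} (hq : q.Prime) (hqA : q ∣ Nat.card A) :
    q ∈ s := mem_of_dvd_part hs hq (hA.card ▸ hqA)

theorem conj_smul_eq (hs : ∀ q ∈ s, q.Prime) (hA : NilHall s A) {B : Subgroup G}
    (hB : Nat.card B = Nat.card A) : ∃ x : G, B = MulAut.conj x • A := by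
  obtain ⟨x, hx⟩ := hA.exists_conj hs B (fun q hq hqB => hA.mem_of_dvd hs hq (hB ▸ hqB))
  refine ⟨x, ?_⟩
  apply Subgroup.eq_of_le_of_card_ge hx
  rw [hB]
  have h : Nat.card (MulAut.conj x • A : Subgroup G) = Nat.card A :=
    Nat.card_congr (Subgroup.equivSMul (MulAut.conj x) A).symm.toEquiv
  exact h.le

theorem cov (hs : ∀ q ∈ s, q.Prime) (hA : NilHall s A) (g : G) (hg : IsElt s g) : ∃ v ∈ A, IsConj g v := by
  obtain ⟨x, hx⟩ := hA.exists_conj hs (Subgroup.zpowers g) (fun q hq hqd => by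
    rw [Nat.card_zpowers] at hqd
    exact hg q hq hqd)
  have hgx : g ∈ MulAut.conj x • A := hx (Subgroup.mem_zpowers g)
  rw [Subgroup.mem_pointwise_smul_iff_inv_smul_mem] at hgx
  refine ⟨_, hgx, ?_⟩
  rw [isConj_iff]
  refine ⟨x⁻¹, ?_⟩
  rw [← map_inv, MulAut.smul_def, MulAut.conj_apply]

theorem isElt_of_mem (hs : ∀ q ∈ s, q.Prime) (hA : NilHall s A) {g : G} (hg : g ∈ A) : IsElt s g := by
  intro q hq hqd
  refine hA.mem_of_dvd hs hq (hqd.trans ?_)
  have : orderOf (⟨g, hg⟩ : A) ∣ Nat.card A := orderOf_dvd_natCard _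
  rwa [← Subgroup.orderOf_coe] at this

end NilHall

theorem nilHall_sylow {G : Type u} [Group G] [Finite G] {p : ℕ} [hp : Fact p.Prime] (T : Sylow p G) :
    NilHall {p} (T : Subgroup G) where
  nil := T.isPGroup'.isNilpotent
  card := by
    rw [T.card_eq_multiplicity]
    simp [part]

end Cfsg.Agent.H518.PiHall
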