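import Mathlib
import Cfsg.Agent.H518.PiHall

/-!
# The main counting case (for S4104, S4105)

`G` has a Sylow `p`-subgroup `T` and a nilpotent Hall `s`-subgroup `A` (`p` smaller than the primes in `s`),
neither of which is central in its normalizer, and `C_G(T)` has few classes of `s`-elements. Then
`p * kc (insert p s) G ≤ |T| |A|`.
-/

set_option autoImplicit false

namespace Cfsg.Agent.H518.PiCaseOne

open Cfsg.Agent.H518.PiCount Cfsg.Agent.H518.PiHall
open scoped Pointwise

universe u

/-- index of a proper subgroup. -/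
theorem mul_card_le_of_lt {G : Type u} [Group G] [Finite G] {A B : Subgroup G} (hAB : B < A) {m : ℕ}
    (hm : ∀ q : ℕ, q.Prime → q ∣ Nat.card A → m ≤ q) : m * Nat.card B ≤ Nat.card A := by
  obtain ⟨k, hk⟩ := Subgroup.card_dvd_of_le hAB.le
  have hB : 0 < Nat.card B := Nat.card_pos
  have hA : 0 < Nat.card A := Nat.card_pos
  have hk1 : k ≠ 1 := by
    rintro rfl
    rw [mul_one] at hk
    exact hAB.ne (Subgroup.eq_of_le_of_card_ge hAB.le hk.le)
  obtain ⟨q, hq, hqk⟩ := Nat.exists_prime_and_dvd hk1
  have h1 := hm q hq (hqk.trans ⟨Nat.card B, by rw [hk, mul_comm]⟩)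
  have hk0 : 0 < k := Nat.pos_of_ne_zero (fun h => by rw [h, mul_zero] at hk; omega)
  have h2 : m ≤ k := h1.trans (Nat.le_of_dvd hk0 hqk)
  calc m * Nat.card B ≤ k * Nat.card B := Nat.mul_le_mul_right _ h2
    _ = Nat.card A := by rw [hk, mul_comm]

/-- The orbit bound for a subgroup `N` normalizing `B`. -/
theorem two_mul_kc_le {H : Type u} [Group H] [Finite H] {s : Finset ℕ} (B N : Subgroup H)
    (hN : N ≤ Subgroup.normalizer (B : Set H)) (hcov : ∀ g : H, IsElt s g → ∃ v ∈ B, IsConj g v) :
    2 * kc s H ≤ Nat.card B + Nat.card (B ⊓ Subgroup.centralizer (N : Set H) : Subgroup H) := by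
  have h := mul_kc_le (H := H) (s := s) (B : Set H) ((B ⊓ Subgroup.centralizer (N : Set H) : Subgroup H) : Set H) 2
    (by norm_num) hcov ?_
  · rw [show (2 - 1 : ℕ) = 1 from rfl, one_mul] at h
    exact h
  intro v hv hvF
  have hex : ∃ n ∈ N, n * v * n⁻¹ ≠ v := by
    by_contra hcon
    push Not at hcon
    apply hvF
    refine ⟨hv, ?_⟩
    show v ∈ Subgroup.centralizer (N : Set H)
    rw [Subgroup.mem_centralizer_iff]
    intro n hn
    have := hcon n hn
    rw [mul_inv_eq_iff_eq_mul] at this
    exact this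
  obtain ⟨n, hn, hne⟩ := hex
  have hmem : n * v * n⁻¹ ∈ B := (Subgroup.mem_normalizer_iff.1 (hN hn) v).1 hv
  have hfin : Finite {w : H // w ∈ (B : Set H) ∧ IsConj v w} := inferInstance
  rw [← Nat.card_congr (Equiv.refl {w : H // w ∈ (B : Set H) ∧ IsConj v w})]
  rw [Nat.succ_le_iff, Finite.one_lt_card_iff_nontrivial]
  refine ⟨⟨v, hv, IsConj.refl v⟩, ⟨n * v * n⁻¹, hmem, isConj_iff.2 ⟨n, rfl⟩⟩, ?_⟩
  intro h
  exact hne (congrArg Subtype.val h).symm

/-- The bound for the number of classes of `s`-elements when a nilpotent Hall subgroup is not central in its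
normalizer. -/
theorem kc_le_of_not_central {G : Type u} [Group G] [Finite G] {s : Finset ℕ} (hs : ∀ q ∈ s, q.Prime)
    {m : ℕ} (hm : ∀ q ∈ s, m ≤ q) (A : Subgroup G) (hA : NilHall s A)
    (hAn : ∃ g ∈ Subgroup.normalizer (A : Set G), ∃ a ∈ A, g * a * g⁻¹ ≠ a) :
    2 * m * kc s G ≤ (m + 1) * Nat.card A := by
  have h1 := two_mul_kc_le (s := s) A (Subgroup.normalizer (A : Set G)) le_rfl (hA.cov hs)
  have h2 : A ⊓ Subgroup.centralizer ((Subgroup.normalizer (A : Set G) : Subgroup G) : Set G) < A := by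
    refine lt_of_le_of_ne inf_le_left ?_
    intro h
    obtain ⟨g, hg, a, ha, hne⟩ := hAn
    apply hne
    rw [← h] at ha
    have := Subgroup.mem_centralizer_iff.1 ha.2 g hg
    rw [this]
    group
  have h3 := mul_card_le_of_lt h2 (m := m) (fun q hq hqA => hm q (hA.mem_of_dvd hs hq hqA))
  nlinarith

/-- **Case I.** -/
theorem caseI {G : Type u} [Group G] [Finite G] {p : ℕ} (hp : p.Prime) {s : Finset ℕ} (hs : ∀ q ∈ s, q.Prime)
    (hps : ∀ q ∈ s, p < q) (T A : Subgroup G) (hT : NilHall {p} T) (hA : NilHall s A)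
    (hTn : ∃ g ∈ Subgroup.normalizer (T : Set G), ∃ t ∈ T, g * t * g⁻¹ ≠ t)
    (hAn : ∃ g ∈ Subgroup.normalizer (A : Set G), ∃ a ∈ A, g * a * g⁻¹ ≠ a)
    (hκ : (p + 1) * kc s (Subgroup.centralizer (T : Set G)) ≤ Nat.card A) :
    p * kc (insert p s) G ≤ Nat.card T * Nat.card A := by
  classical
  have hp' : Fact p.Prime := ⟨hp⟩
  have hsp : ∀ q ∈ ({p} : Finset ℕ), q.Prime := by
    intro q hq
    rw [Finset.mem_singleton] at hq
    rw [hq]; exact hp
  -- the classes
  let C : Subgroup G := Subgroup.centralizer (T : Set G)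
  let I : Type u := {Y : ConjClasses G // ∃ g : G, ConjClasses.mk g = Y ∧ IsElt s g}
  let 𝒟 : Type u := {D : ConjClasses C // ∃ g : C, ConjClasses.mk g = D ∧ IsElt s g}
  have hI : Finite I := inferInstance
  have hFI : Fintype I := Fintype.ofFinite I
  have hFD : Finite 𝒟 := inferInstance
  have hcoe : ∀ g : C, IsElt s g → IsElt s (g : G) := fun g hg => hg.of_dvd (by rw [Subgroup.orderOf_coe])
  have hcoe' : ∀ g : C, IsElt s (g : G) → IsElt s g := fun g hg => hg.of_dvd (by rw [← Subgroup.orderOf_coe])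
  let ψ : 𝒟 → I := fun D => ⟨ConjClasses.mk ((rep D.1 : C) : G), (rep D.1 : C), rfl, by
    obtain ⟨D, g, rfl, hg⟩ := D
    exact hcoe _ (hg.of_isConj (isConj_rep g))⟩
  have hψ : ∀ (g : C) (hg : ∃ g' : C, ConjClasses.mk g' = ConjClasses.mk g ∧ IsElt s g'),
      (ψ ⟨ConjClasses.mk g, hg⟩).1 = ConjClasses.mk (g : G) := by
    intro g hg
    show ConjClasses.mk ((rep (ConjClasses.mk g) : C) : G) = ConjClasses.mk (g : G)
    rw [ConjClasses.mk_eq_mk_iff_isConj]
    obtain ⟨c, hc⟩ := isConj_iff.1 (isConj_rep g)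
    refine (isConj_iff.2 ⟨(c : G), ?_⟩ : IsConj (g : G) _).symm
    rw [← hc]
    simp
  let n : I → ℕ := fun Y => Nat.card {D : 𝒟 // ψ D = Y}
  have hnsum : ∑ Y, n Y = kc s C := by
    calc ∑ Y, n Y = Nat.card (Σ Y : I, {D : 𝒟 // ψ D = Y}) := Nat.card_sigma.symm
      _ = Nat.card 𝒟 := Nat.card_congr (Equiv.sigmaFiberEquiv ψ)
      _ = kc s C := rfl
  -- representatives
  let f : I → G := fun Y => if h : ∃ y ∈ C, ConjClasses.mk y = Y.1 then Classical.choose h else rep Y.1
  have hfY : ∀ Y, ConjClasses.mk (f Y) = Y.1 := by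
    intro Y
    by_cases h : ∃ y ∈ C, ConjClasses.mk y = Y.1
    · have : f Y = Classical.choose h := dif_pos h
      rw [this]
      exact (Classical.choose_spec h).2
    · have : f Y = rep Y.1 := dif_neg h
      rw [this]
      exact mk_rep _
  have hfC : ∀ Y, (∃ y ∈ C, ConjClasses.mk y = Y.1) → f Y ∈ C := by
    intro Y h
    have : f Y = Classical.choose h := dif_pos h
    rw [this]
    exact (Classical.choose_spec h).1
  have hfe : ∀ Y, IsElt s (f Y) := by
    rintro ⟨_, g, rfl, hg⟩
    exact hg.of_isConj (ConjClasses.mk_eq_mk_iff_isConj.1 (hfY ⟨ConjClasses.mk g, g, rfl, hg⟩)).symm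
  have hsum : kc (insert p s) G ≤ ∑ Y : I, kc {p} (Subgroup.centralizer ({f Y} : Set G)) := by
    apply kc_le_sum f (σ := s) (τ := {p})
    · intro y hy
      refine ⟨⟨ConjClasses.mk y, y, rfl, hy⟩, ?_⟩
      rw [← ConjClasses.mk_eq_mk_iff_isConj, hfY]
    · intro g hg
      exact split_p hp g hg
  -- the local bound
  have hloc : ∀ Y : I, 2 * p ^ 2 * kc {p} (Subgroup.centralizer ({f Y} : Set G)) ≤
      Nat.card T * (2 * p + (p ^ 2 - 1) * n Y) := by
    intro Y
    have hp2 := hp.two_le
    have hpp : 1 ≤ p ^ 2 := Nat.one_le_pow _ _ hp.pos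
    set y := f Y with hy
    set H := Subgroup.centralizer ({y} : Set G) with hH
    have hk1 : kc {p} H ≤ part {p} (Nat.card H) := kc_le_part {p} hsp
    have hdvd : part {p} (Nat.card H) ∣ Nat.card T := by
      rw [hT.card]
      exact part_mono hsp Nat.card_pos.ne' (Subgroup.card_subgroup_dvd_card H)
    have hTp : ∃ b, Nat.card T = p ^ b := ⟨(Nat.card G).factorization p, by rw [hT.card]; simp [part]⟩
    by_cases heq : part {p} (Nat.card H) = Nat.card T
    · -- good
      have hgood : ∃ y' ∈ C, ConjClasses.mk y' = Y.1 := by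
        obtain ⟨P⟩ : Nonempty (Sylow p H) := inferInstance
        have hP := nilHall_sylow P
        have hPc : Nat.card ((P : Subgroup H).map H.subtype) = Nat.card T := by
          rw [Subgroup.card_map_of_injective H.subtype_injective, hP.card, heq]
        obtain ⟨x, hx⟩ := hT.conj_smul_eq hsp hPc
        refine ⟨x⁻¹ * y * x, ?_, ?_⟩
        · show x⁻¹ * y * x ∈ Subgroup.centralizer (T : Set G)
          rw [Subgroup.mem_centralizer_iff]
          intro t ht
          have h1 : x * t * x⁻¹ ∈ (P : Subgroup H).map H.subtype := by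
            rw [hx]
            exact Subgroup.smul_mem_pointwise_smul t (MulAut.conj x) T ht
          obtain ⟨h, _, hh⟩ := Subgroup.mem_map.1 h1
          have h2 : (h : G) * y = y * h := Subgroup.mem_centralizer_singleton_iff.1 h.2
          have h3 : (h : G) = x * t * x⁻¹ := hh
          rw [h3] at h2
          calc t * (x⁻¹ * y * x) = x⁻¹ * (x * t * x⁻¹ * y) * x := by group
            _ = x⁻¹ * (y * (x * t * x⁻¹)) * x := by rw [h2]
            _ = x⁻¹ * y * x * t := by group
        · rw [← hfY Y, ConjClasses.mk_eq_mk_iff_isConj, isConj_iff]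
          exact ⟨x, by rw [← hy]; group⟩
      have hyC : y ∈ C := hfC Y hgood
      have hyY : ConjClasses.mk y = Y.1 := hfY Y
      have hyE : IsElt s (⟨y, hyC⟩ : C) := hcoe' _ (hfe Y)
      have hD1 : ψ ⟨ConjClasses.mk (⟨y, hyC⟩ : C), _, rfl, hyE⟩ = Y := by
        apply Subtype.ext
        rw [hψ]
        exact hyY
      have hn1 : 1 ≤ n Y := by
        show 0 < Nat.card {D : 𝒟 // ψ D = Y}
        have : Nonempty {D : 𝒟 // ψ D = Y} := ⟨⟨_, hD1⟩⟩
        exact Nat.card_pos
      by_cases hn2 : 2 ≤ n Y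
      · have h1 : kc {p} H ≤ Nat.card T := hk1.trans heq.le
        have h2 : (p ^ 2 - 1) * 2 ≤ (p ^ 2 - 1) * n Y := Nat.mul_le_mul_left _ hn2
        have h3 : 2 * p ^ 2 ≤ 2 * p + (p ^ 2 - 1) * n Y := by omega
        calc 2 * p ^ 2 * kc {p} H ≤ 2 * p ^ 2 * Nat.card T := Nat.mul_le_mul_left _ h1
          _ = Nat.card T * (2 * p ^ 2) := mul_comm _ _
          _ ≤ _ := Nat.mul_le_mul_left _ h3
      · have hn : n Y = 1 := by omega
        have hsub : Subsingleton {D : 𝒟 // ψ D = Y} := (Nat.card_eq_one_iff_unique.1 hn).1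
        have hTH : T ≤ H := by
          intro t ht
          rw [hH, Subgroup.mem_centralizer_singleton_iff]
          exact Subgroup.mem_centralizer_iff.1 hyC t ht
        set B : Subgroup H := T.subgroupOf H with hB
        set N : Subgroup H := (Subgroup.normalizer (T : Set G)).subgroupOf H with hN
        have hBc : Nat.card B = Nat.card T :=
          Nat.card_congr (Subgroup.subgroupOfEquivOfLe hTH).toEquiv
        have hTn' : Group.IsNilpotent T := hT.nil
        have hBH : NilHall {p} B := by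
          refine ⟨?_, by rw [hBc, heq]⟩
          exact Group.nilpotent_of_surjective (Subgroup.subgroupOfEquivOfLe hTH).symm.toMonoidHom
            (Subgroup.subgroupOfEquivOfLe hTH).symm.surjective
        have hNB : N ≤ Subgroup.normalizer (B : Set H) := by
          intro h hh
          rw [Subgroup.mem_normalizer_iff]
          intro t
          rw [hB, Subgroup.mem_subgroupOf, Subgroup.mem_subgroupOf]
          rw [hN, Subgroup.mem_subgroupOf, Subgroup.mem_normalizer_iff] at hh
          have := hh (t : G)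
          push_cast
          exact this
        have h1 := two_mul_kc_le (s := {p}) B N hNB (hBH.cov hsp)
        have h2 : B ⊓ Subgroup.centralizer (N : Set H) < B := by
          refine lt_of_le_of_ne inf_le_left ?_
          intro h
          obtain ⟨g, hg, t, ht, hne⟩ := hTn
          -- move g into the centralizer of y
          have hgy : g * y * g⁻¹ ∈ C := by
            show g * y * g⁻¹ ∈ Subgroup.centralizer (T : Set G)
            rw [Subgroup.mem_centralizer_iff]
            intro t' ht'
            have hg' : g⁻¹ ∈ Subgroup.normalizer (T : Set G) := inv_mem hg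
            have ht'' := (Subgroup.mem_normalizer_iff.1 hg' t').1 ht'
            rw [inv_inv] at ht''
            have h5 := Subgroup.mem_centralizer_iff.1 hyC _ ht''
            calc t' * (g * y * g⁻¹) = g * (g⁻¹ * t' * g * y) * g⁻¹ := by group
              _ = g * (y * (g⁻¹ * t' * g)) * g⁻¹ := by rw [h5]
              _ = g * y * g⁻¹ * t' := by group
          have hyE2 : IsElt s (⟨g * y * g⁻¹, hgy⟩ : C) := by
            apply hcoe'
            exact (hfe Y).of_isConj (isConj_iff.2 ⟨g, rfl⟩)
          have hD2 : ψ ⟨ConjClasses.mk (⟨g * y * g⁻¹, hgy⟩ : C), _, rfl, hyE2⟩ = Y := by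
            apply Subtype.ext
            rw [hψ, ← hyY, ConjClasses.mk_eq_mk_iff_isConj]
            exact (isConj_iff.2 ⟨g, rfl⟩).symm
          have h6 := congrArg (fun D => D.1.1) (hsub.elim ⟨_, hD1⟩ ⟨_, hD2⟩)
          simp only at h6
          obtain ⟨c, hc⟩ := isConj_iff.1 (ConjClasses.mk_eq_mk_iff_isConj.1 h6)
          have hc' : (c : G) * y * (c : G)⁻¹ = g * y * g⁻¹ := by
            have := congrArg Subtype.val hc
            simpa using this
          have hcT := Subgroup.mem_centralizer_iff.1 c.2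
          have hcN : (c : G) ∈ Subgroup.normalizer (T : Set G) := by
            rw [Subgroup.mem_normalizer_iff]
            intro h
            constructor
            · intro hh
              have := hcT h hh
              rw [← this, mul_assoc, mul_inv_cancel, mul_one]
              exact hh
            · intro hh
              have := hcT _ hh
              have h7 : (c : G) * h * (c : G)⁻¹ = h := by
                have h8 : (c : G) * h * (c : G)⁻¹ * c = c * (c * h * (c : G)⁻¹) := this
                have h9 : (c : G) * h = c * (c * h * (c : G)⁻¹) := by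
                  rw [← h8]; group
                exact (mul_left_cancel h9).symm
              rw [← h7]; exact hh
          have hz : (c : G)⁻¹ * g ∈ H := by
            rw [hH, Subgroup.mem_centralizer_singleton_iff]
            calc (c : G)⁻¹ * g * y = (c : G)⁻¹ * (g * y * g⁻¹) * g := by group
              _ = (c : G)⁻¹ * ((c : G) * y * (c : G)⁻¹) * g := by rw [hc']
              _ = y * ((c : G)⁻¹ * g) := by group
          have hzN : (⟨(c : G)⁻¹ * g, hz⟩ : H) ∈ N := by
            rw [hN, Subgroup.mem_subgroupOf]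
            exact mul_mem (inv_mem hcN) hg
          have htB : (⟨t, hTH ht⟩ : H) ∈ B ⊓ Subgroup.centralizer (N : Set H) := by
            rw [h, hB, Subgroup.mem_subgroupOf]
            exact ht
          have h10 := Subgroup.mem_centralizer_iff.1 htB.2 _ hzN
          have h11 : (c : G)⁻¹ * g * t = t * ((c : G)⁻¹ * g) := by
            have := congrArg Subtype.val h10
            simpa using this
          apply hne
          have h12 : g * t * g⁻¹ ∈ T := (Subgroup.mem_normalizer_iff.1 hg t).1 ht
          have h13 : g * t * g⁻¹ * c = c * (g * t * g⁻¹) := hcT _ h12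
          have h14 : g * t = c * t * ((c : G)⁻¹ * g) := by
            rw [mul_assoc, ← h11]; group
          have h15 : (c : G) * t = t * c := (hcT t ht).symm
          calc g * t * g⁻¹ = c * t * ((c : G)⁻¹ * g) * g⁻¹ := by rw [h14]
            _ = c * t * (c : G)⁻¹ := by group
            _ = t := by rw [h15]; group
        have h3 := mul_card_le_of_lt h2 (m := p) (fun q hq hqA => by
          have := hBH.mem_of_dvd hsp hq hqA
          rw [Finset.mem_singleton] at this
          exact this.ge)
        rw [hBc] at h1 h3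
        rw [hn, mul_one]
        have h4 : 2 * p * kc {p} H ≤ (p + 1) * Nat.card T := by nlinarith
        have h5 : p * (p + 1) ≤ 2 * p + (p ^ 2 - 1) := by
          zify [hpp]; nlinarith
        calc 2 * p ^ 2 * kc {p} H = p * (2 * p * kc {p} H) := by ring
          _ ≤ p * ((p + 1) * Nat.card T) := Nat.mul_le_mul_left _ h4
          _ = Nat.card T * (p * (p + 1)) := by ring
          _ ≤ _ := Nat.mul_le_mul_left _ h5
    · -- bad
      have h1 : p * part {p} (Nat.card H) ≤ Nat.card T := by
        obtain ⟨k, hk⟩ := hdvd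
        have hk1' : k ≠ 1 := fun h => heq (by rw [hk, h, mul_one])
        obtain ⟨b, hb⟩ := hTp
        obtain ⟨q, hq, hqk⟩ := Nat.exists_prime_and_dvd hk1'
        have hqp : q ∣ p ^ b := by
          rw [← hb, hk]; exact Dvd.dvd.mul_left hqk _
        have hqp' : q = p := (Nat.prime_dvd_prime_iff_eq hq hp).1 (hq.dvd_of_dvd_pow hqp)
        have hT0 : 0 < Nat.card T := Nat.card_pos
        have hk0 : 0 < k := Nat.pos_of_ne_zero (fun h => by rw [h, mul_zero] at hk; omega)
        have : p ≤ k := hqp' ▸ Nat.le_of_dvd hk0 hqk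
        calc p * part {p} (Nat.card H) ≤ k * part {p} (Nat.card H) := Nat.mul_le_mul_right _ this
          _ = Nat.card T := by rw [hk, mul_comm]
      calc 2 * p ^ 2 * kc {p} H ≤ 2 * p ^ 2 * part {p} (Nat.card H) := Nat.mul_le_mul_left _ hk1
        _ = 2 * p * (p * part {p} (Nat.card H)) := by ring
        _ ≤ 2 * p * Nat.card T := Nat.mul_le_mul_left _ h1
        _ = Nat.card T * (2 * p) := by ring
        _ ≤ _ := Nat.mul_le_mul_left _ (Nat.le_add_right _ _)
  -- sum up
  have hkG : 2 * (p + 1) * kc s G ≤ (p + 1 + 1) * Nat.card A :=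
    kc_le_of_not_central hs (m := p + 1) (fun q hq => hps q hq) A hA hAn
  have hcardI : Fintype.card I = kc s G := by
    rw [← Nat.card_eq_fintype_card]; rfl
  have htot : 2 * p ^ 2 * kc (insert p s) G ≤ Nat.card T * (2 * p * kc s G + (p ^ 2 - 1) * kc s C) := by
    calc 2 * p ^ 2 * kc (insert p s) G ≤ 2 * p ^ 2 * ∑ Y : I, kc {p} (Subgroup.centralizer ({f Y} : Set G)) :=
          Nat.mul_le_mul_left _ hsum
      _ = ∑ Y : I, 2 * p ^ 2 * kc {p} (Subgroup.centralizer ({f Y} : Set G)) := Finset.mul_sum _ _ _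
      _ ≤ ∑ Y : I, Nat.card T * (2 * p + (p ^ 2 - 1) * n Y) := Finset.sum_le_sum (fun Y _ => hloc Y)
      _ = Nat.card T * (2 * p * kc s G + (p ^ 2 - 1) * kc s C) := by
          have h1 : ∑ Y : I, (2 * p + (p ^ 2 - 1) * n Y) = 2 * p * kc s G + (p ^ 2 - 1) * kc s C := by
            rw [Finset.sum_add_distrib, ← Finset.mul_sum Finset.univ n (p ^ 2 - 1), hnsum, Finset.sum_const,
              Finset.card_univ, hcardI, smul_eq_mul]
            ring
          rw [← Finset.mul_sum, h1]
  have hpp : 1 ≤ p ^ 2 := Nat.one_le_pow _ _ hp.pos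
  have hp0 : 0 < p := hp.pos
  obtain ⟨w, hw⟩ : ∃ w, p ^ 2 = w + 1 := ⟨p ^ 2 - 1, by omega⟩
  have hw1 : p ^ 2 - 1 = w := by omega
  rw [hw1] at htot
  have hκ' : (p + 1) * kc s C ≤ Nat.card A := hκ
  set a := kc s G with ha
  set b := kc s C with hb
  set K := kc (insert p s) G with hK
  set t := Nat.card T with ht
  set α := Nat.card A with hα
  -- 2 p^2 K ≤ t (2 p a + w b), 2 (p+1) a ≤ (p+2) α, (p+1) b ≤ α
  have h1 : (p + 1) * (2 * p * a + w * b) ≤ p * ((p + 1 + 1) * α) + w * α := by
    calc (p + 1) * (2 * p * a + w * b) = p * (2 * (p + 1) * a) + w * ((p + 1) * b) := by ring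
      _ ≤ p * ((p + 1 + 1) * α) + w * α := Nat.add_le_add (Nat.mul_le_mul_left _ hkG) (Nat.mul_le_mul_left _ hκ')
  have h2 : p * ((p + 1 + 1) * α) + w * α ≤ 2 * p * (p + 1) * α := by
    have : p * (p + 1 + 1) + w ≤ 2 * p * (p + 1) := by nlinarith
    calc p * ((p + 1 + 1) * α) + w * α = (p * (p + 1 + 1) + w) * α := by ring
      _ ≤ (2 * p * (p + 1)) * α := Nat.mul_le_mul_right _ this
  have h3 : (2 * p * (p + 1)) * (p * K) ≤ (2 * p * (p + 1)) * (t * α) := by
    calc (2 * p * (p + 1)) * (p * K) = (p + 1) * (2 * p ^ 2 * K) := by ring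
      _ ≤ (p + 1) * (t * (2 * p * a + w * b)) := Nat.mul_le_mul_left _ htot
      _ = t * ((p + 1) * (2 * p * a + w * b)) := by ring
      _ ≤ t * (2 * p * (p + 1) * α) := Nat.mul_le_mul_left _ (h1.trans h2)
      _ = (2 * p * (p + 1)) * (t * α) := by ring
  exact Nat.le_of_mul_le_mul_left h3 (by positivity)

end Cfsg.Agent.H518.PiCaseOne
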