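import Mathlib
import Cfsg.Agent.H518.PiCaseOne
import Cfsg.Agent.S0079
import Cfsg.Agent.S0023
import Cfsg.Agent.S0024
import Cfsg.Agent.S0025

/-!
# The normal complement case (for S4104, S4105)

`G = M B` with `B` an abelian Hall `σ`-subgroup and `M` a normal complement, `H ≤ M` a nilpotent Hall
`τ`-subgroup normalized but not centralized by `B`. Then `m * k(G) ≤ |B| |H|` for the classes of
`σ ∪ τ`-elements, `m` a lower bound of `σ`.
-/

set_option autoImplicit false

namespace Cfsg.Agent.H518.PiCaseTwo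

open Cfsg.Agent.H518.PiCount Cfsg.Agent.H518.PiHall Cfsg.Agent.H518.PiCaseOne
open scoped Pointwise

universe u

/-- the `K`-class of `x` -/
def cls {G : Type u} [Group G] (K : Subgroup G) (x : G) : Set G := {y | ∃ k ∈ K, k * x * k⁻¹ = y}

theorem card_cls_mul {G : Type u} [Group G] [Finite G] (K : Subgroup G) (x : G) :
    Nat.card (cls K x) * Nat.card (K ⊓ Subgroup.centralizer ({x} : Set G) : Subgroup G) = Nat.card K := by
  let act : MulAction K G := MulAction.compHom G ((MulAut.conj : G →* MulAut G).comp K.subtype)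
  have hsmul : ∀ (k : K) (y : G), @HSMul.hSMul K G G (@instHSMul K G act.toSMul) k y = k * y * (k : G)⁻¹ :=
    fun k y => rfl
  have h1 : Nat.card (@MulAction.orbit K G act.toSMul x) = (@MulAction.stabilizer K G _ act x).index := by
    rw [@MulAction.index_stabilizer K G _ act x, Nat.card_coe_set_eq]
  have h2 : @MulAction.orbit K G act.toSMul x = cls K x := by
    ext y
    constructor
    · rintro ⟨k, hk⟩
      exact ⟨k, k.2, hk⟩
    · rintro ⟨k, hk, hy⟩
      exact ⟨⟨k, hk⟩, hy⟩
  have h3 : Nat.card (@MulAction.stabilizer K G _ act x) =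
      Nat.card (K ⊓ Subgroup.centralizer ({x} : Set G) : Subgroup G) := by
    have h4 : @MulAction.stabilizer K G _ act x =
        (K ⊓ Subgroup.centralizer ({x} : Set G) : Subgroup G).subgroupOf K := by
      ext k
      rw [@MulAction.mem_stabilizer_iff K G _ act, Subgroup.mem_subgroupOf, Subgroup.mem_inf,
        Subgroup.mem_centralizer_singleton_iff, hsmul, mul_inv_eq_iff_eq_mul]
      exact ⟨fun h => ⟨k.2, h⟩, fun h => h.2⟩
    rw [h4]
    exact Nat.card_congr (Subgroup.subgroupOfEquivOfLe inf_le_left).toEquiv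
  rw [← h2, h1, ← h3, mul_comm]
  exact Subgroup.card_mul_index _

/-- A coprime automorphism `b` acting nontrivially on `H` has small centralizer. -/
theorem mul_card_centralizer_le {G : Type u} [Group G] [Finite G] (H : Subgroup G) (b : G)
    (hbH : b ∈ Subgroup.normalizer (H : Set G)) (hcop : (orderOf b).Coprime (Nat.card H))
    (hne : ∃ h ∈ H, h * b ≠ b * h) {m : ℕ} (hm : ∀ q : ℕ, q.Prime → q ∣ orderOf b → m ≤ q) :
    (m + 1) * Nat.card (H ⊓ Subgroup.centralizer ({b} : Set G) : Subgroup G) ≤ Nat.card H := by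
  have h1 := card_cls_mul H b
  rw [← h1]
  apply Nat.mul_le_mul_right
  obtain ⟨h, hh, hhb⟩ := hne
  set x := h * b * h⁻¹ with hx
  have hxb : x ≠ b := by
    intro h2
    apply hhb
    rw [hx, mul_inv_eq_iff_eq_mul] at h2
    exact h2
  have hxc : x ∈ cls H b := ⟨h, hh, rfl⟩
  have hbc : b ∈ cls H b := ⟨1, one_mem H, by simp⟩
  have hfin : Finite (cls H b) := inferInstance
  -- commuting elements of the class
  have hcomm : ∀ y ∈ cls H b, y * b = b * y → y = b := by
    rintro _ ⟨k, hk, rfl⟩ hc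
    have hbk : b⁻¹ * (k * b * k⁻¹) ∈ H := by
      have h5 : b⁻¹ * k * b ∈ H := by
        have := (Subgroup.mem_normalizer_iff.1 (inv_mem hbH) k).1 hk
        rwa [inv_inv] at this
      have h6 : b⁻¹ * (k * b * k⁻¹) = (b⁻¹ * k * b) * k⁻¹ := by group
      rw [h6]
      exact mul_mem h5 (inv_mem hk)
    have hC : Commute b⁻¹ (k * b * k⁻¹) := by
      have : Commute (k * b * k⁻¹) b := hc
      exact this.symm.inv_left
    have hpow : (b⁻¹ * (k * b * k⁻¹)) ^ orderOf b = 1 := by
      rw [hC.mul_pow, inv_pow, pow_orderOf_eq_one, inv_one, one_mul]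
      have : orderOf (k * b * k⁻¹) = orderOf b := orderOf_conj k b
      rw [← this, pow_orderOf_eq_one]
    have hord1 : orderOf (b⁻¹ * (k * b * k⁻¹)) ∣ orderOf b := orderOf_dvd_of_pow_eq_one hpow
    have hord2 : orderOf (b⁻¹ * (k * b * k⁻¹)) ∣ Nat.card H := by
      have := orderOf_dvd_natCard (⟨_, hbk⟩ : H)
      rwa [← Subgroup.orderOf_coe] at this
    have hord : orderOf (b⁻¹ * (k * b * k⁻¹)) = 1 := Nat.eq_one_of_dvd_coprimes hcop hord1 hord2
    rw [orderOf_eq_one_iff] at hord
    exact (inv_mul_eq_one.1 hord).symm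
  -- the orbit of x under b
  have h2 := card_cls_mul (Subgroup.zpowers b) x
  have h3 : cls (Subgroup.zpowers b) x ⊆ cls H b \ {b} := by
    rintro _ ⟨k, hk, rfl⟩
    have hkb : k * b = b * k := by
      obtain ⟨i, rfl⟩ := Subgroup.mem_zpowers_iff.1 hk
      exact ((Commute.refl b).zpow_left i)
    have hkN : k ∈ Subgroup.normalizer (H : Set G) := by
      obtain ⟨i, rfl⟩ := Subgroup.mem_zpowers_iff.1 hk
      exact zpow_mem hbH i
    refine ⟨⟨k * h * k⁻¹, (Subgroup.mem_normalizer_iff.1 hkN h).1 hh, ?_⟩, ?_⟩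
    · have hkb' : k⁻¹ * b * k = b := by
        rw [mul_assoc, ← hkb]; group
      calc k * h * k⁻¹ * b * (k * h * k⁻¹)⁻¹ = k * h * (k⁻¹ * b * k) * h⁻¹ * k⁻¹ := by group
        _ = k * h * b * h⁻¹ * k⁻¹ := by rw [hkb']
        _ = k * x * k⁻¹ := by rw [hx]; group
    · intro h7
      rw [Set.mem_singleton_iff] at h7
      apply hxb
      have : x = k⁻¹ * b * k := by rw [← h7]; group
      rw [this, mul_assoc, ← hkb]; group
  have h4 : m ≤ Nat.card (cls (Subgroup.zpowers b) x) := by
    have hne1 : Nat.card (cls (Subgroup.zpowers b) x) ≠ 1 := by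
      intro h5
      have hsub : Subsingleton (cls (Subgroup.zpowers b) x) := (Nat.card_eq_one_iff_unique.1 h5).1
      have e1 : x ∈ cls (Subgroup.zpowers b) x := ⟨1, one_mem _, by simp⟩
      have e2 : b * x * b⁻¹ ∈ cls (Subgroup.zpowers b) x := ⟨b, Subgroup.mem_zpowers b, rfl⟩
      have e3 : b * x * b⁻¹ = x := congrArg Subtype.val (hsub.elim (⟨_, e2⟩ : cls (Subgroup.zpowers b) x) ⟨_, e1⟩)
      apply hxb
      apply hcomm x hxc
      rw [mul_inv_eq_iff_eq_mul] at e3
      exact e3.symm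
    obtain ⟨q, hq, hqd⟩ := Nat.exists_prime_and_dvd hne1
    have h6 : q ∣ orderOf b := by
      rw [← Nat.card_zpowers]
      exact hqd.trans ⟨_, h2.symm⟩
    have hpos : 0 < Nat.card (cls (Subgroup.zpowers b) x) := by
      rcases Nat.eq_zero_or_pos (Nat.card (cls (Subgroup.zpowers b) x)) with h0 | h0
      · rw [h0, zero_mul] at h2
        exact absurd h2.symm Nat.card_pos.ne'
      · exact h0
    exact (hm q hq h6).trans (Nat.le_of_dvd hpos hqd)
  have h5 : Nat.card (cls (Subgroup.zpowers b) x) + 1 ≤ Nat.card (cls H b) := by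
    rw [Nat.card_coe_set_eq, Nat.card_coe_set_eq]
    have e1 : (cls H b \ {b}).ncard + 1 = (cls H b).ncard := Set.ncard_sdiff_singleton_add_one hbc
    rw [← e1]
    exact Nat.add_le_add_right (Set.ncard_le_ncard h3) 1
  omega

/-- A nilpotent Hall subgroup central in its normalizer has a normal complement. -/
theorem exists_normal_compl {G : Type u} [Group G] [Finite G] {s : Finset ℕ} (hs : ∀ q ∈ s, q.Prime)
    (A : Subgroup G) (hA : NilHall s A)
    (hc : ∀ g ∈ Subgroup.normalizer (A : Set G), ∀ a ∈ A, g * a * g⁻¹ = a) :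
    ∃ M : Subgroup G, M.Normal ∧ M.IsComplement' A := by
  refine (Cfsg.Agent.S0079.result A hA.nil (hA.coprime_index hs)).2 ?_
  rintro x hx _ hy ⟨g, rfl⟩
  have hab : ∀ a ∈ A, ∀ b ∈ A, a * b * a⁻¹ = b := fun a ha b hb => hc a (Subgroup.le_normalizer ha) b hb
  refine ⟨1, one_mem _, ?_⟩
  set y := g * x * g⁻¹ with hydef
  set C := Subgroup.centralizer ({y} : Set G) with hC
  have hAC : A ≤ C := by
    intro a ha
    rw [hC, Subgroup.mem_centralizer_singleton_iff]
    have := hab a ha y hy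
    rwa [mul_inv_eq_iff_eq_mul] at this
  have hgA : MulAut.conj g • A ≤ C := by
    intro z hz
    rw [Subgroup.mem_pointwise_smul_iff_inv_smul_mem, ← map_inv, MulAut.smul_def, MulAut.conj_apply, inv_inv] at hz
    rw [hC, Subgroup.mem_centralizer_singleton_iff]
    have := hab _ hz x hx
    rw [mul_inv_eq_iff_eq_mul] at this
    calc z * y = g * (g⁻¹ * z * g * x) * g⁻¹ := by rw [hydef]; group
      _ = g * (x * (g⁻¹ * z * g)) * g⁻¹ := by rw [this]
      _ = y * z := by rw [hydef]; group
  -- A is nilpotent Hall in C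
  have hAc : Nat.card (A.subgroupOf C) = Nat.card A := Nat.card_congr (Subgroup.subgroupOfEquivOfLe hAC).toEquiv
  have hAn : Group.IsNilpotent A := hA.nil
  have hcop : (Nat.card (A.subgroupOf C)).Coprime (A.subgroupOf C).index := by
    have h1 := hA.coprime_index hs
    rw [hAc]
    have h2 : (A.subgroupOf C).index ∣ A.index := by
      have : A.relIndex C ∣ A.index := Subgroup.relIndex_dvd_index_of_le hAC |> fun h => h
      exact this
    exact Nat.Coprime.coprime_dvd_right h2 h1
  have hnil : Group.IsNilpotent (A.subgroupOf C) :=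
    Group.nilpotent_of_surjective (Subgroup.subgroupOfEquivOfLe hAC).symm.toMonoidHom
      (Subgroup.subgroupOfEquivOfLe hAC).symm.surjective
  have hcard : Nat.card (MulAut.conj g • A : Subgroup G) = Nat.card A :=
    Nat.card_congr (Subgroup.equivSMul (MulAut.conj g) A).symm.toEquiv
  have hKc : Nat.card ((MulAut.conj g • A : Subgroup G).subgroupOf C) = Nat.card A := by
    rw [Nat.card_congr (Subgroup.subgroupOfEquivOfLe hgA).toEquiv, hcard]
  obtain ⟨c, hcc⟩ := Cfsg.Agent.S0581.result (A.subgroupOf C) ((MulAut.conj g • A : Subgroup G).subgroupOf C) hnil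
    hcop (fun p _ hpd => by rw [hAc]; rw [hKc] at hpd; exact hpd)
  -- (c⁻¹ g) normalizes A
  have hcg : ∀ a ∈ A, ((c : G)⁻¹ * g) * a * ((c : G)⁻¹ * g)⁻¹ ∈ A := by
    intro a ha
    have h1 : g * a * g⁻¹ ∈ (MulAut.conj g • A : Subgroup G) :=
      Subgroup.smul_mem_pointwise_smul a (MulAut.conj g) A ha
    have h2 : (⟨g * a * g⁻¹, hgA h1⟩ : C) ∈ (MulAut.conj g • A : Subgroup G).subgroupOf C := by
      rw [Subgroup.mem_subgroupOf]; exact h1
    have h3 := hcc h2
    rw [Subgroup.mem_pointwise_smul_iff_inv_smul_mem, ← map_inv, MulAut.smul_def, MulAut.conj_apply,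
      Subgroup.mem_subgroupOf] at h3
    have h4 : ((c : G)⁻¹ * g) * a * ((c : G)⁻¹ * g)⁻¹ = (c : G)⁻¹ * (g * a * g⁻¹) * c := by group
    rw [h4]
    simpa using h3
  have hN : (c : G)⁻¹ * g ∈ Subgroup.normalizer (A : Set G) := by
    rw [Subgroup.mem_normalizer_iff]
    intro h
    refine ⟨hcg h, fun hh => ?_⟩
    have hmap : (A.map (MulAut.conj ((c : G)⁻¹ * g)).toMonoidHom) = A := by
      apply Subgroup.eq_of_le_of_card_ge
      · rintro _ ⟨a, ha, rfl⟩
        exact hcg a ha
      · rw [Subgroup.card_map_of_injective (MulAut.conj ((c : G)⁻¹ * g)).injective]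
    rw [← hmap] at hh
    obtain ⟨a, ha, hae⟩ := Subgroup.mem_map.1 hh
    have : a = h := (MulAut.conj ((c : G)⁻¹ * g)).injective hae
    rwa [← this]
  have h5 := hc _ hN x hx
  have h6 : (c : G)⁻¹ * y * c = x := by
    rw [← h5, hydef]; group
  have h7 : (c : G) * y = y * c := Subgroup.mem_centralizer_singleton_iff.1 c.2
  rw [one_mul, inv_one, mul_one]
  calc x = (c : G)⁻¹ * y * c := h6.symm
    _ = (c : G)⁻¹ * (y * c) := by group
    _ = (c : G)⁻¹ * (c * y) := by rw [h7]
    _ = y := by group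

end Cfsg.Agent.H518.PiCaseTwo
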