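import Mathlib
import Cfsg.Agent.H518.PiCaseTwo

/-!
# The normal complement case, second part (for S4104, S4105)
-/

set_option autoImplicit false

namespace Cfsg.Agent.H518.PiSD

open Cfsg.Agent.H518.PiCount Cfsg.Agent.H518.PiHall Cfsg.Agent.H518.PiCaseOne Cfsg.Agent.H518.PiCaseTwo
open scoped Pointwise

universe u

theorem isNilpotent_of_le {G : Type u} [Group G] {A B : Subgroup G} (h : A ≤ B) (hB : Group.IsNilpotent B) :
    Group.IsNilpotent A :=
  Group.nilpotent_of_surjective (Subgroup.subgroupOfEquivOfLe h).toMonoidHom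
    (Subgroup.subgroupOfEquivOfLe h).surjective

theorem isNilpotent_subgroupOf {G : Type u} [Group G] {A B : Subgroup G} (h : A ≤ B) (hA : Group.IsNilpotent A) :
    Group.IsNilpotent (A.subgroupOf B) :=
  Group.nilpotent_of_surjective (Subgroup.subgroupOfEquivOfLe h).symm.toMonoidHom
    (Subgroup.subgroupOfEquivOfLe h).symm.surjective

/-- elements of order coprime to the index of a normal subgroup lie in it. -/
theorem mem_of_coprime_index {G : Type u} [Group G] (M : Subgroup G) [M.Normal] (z : G)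
    (h : (orderOf z).Coprime M.index) : z ∈ M := by
  have h1 : orderOf (z : G ⧸ M) ∣ orderOf z := orderOf_map_dvd (QuotientGroup.mk' M) z
  have h2 : orderOf (z : G ⧸ M) ∣ M.index := orderOf_dvd_natCard _
  have h3 := Nat.eq_one_of_dvd_coprimes h h1 h2
  rw [orderOf_eq_one_iff] at h3
  exact (QuotientGroup.eq_one_iff z).1 h3

/-- the fixed points of `b` in a `b`-invariant nilpotent Hall subgroup of `M` form a Hall subgroup of `C_M(b)`. -/
theorem nilHall_fixed {G : Type u} [Group G] [Finite G] {τ : Finset ℕ} (hτ : ∀ q ∈ τ, q.Prime)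
    (M H : Subgroup G) [hM : M.Normal] (hHM : H ≤ M) (hH : NilHall τ H) (b : G)
    (hbH : b ∈ Subgroup.normalizer (H : Set G)) (hcop : (orderOf b).Coprime (Nat.card M)) :
    NilHall τ ((H ⊓ Subgroup.centralizer ({b} : Set G) : Subgroup G).subgroupOf
      (M ⊓ Subgroup.centralizer ({b} : Set G))) := by
  classical
  set Z := Subgroup.centralizer ({b} : Set G) with hZ
  set D := H ⊓ Z with hD
  set L := M ⊓ Z with hL
  have hDL : D ≤ L := inf_le_inf_right _ hHM
  have hDc : Nat.card (D.subgroupOf L) = Nat.card D := Nat.card_congr (Subgroup.subgroupOfEquivOfLe hDL).toEquiv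
  refine ⟨isNilpotent_subgroupOf hDL (isNilpotent_of_le inf_le_left hH.nil), ?_⟩
  rw [hDc]
  apply Nat.dvd_antisymm
  · refine dvd_part hτ Nat.card_pos.ne' (Subgroup.card_dvd_of_le hDL) ?_
    intro q hq hqd
    exact hH.mem_of_dvd hτ hq (hqd.trans (Subgroup.card_dvd_of_le inf_le_left))
  · rw [← Nat.factorization_le_iff_dvd (part_ne_zero hτ _) Nat.card_pos.ne']
    intro q
    rw [factorization_part hτ]
    split_ifs with hq
    swap
    · exact Nat.zero_le _
    have hqp : q.Prime := hτ q hq
    have hqf : Fact q.Prime := ⟨hqp⟩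
    -- a Sylow subgroup of L
    obtain ⟨U⟩ : Nonempty (Sylow q L) := inferInstance
    set U' : Subgroup G := (U : Subgroup L).map L.subtype with hU'
    have hU'L : U' ≤ L := by
      rintro _ ⟨x, _, rfl⟩
      exact x.2
    have hU'p : IsPGroup q U' := U.isPGroup'.map L.subtype
    have hAM : Subgroup.zpowers b ≤ Subgroup.normalizer (M : Set G) := by
      rw [Subgroup.normalizer_eq_top_iff.2 hM]
      exact le_top
    have hcopA : (Nat.card (Subgroup.zpowers b)).Coprime (Nat.card M) := by
      rw [Nat.card_zpowers]; exact hcop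
    have hsol : Group.IsSolvable (Subgroup.zpowers b) ∨ Group.IsSolvable M := Or.inl inferInstance
    have hAU : Subgroup.zpowers b ≤ Subgroup.normalizer (U' : Set G) := by
      rw [Subgroup.zpowers_le, Subgroup.mem_normalizer_iff]
      intro h
      constructor
      · intro hh
        have : h * b = b * h := Subgroup.mem_centralizer_singleton_iff.1 (hU'L hh).2
        rw [← this, mul_assoc, mul_inv_cancel, mul_one]
        exact hh
      · intro hh
        have : b * h * b⁻¹ * b = b * (b * h * b⁻¹) := Subgroup.mem_centralizer_singleton_iff.1 (hU'L hh).2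
        have h9 : h = b * h * b⁻¹ := by
          have h8 : b * h = b * (b * h * b⁻¹) := by rw [← this]; group
          exact mul_left_cancel h8
        rw [h9]; exact hh
    obtain ⟨P, hUP, hAP⟩ := Cfsg.Agent.S0025.result (Subgroup.zpowers b) M hAM hcopA hsol q U'
      (hU'L.trans inf_le_left) hU'p hAU
    -- the Sylow subgroup of H
    have hAH : Subgroup.zpowers b ≤ Subgroup.normalizer (H : Set G) := by
      rw [Subgroup.zpowers_le]; exact hbH
    have hcopH : (Nat.card (Subgroup.zpowers b)).Coprime (Nat.card H) :=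
      hcopA.coprime_dvd_right (Subgroup.card_dvd_of_le hHM)
    obtain ⟨P', hP'⟩ := Cfsg.Agent.S0023.result (Subgroup.zpowers b) H hAH hcopH (Or.inl inferInstance) q
    set Q' : Subgroup G := (P' : Subgroup H).map H.subtype with hQ'
    have hQ'H : Q' ≤ H := by
      rintro _ ⟨x, _, rfl⟩
      exact x.2
    have hQ'M : Q' ≤ M := hQ'H.trans hHM
    have hQ'c : Nat.card Q' = q ^ (Nat.card M).factorization q := by
      rw [hQ', Subgroup.card_map_of_injective H.subtype_injective, P'.card_eq_multiplicity]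
      congr 1
      apply le_antisymm
      · exact (Nat.factorization_le_iff_dvd Nat.card_pos.ne' Nat.card_pos.ne').2 (Subgroup.card_dvd_of_le hHM) q
      · rw [hH.card, factorization_part hτ, if_pos hq]
        exact (Nat.factorization_le_iff_dvd Nat.card_pos.ne' Nat.card_pos.ne').2 (Subgroup.card_subgroup_dvd_card M) q
    have hQc : Nat.card (Q'.subgroupOf M) = q ^ (Nat.card M).factorization q := by
      rw [Nat.card_congr (Subgroup.subgroupOfEquivOfLe hQ'M).toEquiv, hQ'c]
    let Q : Sylow q M := Sylow.ofCard (Q'.subgroupOf M) hQc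
    have hQmap : (Q : Subgroup M).map M.subtype = Q' := by
      show (Q'.subgroupOf M).map M.subtype = Q'
      rw [Subgroup.subgroupOf_map_subtype]
      exact inf_eq_left.2 hQ'M
    obtain ⟨c, hc, hcP⟩ := Cfsg.Agent.S0024.result (Subgroup.zpowers b) M hAM hcopA hsol q P Q hAP
      (by rw [hQmap]; exact hP')
    -- conjugate of U' lies in D
    have hcb : (c : G) * b = b * c := by
      have := Subgroup.mem_centralizer_iff.1 hc b (Subgroup.mem_zpowers b)
      exact this.symm
    have hsub : U'.map (MulAut.conj (c : G)).toMonoidHom ≤ D := by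
      rintro _ ⟨x, hx, rfl⟩
      have hxc : (MulAut.conj (c : G)).toMonoidHom x = c * x * (c : G)⁻¹ := rfl
      rw [hxc]
      have hxP := hUP hx
      obtain ⟨y, hy, hyx⟩ := Subgroup.mem_map.1 hxP
      refine ⟨?_, ?_⟩
      · have h1 : c * y * c⁻¹ ∈ (Q : Subgroup M) := by
          rw [← hcP]
          exact Subgroup.smul_mem_pointwise_smul y (MulAut.conj c) (P : Subgroup M) hy
        have h2 : ((c * y * c⁻¹ : M) : G) ∈ (Q : Subgroup M).map M.subtype := ⟨_, h1, rfl⟩
        rw [hQmap] at h2
        have h3 : ((c * y * c⁻¹ : M) : G) = c * x * (c : G)⁻¹ := by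
          rw [← hyx]; rfl
        rw [h3] at h2
        exact hQ'H h2
      · have h4 : x * b = b * x := Subgroup.mem_centralizer_singleton_iff.1 (hU'L hx).2
        refine Subgroup.mem_centralizer_singleton_iff.2 ?_
        have h5 : (c : G)⁻¹ * b = b * (c : G)⁻¹ := by
          have : (c : G)⁻¹ * b = (c : G)⁻¹ * (b * c) * (c : G)⁻¹ := by group
          rw [this, ← hcb]; group
        calc (c : G) * x * (c : G)⁻¹ * b = c * x * ((c : G)⁻¹ * b) := by group
          _ = c * (x * b) * (c : G)⁻¹ := by rw [h5]; group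
          _ = (c * b) * x * (c : G)⁻¹ := by rw [h4]; group
          _ = b * (c * x * (c : G)⁻¹) := by rw [hcb]; group
    have hUc : Nat.card U' = q ^ (Nat.card L).factorization q := by
      rw [hU', Subgroup.card_map_of_injective L.subtype_injective, U.card_eq_multiplicity]
    have hdvd : q ^ (Nat.card L).factorization q ∣ Nat.card D := by
      have h6 : Nat.card (U'.map (MulAut.conj (c : G)).toMonoidHom) = Nat.card U' :=
        Subgroup.card_map_of_injective (f := (MulAut.conj (c : G)).toMonoidHom) (MulAut.conj (c : G)).injective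
      rw [← hUc, ← h6]
      exact Subgroup.card_dvd_of_le hsub
    exact (hqp.pow_dvd_iff_le_factorization Nat.card_pos.ne').1 hdvd

/-- **The normal complement case.** -/
theorem caseSD {G : Type u} [Group G] [Finite G] {π σ τ : Finset ℕ} (hσ : ∀ q ∈ σ, q.Prime)
    (hτ : ∀ q ∈ τ, q.Prime) (hdisj : ∀ q ∈ σ, q ∉ τ)
    (hsplit : ∀ g : G, IsElt π g → ∃ y x : G, y * x = g ∧ Commute y x ∧ IsElt σ y ∧ IsElt τ x)
    (B H : Subgroup G) (hB : NilHall σ B) (hBab : ∀ a ∈ B, ∀ b ∈ B, a * b = b * a) (hH : NilHall τ H)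
    (M : Subgroup G) [hM : M.Normal] (hMB : M.IsComplement' B) (hHM : H ≤ M)
    (hBH : B ≤ Subgroup.normalizer (H : Set G)) {m : ℕ} (hm1 : 1 ≤ m) (hm : ∀ q ∈ σ, m ≤ q)
    (hnc : ∃ b ∈ B, ∃ h ∈ H, h * b ≠ b * h) : m * kc π G ≤ Nat.card B * Nat.card H := by
  classical
  have hBfin : Fintype B := Fintype.ofFinite B
  -- orders
  have hMi : M.index = Nat.card B := hMB.symm.index_eq_card
  have hMBc : Nat.card M * Nat.card B = Nat.card G := hMB.card_mul_card
  have hcopBM : (Nat.card B).Coprime (Nat.card M) := by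
    have := hB.coprime_index hσ
    have hi : B.index = Nat.card M := by
      have h1 := B.card_mul_index
      rw [← hMBc, mul_comm] at h1
      exact Nat.eq_of_mul_eq_mul_right Nat.card_pos h1
    rwa [hi] at this
  have hordB : ∀ b ∈ B, orderOf b ∣ Nat.card B := by
    intro b hb
    have := orderOf_dvd_natCard (⟨b, hb⟩ : B)
    rwa [← Subgroup.orderOf_coe] at this
  -- classes of τ-elements in centralizers
  have hcov : ∀ b ∈ B, ∀ z : Subgroup.centralizer ({b} : Set G), IsElt τ z →
      ∃ v : Subgroup.centralizer ({b} : Set G), (v : G) ∈ H ∧ IsConj z v := by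
    intro b hb z hz
    have hzM : (z : G) ∈ M := by
      apply mem_of_coprime_index
      rw [hMi]
      refine Nat.coprime_of_dvd fun q hq hq1 hq2 => ?_
      rw [Subgroup.orderOf_coe] at hq1
      exact hdisj q (hB.mem_of_dvd hσ hq hq2) (hz q hq hq1)
    have hD := nilHall_fixed hτ M H hHM hH b (hBH hb) (hcopBM.coprime_dvd_left (hordB b hb))
    set L := M ⊓ Subgroup.centralizer ({b} : Set G) with hL
    have hzL : (z : G) ∈ L := ⟨hzM, z.2⟩
    have hzE : IsElt τ (⟨(z : G), hzL⟩ : L) := by
      refine hz.of_dvd ?_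
      rw [← Subgroup.orderOf_coe, ← Subgroup.orderOf_coe]
    obtain ⟨v, hv, hzv⟩ := hD.cov hτ ⟨(z : G), hzL⟩ hzE
    refine ⟨⟨(v : G), v.2.2⟩, ?_, ?_⟩
    · rw [Subgroup.mem_subgroupOf] at hv
      exact hv.1
    · obtain ⟨c, hc⟩ := isConj_iff.1 hzv
      rw [isConj_iff]
      refine ⟨⟨(c : G), c.2.2⟩, ?_⟩
      apply Subtype.ext
      have := congrArg Subtype.val hc
      simpa using this
  -- the sum
  have hsum : kc π G ≤ ∑ b : B, kc τ (Subgroup.centralizer ({(b : G)} : Set G)) := by
    apply kc_le_sum (fun b : B => (b : G)) (σ := σ) (τ := τ)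
    · intro y hy
      obtain ⟨v, hv, hyv⟩ := hB.cov hσ y hy
      exact ⟨⟨v, hv⟩, hyv⟩
    · exact hsplit
  -- B₀ = C_B(H)
  set B₀ : Subgroup G := B ⊓ Subgroup.centralizer (H : Set G) with hB₀
  have hB₀B : B₀ < B := by
    refine lt_of_le_of_ne inf_le_left ?_
    intro h
    obtain ⟨b, hb, x, hx, hne⟩ := hnc
    rw [← h] at hb
    exact hne (Subgroup.mem_centralizer_iff.1 hb.2 x hx)
  have hB₀c : m * Nat.card B₀ ≤ Nat.card B :=
    mul_card_le_of_lt hB₀B (fun q hq hqd => hm q (hB.mem_of_dvd hσ hq hqd))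
  have hcopBH : (Nat.card B).Coprime (Nat.card H) := hcopBM.coprime_dvd_right (Subgroup.card_dvd_of_le hHM)
  have hfix : ∀ b ∈ B, b ∉ B₀ →
      (m + 1) * Nat.card (H ⊓ Subgroup.centralizer ({b} : Set G) : Subgroup G) ≤ Nat.card H := by
    intro b hb hb0
    apply mul_card_centralizer_le H b (hBH hb) (hcopBH.coprime_dvd_left (hordB b hb))
    · by_contra hcon
      push Not at hcon
      apply hb0
      refine ⟨hb, ?_⟩
      show b ∈ Subgroup.centralizer (H : Set G)
      rw [Subgroup.mem_centralizer_iff]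
      exact hcon
    · intro q hq hqd
      exact hm q (hB.mem_of_dvd hσ hq (hqd.trans (hordB b hb)))
  -- H₀ = C_H(B)
  set H₀ : Subgroup G := H ⊓ Subgroup.centralizer (B : Set G) with hH₀
  have hH₀c : (m + 1) * Nat.card H₀ ≤ Nat.card H := by
    obtain ⟨b, hb, x, hx, hne⟩ := hnc
    have hb0 : b ∉ B₀ := by
      intro h
      exact hne (Subgroup.mem_centralizer_iff.1 h.2 x hx)
    have h1 := hfix b hb hb0
    have h2 : H₀ ≤ H ⊓ Subgroup.centralizer ({b} : Set G) := by
      refine inf_le_inf_left _ (Subgroup.centralizer_le ?_)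
      rw [Set.singleton_subset_iff]
      exact hb
    have h3 : Nat.card H₀ ≤ Nat.card (H ⊓ Subgroup.centralizer ({b} : Set G) : Subgroup G) :=
      Nat.le_of_dvd Nat.card_pos (Subgroup.card_dvd_of_le h2)
    exact (Nat.mul_le_mul_left _ h3).trans h1
  -- bounds for each b
  have hb1 : ∀ b : B, (b : G) ∉ B₀ →
      (m + 1) * kc τ (Subgroup.centralizer ({(b : G)} : Set G)) ≤ Nat.card H := by
    intro b hb0
    refine le_trans (Nat.mul_le_mul_left _ ?_) (hfix b b.2 hb0)
    set Z := Subgroup.centralizer ({(b : G)} : Set G) with hZ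
    have h1 := mul_kc_le (H := Z) (s := τ) ((H.subgroupOf Z : Subgroup Z) : Set Z)
      ((H.subgroupOf Z : Subgroup Z) : Set Z) 1 le_rfl (fun z hz => by
        obtain ⟨v, hv, hzv⟩ := hcov b b.2 z hz
        exact ⟨v, hv, hzv⟩) (fun v hv hv' => absurd hv hv')
    have h2 : Nat.card (((H.subgroupOf Z : Subgroup Z) : Set Z)) = Nat.card (H ⊓ Z : Subgroup G) := by
      have h3 : Nat.card ((H ⊓ Z : Subgroup G).subgroupOf Z) = Nat.card (H ⊓ Z : Subgroup G) :=
        Nat.card_congr (Subgroup.subgroupOfEquivOfLe inf_le_right).toEquiv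
      rw [Subgroup.inf_subgroupOf_right] at h3
      exact h3
    rw [h2] at h1
    simpa using h1
  have hb2 : ∀ b : B, (b : G) ∈ B₀ →
      (m + 1) * kc τ (Subgroup.centralizer ({(b : G)} : Set G)) ≤ 2 * Nat.card H := by
    intro b hb0
    set Z := Subgroup.centralizer ({(b : G)} : Set G) with hZ
    have hHZ : H ≤ Z := by
      intro x hx
      rw [hZ, Subgroup.mem_centralizer_singleton_iff]
      exact Subgroup.mem_centralizer_iff.1 hb0.2 x hx
    have hBZ : B ≤ Z := by
      intro x hx
      rw [hZ, Subgroup.mem_centralizer_singleton_iff]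
      exact hBab x hx b b.2
    have h1 := mul_kc_le (H := Z) (s := τ) ((H.subgroupOf Z : Subgroup Z) : Set Z)
      ((H₀.subgroupOf Z : Subgroup Z) : Set Z) m hm1 (fun z hz => by
        obtain ⟨v, hv, hzv⟩ := hcov b b.2 z hz
        exact ⟨v, hv, hzv⟩) ?_
    · have h2 : Nat.card (((H.subgroupOf Z : Subgroup Z) : Set Z)) = Nat.card H :=
        Nat.card_congr (Subgroup.subgroupOfEquivOfLe hHZ).toEquiv
      have h3 : Nat.card (((H₀.subgroupOf Z : Subgroup Z) : Set Z)) = Nat.card H₀ :=
        Nat.card_congr (Subgroup.subgroupOfEquivOfLe ((inf_le_left : H₀ ≤ H).trans hHZ)).toEquiv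
      rw [h2, h3] at h1
      obtain ⟨w, rfl⟩ : ∃ w, m = w + 1 := ⟨m - 1, by omega⟩
      have h4 : w + 1 - 1 = w := rfl
      rw [h4] at h1
      -- (w+1) k ≤ |H| + w |H₀|, (w+2) |H₀| ≤ |H|
      have h5 : (w + 1) * ((w + 1 + 1) * kc τ Z) ≤ (w + 1) * (2 * Nat.card H) := by
        calc (w + 1) * ((w + 1 + 1) * kc τ Z) = (w + 1 + 1) * ((w + 1) * kc τ Z) := by ring
          _ ≤ (w + 1 + 1) * (Nat.card H + w * Nat.card H₀) := Nat.mul_le_mul_left _ h1
          _ = (w + 1 + 1) * Nat.card H + w * ((w + 1 + 1) * Nat.card H₀) := by ring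
          _ ≤ (w + 1 + 1) * Nat.card H + w * Nat.card H := Nat.add_le_add_left (Nat.mul_le_mul_left _ hH₀c) _
          _ = (w + 1) * (2 * Nat.card H) := by ring
      exact Nat.le_of_mul_le_mul_left h5 (Nat.succ_pos _)
    · intro v hv hv0
      have hvH : (v : G) ∈ H := hv
      have hex : ∃ a ∈ B, a * (v : G) ≠ v * a := by
        by_contra hcon
        push Not at hcon
        apply hv0
        show (v : G) ∈ H₀
        refine ⟨hvH, ?_⟩
        show (v : G) ∈ Subgroup.centralizer (B : Set G)
        rw [Subgroup.mem_centralizer_iff]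
        exact hcon
      obtain ⟨a, ha, hav⟩ := hex
      -- the B-class of v
      have h6 := card_cls_mul B (v : G)
      have h7 : Nat.card (cls B (v : G)) ≤ Nat.card {w : Z // w ∈ ((H.subgroupOf Z : Subgroup Z) : Set Z) ∧ IsConj v w} := by
        have hmem : ∀ y : cls B (v : G), (y : G) ∈ Z ∧ (y : G) ∈ H := by
          rintro ⟨_, k, hk, rfl⟩
          exact ⟨mul_mem (mul_mem (hBZ hk) v.2) (inv_mem (hBZ hk)),
            (Subgroup.mem_normalizer_iff.1 (hBH hk) v).1 hvH⟩
        have hconj : ∀ y : cls B (v : G), IsConj v (⟨(y : G), (hmem y).1⟩ : Z) := by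
          rintro ⟨_, k, hk, rfl⟩
          exact isConj_iff.2 ⟨⟨k, hBZ hk⟩, rfl⟩
        refine Nat.card_le_card_of_injective
          (fun y : cls B (v : G) => (⟨⟨(y : G), (hmem y).1⟩, (hmem y).2, hconj y⟩ :
            {w : Z // w ∈ ((H.subgroupOf Z : Subgroup Z) : Set Z) ∧ IsConj v w})) ?_
        intro y y' h
        have := congrArg (fun w => ((w.1 : Z) : G)) h
        exact Subtype.ext this
      refine le_trans ?_ h7
      have hpos : 0 < Nat.card (cls B (v : G)) := by
        rcases Nat.eq_zero_or_pos (Nat.card (cls B (v : G))) with h0 | h0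
        · rw [h0, zero_mul] at h6
          exact absurd h6.symm Nat.card_pos.ne'
        · exact h0
      have hne1 : Nat.card (cls B (v : G)) ≠ 1 := by
        intro h8
        have hsub : Subsingleton (cls B (v : G)) := (Nat.card_eq_one_iff_unique.1 h8).1
        have e1 : (v : G) ∈ cls B (v : G) := ⟨1, one_mem _, by simp⟩
        have e2 : a * v * a⁻¹ ∈ cls B (v : G) := ⟨a, ha, rfl⟩
        have e3 : a * v * a⁻¹ = (v : G) := congrArg Subtype.val (hsub.elim (⟨_, e2⟩ : cls B (v : G)) ⟨_, e1⟩)
        apply hav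
        rwa [mul_inv_eq_iff_eq_mul] at e3
      obtain ⟨q, hq, hqd⟩ := Nat.exists_prime_and_dvd hne1
      have h9 : q ∣ Nat.card B := hqd.trans ⟨_, h6.symm⟩
      exact (hm q (hB.mem_of_dvd hσ hq h9)).trans (Nat.le_of_dvd hpos hqd)
  -- sum up
  have hfilter : (Finset.univ.filter (fun b : B => (b : G) ∈ B₀)).card = Nat.card B₀ := by
    rw [← Fintype.card_subtype, ← Nat.card_eq_fintype_card]
    exact Nat.card_congr (Subgroup.subgroupOfEquivOfLe (inf_le_left : B₀ ≤ B)).toEquiv
  have hcB : Fintype.card B = Nat.card B := Nat.card_eq_fintype_card.symm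
  have htot : (m + 1) * kc π G ≤ Nat.card H * (Nat.card B + Nat.card B₀) := by
    calc (m + 1) * kc π G ≤ (m + 1) * ∑ b : B, kc τ (Subgroup.centralizer ({(b : G)} : Set G)) :=
          Nat.mul_le_mul_left _ hsum
      _ = ∑ b : B, (m + 1) * kc τ (Subgroup.centralizer ({(b : G)} : Set G)) := Finset.mul_sum _ _ _
      _ ≤ ∑ b : B, (Nat.card H + if (b : G) ∈ B₀ then Nat.card H else 0) := by
          apply Finset.sum_le_sum
          intro b _
          split_ifs with h
          · have := hb2 b h; omega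
          · have := hb1 b h; omega
      _ = Nat.card H * (Nat.card B + Nat.card B₀) := by
          rw [Finset.sum_add_distrib, Finset.sum_const, Finset.card_univ, hcB, smul_eq_mul,
            ← Finset.sum_filter, Finset.sum_const, hfilter, smul_eq_mul]
          ring
  have h10 : (m + 1) * (m * kc π G) ≤ (m + 1) * (Nat.card B * Nat.card H) := by
    calc (m + 1) * (m * kc π G) = m * ((m + 1) * kc π G) := by ring
      _ ≤ m * (Nat.card H * (Nat.card B + Nat.card B₀)) := Nat.mul_le_mul_left _ htot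
      _ = Nat.card H * (m * Nat.card B + m * Nat.card B₀) := by ring
      _ ≤ Nat.card H * (m * Nat.card B + Nat.card B) :=
          Nat.mul_le_mul_left _ (Nat.add_le_add_left hB₀c _)
      _ = (m + 1) * (Nat.card B * Nat.card H) := by ring
  exact Nat.le_of_mul_le_mul_left h10 (Nat.succ_pos _)

end Cfsg.Agent.H518.PiSD
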