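import Mathlib
import Cfsg.Agent.H518.PiSD

/-!
# Many classes of `π`-elements force a nilpotent Hall `π`-subgroup

`main`: if `G` has no nilpotent Hall `s`-subgroup and `m` is a lower bound of `s` (a finite set of primes), then
`m * k_s(G) ≤ |G|_s`. The proof is elementary (induction on `s`).
-/

set_option autoImplicit false

namespace Cfsg.Agent.H518.PiMain

open Cfsg.Agent.H518.PiCount Cfsg.Agent.H518.PiHall Cfsg.Agent.H518.PiCaseOne Cfsg.Agent.H518.PiCaseTwo
  Cfsg.Agent.H518.PiSD
open scoped Pointwise

universe u

/-- two commuting nilpotent Hall subgroups generate one. -/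
theorem exists_nilHall_insert {G : Type u} [Group G] [Finite G] {p : ℕ} (hp : p.Prime) {s : Finset ℕ}
    (hs : ∀ q ∈ s, q.Prime) (hps : p ∉ s) (T A : Subgroup G) (hT : NilHall {p} T) (hA : NilHall s A)
    (hcomm : ∀ t ∈ T, ∀ a ∈ A, t * a = a * t) : ∃ B : Subgroup G, NilHall (insert p s) B := by
  have hsp : ∀ q ∈ ({p} : Finset ℕ), q.Prime := by
    intro q hq
    rw [Finset.mem_singleton] at hq
    rw [hq]; exact hp
  have hTn : Group.IsNilpotent T := hT.nil
  have hAn : Group.IsNilpotent A := hA.nil
  let φ : T × A →* G := MonoidHom.noncommCoprod T.subtype A.subtype (fun t a => hcomm t t.2 a a.2)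
  have hcop : (Nat.card T).Coprime (Nat.card A) := by
    refine Nat.coprime_of_dvd fun q hq h1 h2 => ?_
    have h3 := hT.mem_of_dvd hsp hq h1
    rw [Finset.mem_singleton] at h3
    exact hps (h3 ▸ hA.mem_of_dvd hs hq h2)
  have hinj : Function.Injective φ := by
    refine (MonoidHom.noncommCoprod_injective T.subtype A.subtype (fun t a => hcomm t t.2 a a.2)).2 ?_
    refine ⟨T.subtype_injective, A.subtype_injective, ?_⟩
    rw [Subgroup.range_subtype, Subgroup.range_subtype, disjoint_iff]
    exact Subgroup.inf_eq_bot_of_coprime hcop
  refine ⟨φ.range, ?_, ?_⟩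
  · exact Group.nilpotent_of_surjective φ.rangeRestrict φ.rangeRestrict_surjective
  · rw [part_insert hps, Nat.card_congr (MonoidHom.ofInjective hinj).symm.toEquiv, Nat.card_prod, hT.card, hA.card]
    simp [part]

/-- **Main theorem.** -/
theorem main (s : Finset ℕ) : (∀ q ∈ s, q.Prime) → ∀ (G : Type u) [Group G] [Finite G],
    (¬ ∃ A : Subgroup G, NilHall s A) → ∀ m : ℕ, (∀ q ∈ s, m ≤ q) →
      m * kc s G ≤ part s (Nat.card G) := by
  classical
  induction s using Finset.induction_on_min with
  | empty =>
    intro _ G _ _ hno m _
    exfalso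
    apply hno
    refine ⟨⊥, inferInstance, ?_⟩
    simp [part]
  | insert p s hmin ih =>
    intro hprime G _ _ hno m hm
    have hp : p.Prime := hprime p (Finset.mem_insert_self _ _)
    have hpf : Fact p.Prime := ⟨hp⟩
    have hs : ∀ q ∈ s, q.Prime := fun q hq => hprime q (Finset.mem_insert_of_mem hq)
    have ih' := ih hs
    have hps : p ∉ s := fun h => lt_irrefl _ (hmin p h)
    have hsp : ∀ q ∈ ({p} : Finset ℕ), q.Prime := by
      intro q hq
      rw [Finset.mem_singleton] at hq
      rw [hq]; exact hp
    have hmp : m ≤ p := hm p (Finset.mem_insert_self _ _)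
    refine (Nat.mul_le_mul_right _ hmp).trans ?_
    obtain ⟨T⟩ : Nonempty (Sylow p G) := inferInstance
    have hT := nilHall_sylow T
    have hTc : Nat.card (T : Subgroup G) = p ^ (Nat.card G).factorization p := T.card_eq_multiplicity
    have hpart : part (insert p s) (Nat.card G) = Nat.card (T : Subgroup G) * part s (Nat.card G) := by
      rw [part_insert hps, hTc]
    rw [hpart]
    have hmin' : ∀ q ∈ s, p + 1 ≤ q := fun q hq => hmin q hq
    by_cases hA : ∃ A : Subgroup G, NilHall s A
    swap
    · -- no nilpotent Hall `s`-subgroup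
      have h1 := ih' G hA (p + 1) hmin'
      let I : Type u := {Y : ConjClasses G // ∃ g : G, ConjClasses.mk g = Y ∧ IsElt s g}
      have hFI : Fintype I := Fintype.ofFinite I
      have hsum : kc (insert p s) G ≤ ∑ Y : I, kc {p} (Subgroup.centralizer ({rep Y.1} : Set G)) := by
        apply kc_le_sum (fun Y : I => rep Y.1) (σ := s) (τ := {p})
        · intro y hy
          exact ⟨⟨ConjClasses.mk y, y, rfl, hy⟩, isConj_rep y⟩
        · intro g hg
          exact split_p hp g hg
      have hcardI : Fintype.card I = kc s G := by
        rw [← Nat.card_eq_fintype_card]; rfl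
      have h2 : kc (insert p s) G ≤ kc s G * Nat.card (T : Subgroup G) := by
        refine hsum.trans ?_
        rw [← hcardI, ← Finset.card_univ, ← smul_eq_mul, ← Finset.sum_const]
        apply Finset.sum_le_sum
        intro Y _
        refine (kc_le_part {p} hsp).trans ?_
        rw [hT.card]
        exact Nat.le_of_dvd (Nat.pos_of_ne_zero (part_ne_zero hsp _))
          (part_mono hsp Nat.card_pos.ne' (Subgroup.card_subgroup_dvd_card _))
      calc p * kc (insert p s) G ≤ p * (kc s G * Nat.card (T : Subgroup G)) := Nat.mul_le_mul_left _ h2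
        _ ≤ (p + 1) * (kc s G * Nat.card (T : Subgroup G)) := Nat.mul_le_mul_right _ (Nat.le_succ p)
        _ = Nat.card (T : Subgroup G) * ((p + 1) * kc s G) := by ring
        _ ≤ _ := Nat.mul_le_mul_left _ h1
    obtain ⟨A, hA⟩ := hA
    rw [← hA.card]
    have hno' : ∀ T' A' : Subgroup G, NilHall {p} T' → NilHall s A' → ∃ t ∈ T', ∃ a ∈ A', t * a ≠ a * t := by
      intro T' A' hT' hA'
      by_contra hcon
      push Not at hcon
      exact hno (exists_nilHall_insert hp hs hps T' A' hT' hA' hcon)
    by_cases hAc : ∀ g ∈ Subgroup.normalizer (A : Set G), ∀ a ∈ A, g * a * g⁻¹ = a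
    · -- A central in its normalizer
      obtain ⟨M, hMn, hMA⟩ := exists_normal_compl hs A hA hAc
      have hMi : M.index = Nat.card A := hMA.symm.index_eq_card
      have hMAc : Nat.card M * Nat.card A = Nat.card G := hMA.card_mul_card
      have hAi : A.index = Nat.card M := by
        have h1 := A.card_mul_index
        rw [← hMAc, mul_comm] at h1
        exact Nat.eq_of_mul_eq_mul_right Nat.card_pos h1
      have hcop : (Nat.card A).Coprime (Nat.card M) := by
        have := hA.coprime_index hs
        rwa [hAi] at this
      have hpA : ¬ p ∣ Nat.card A := fun h => hps (hA.mem_of_dvd hs hp h)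
      have hAab : ∀ a ∈ A, ∀ b ∈ A, a * b = b * a := by
        intro a ha b hb
        have := hAc a (Subgroup.le_normalizer ha) b hb
        rwa [mul_inv_eq_iff_eq_mul] at this
      have hAM : A ≤ Subgroup.normalizer (M : Set G) := by
        rw [Subgroup.normalizer_eq_top_iff.2 hMn]
        exact le_top
      have hAsol : Group.IsSolvable A := by
        have : Group.IsNilpotent A := hA.nil
        infer_instance
      obtain ⟨P, hP⟩ := Cfsg.Agent.S0023.result A M hAM hcop (Or.inl hAsol) p
      set H : Subgroup G := (P : Subgroup M).map M.subtype with hHdef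
      have hHM : H ≤ M := by
        rintro _ ⟨x, _, rfl⟩
        exact x.2
      have hHc : Nat.card H = Nat.card (T : Subgroup G) := by
        rw [hHdef, Subgroup.card_map_of_injective M.subtype_injective, P.card_eq_multiplicity, hTc, ← hMAc,
          Nat.factorization_mul Nat.card_pos.ne' Nat.card_pos.ne', Finsupp.add_apply,
          Nat.factorization_eq_zero_of_not_dvd hpA, add_zero]
      have hH : NilHall {p} H := by
        refine ⟨?_, by rw [hHc, hT.card]⟩
        have : IsPGroup p H := P.isPGroup'.map M.subtype
        exact this.isNilpotent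
      obtain ⟨t, ht, a, ha, hne⟩ := hno' H A hH hA
      have h1 := caseSD (π := insert p s) (σ := s) (τ := {p}) hs hsp
        (fun q hq h => by rw [Finset.mem_singleton] at h; exact hps (h ▸ hq)) (fun g hg => split_p hp g hg)
        A H hA hAab hH M hMA hHM hP (m := p + 1) (by omega) hmin' ⟨a, ha, t, ht, hne⟩
      rw [hHc] at h1
      calc p * kc (insert p s) G ≤ (p + 1) * kc (insert p s) G := Nat.mul_le_mul_right _ (Nat.le_succ p)
        _ ≤ Nat.card A * Nat.card (T : Subgroup G) := h1
        _ = _ := mul_comm _ _
    by_cases hTc' : ∀ g ∈ Subgroup.normalizer ((T : Subgroup G) : Set G), ∀ a ∈ (T : Subgroup G), g * a * g⁻¹ = a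
    · -- T central in its normalizer
      obtain ⟨M, hMn, hMT⟩ := exists_normal_compl hsp (T : Subgroup G) hT hTc'
      have hMi : M.index = Nat.card (T : Subgroup G) := hMT.symm.index_eq_card
      have hTab : ∀ a ∈ (T : Subgroup G), ∀ b ∈ (T : Subgroup G), a * b = b * a := by
        intro a ha b hb
        have := hTc' a (Subgroup.le_normalizer ha) b hb
        rwa [mul_inv_eq_iff_eq_mul] at this
      have hle : ∀ A' : Subgroup G, NilHall s A' → A' ≤ M := by
        intro A' hA' x hx
        apply mem_of_coprime_index
        rw [hMi]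
        refine Nat.coprime_of_dvd fun q hq hq1 hq2 => ?_
        have h3 := hT.mem_of_dvd hsp hq hq2
        rw [Finset.mem_singleton] at h3
        have h4 := hA'.isElt_of_mem hs hx q hq hq1
        exact hps (h3 ▸ h4)
      -- T fixes a conjugate of A
      have hfixed : ∃ A' : Subgroup G, NilHall s A' ∧ (T : Subgroup G) ≤ Subgroup.normalizer (A' : Set G) := by
        -- the action of T on the M-conjugates of A
        let Ω : Set (Subgroup G) := {X | ∃ x ∈ M, X = MulAut.conj x • A}
        have hΩ : ∀ X ∈ Ω, NilHall s X := by
          rintro _ ⟨x, _, rfl⟩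
          refine ⟨?_, ?_⟩
          · have : Group.IsNilpotent A := hA.nil
            exact Group.nilpotent_of_surjective (Subgroup.equivSMul (MulAut.conj x) A).toMonoidHom
              (Subgroup.equivSMul (MulAut.conj x) A).surjective
          · rw [← Nat.card_congr (Subgroup.equivSMul (MulAut.conj x) A).toEquiv, hA.card]
        have hcardX : ∀ X : Subgroup G, NilHall s X → X ∈ Ω := by
          intro X hX
          -- both A and X are nilpotent Hall in M
          have hAM := hle A hA
          have hXM := hle X hX
          have hpartM : part s (Nat.card M) = part s (Nat.card G) := by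
            apply Nat.dvd_antisymm (part_mono hs Nat.card_pos.ne' (Subgroup.card_subgroup_dvd_card M))
            rw [← hA.card]
            exact dvd_part hs Nat.card_pos.ne' (Subgroup.card_dvd_of_le hAM) (fun q hq hqd => hA.mem_of_dvd hs hq hqd)
          have hA1 : NilHall s (A.subgroupOf M) :=
            ⟨isNilpotent_subgroupOf hAM hA.nil, by
              rw [Nat.card_congr (Subgroup.subgroupOfEquivOfLe hAM).toEquiv, hA.card, hpartM]⟩
          have hX1 : Nat.card (X.subgroupOf M) = Nat.card (A.subgroupOf M) := by
            rw [Nat.card_congr (Subgroup.subgroupOfEquivOfLe hXM).toEquiv,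
              Nat.card_congr (Subgroup.subgroupOfEquivOfLe hAM).toEquiv, hX.card, hA.card]
          obtain ⟨x, hx⟩ := hA1.conj_smul_eq hs hX1
          refine ⟨(x : G), x.2, ?_⟩
          have hcA : Nat.card (MulAut.conj (x : G) • A : Subgroup G) = Nat.card A :=
            Nat.card_congr (Subgroup.equivSMul (MulAut.conj (x : G)) A).symm.toEquiv
          refine Subgroup.eq_of_le_of_card_ge ?_ (by rw [hcA, hA.card, hX.card])
          intro y hy
          have hy1 : (⟨y, hXM hy⟩ : M) ∈ X.subgroupOf M := by rw [Subgroup.mem_subgroupOf]; exact hy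
          rw [hx, Subgroup.mem_pointwise_smul_iff_inv_smul_mem, ← map_inv, MulAut.smul_def, MulAut.conj_apply,
            Subgroup.mem_subgroupOf] at hy1
          rw [Subgroup.mem_pointwise_smul_iff_inv_smul_mem, ← map_inv, MulAut.smul_def, MulAut.conj_apply]
          simpa using hy1
        have hsm : ∀ (t : G) (X : Subgroup G), X ∈ Ω → MulAut.conj t • X ∈ Ω := by
          intro t X hX
          apply hcardX
          have hX' := hΩ X hX
          refine ⟨?_, ?_⟩
          · have : Group.IsNilpotent X := hX'.nil
            exact Group.nilpotent_of_surjective (Subgroup.equivSMul (MulAut.conj t) X).toMonoidHom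
              (Subgroup.equivSMul (MulAut.conj t) X).surjective
          · rw [← Nat.card_congr (Subgroup.equivSMul (MulAut.conj t) X).toEquiv, hX'.card]
        let act : MulAction (T : Subgroup G) Ω :=
          { smul := fun t X => ⟨MulAut.conj (t : G) • X.1, hsm t X.1 X.2⟩
            one_smul := fun X => Subtype.ext (by
              show MulAut.conj ((1 : (T : Subgroup G)) : G) • X.1 = X.1
              rw [Subgroup.coe_one, map_one, one_smul])
            mul_smul := fun t t' X => Subtype.ext (by
              show MulAut.conj ((t * t' : (T : Subgroup G)) : G) • X.1 =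
                MulAut.conj (t : G) • (MulAut.conj (t' : G) • X.1)
              rw [Subgroup.coe_mul, map_mul, mul_smul]) }
        have hcardΩ : ¬ p ∣ Nat.card Ω := by
          -- |Ω| divides |M|, which is prime to p
          let act' : MulAction M Ω :=
            { smul := fun t X => ⟨MulAut.conj (t : G) • X.1, hsm t X.1 X.2⟩
              one_smul := fun X => Subtype.ext (by
                show MulAut.conj ((1 : M) : G) • X.1 = X.1
                rw [Subgroup.coe_one, map_one, one_smul])
              mul_smul := fun t t' X => Subtype.ext (by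
                show MulAut.conj ((t * t' : M) : G) • X.1 =
                  MulAut.conj (t : G) • (MulAut.conj (t' : G) • X.1)
                rw [Subgroup.coe_mul, map_mul, mul_smul]) }
          have hAΩ : A ∈ Ω := hcardX A hA
          have horb : @MulAction.orbit M Ω act'.toSMul ⟨A, hAΩ⟩ = Set.univ := by
            ext X
            simp only [Set.mem_univ, iff_true]
            obtain ⟨x, hx, hX⟩ := X.2
            exact ⟨⟨x, hx⟩, Subtype.ext hX.symm⟩
          have h1 : (@MulAction.stabilizer M Ω _ act' ⟨A, hAΩ⟩).index = Nat.card Ω := by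
            rw [@MulAction.index_stabilizer M Ω _ act', horb, Set.ncard_univ]
          intro hpd
          rw [← h1] at hpd
          have h2 : p ∣ Nat.card M := hpd.trans (Subgroup.index_dvd_card _)
          have h3 : Nat.card M * Nat.card (T : Subgroup G) = Nat.card G := hMT.card_mul_card
          have h4 : (Nat.card (T : Subgroup G)).Coprime (T : Subgroup G).index := hT.coprime_index hsp
          have h5 : (T : Subgroup G).index = Nat.card M := by
            have h1 := (T : Subgroup G).card_mul_index
            rw [← h3, mul_comm] at h1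
            exact Nat.eq_of_mul_eq_mul_right Nat.card_pos h1
          exact T.not_dvd_index (h5.symm ▸ h2)
        obtain ⟨X, hX⟩ := @IsPGroup.nonempty_fixed_point_of_prime_not_dvd_card p (T : Subgroup G) _ T.isPGroup' _
          Ω act hcardΩ
        refine ⟨X.1, hΩ X.1 X.2, ?_⟩
        intro t ht
        have h1 : MulAut.conj t • X.1 = X.1 := congrArg Subtype.val (hX ⟨t, ht⟩)
        rw [Subgroup.mem_normalizer_iff]
        intro h
        constructor
        · intro hh
          have := Subgroup.smul_mem_pointwise_smul h (MulAut.conj t) X.1 hh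
          rw [h1] at this
          exact this
        · intro hh
          rw [← h1] at hh
          exact (Subgroup.smul_mem_pointwise_smul_iff (a := MulAut.conj t)).1 hh
      obtain ⟨A', hA', hTA'⟩ := hfixed
      obtain ⟨t, ht, a, ha, hne⟩ := hno' T A' hT hA'
      have h1 := caseSD (π := insert p s) (σ := {p}) (τ := s) hsp hs
        (fun q hq h => by rw [Finset.mem_singleton] at hq; exact hps (hq ▸ h)) (fun g hg => split_p' hp g hg)
        (T : Subgroup G) A' hT hTab hA' M hMT (hle A' hA') hTA' (m := p) hp.one_le
        (fun q hq => by rw [Finset.mem_singleton] at hq; exact hq.ge) ⟨t, ht, a, ha, hne.symm⟩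
      rwa [hA'.card, ← hA.card] at h1
    -- the main case
    push Not at hAc hTc'
    apply caseI hp hs hmin (T : Subgroup G) A hT hA hTc' hAc
    set C : Subgroup G := Subgroup.centralizer ((T : Subgroup G) : Set G) with hC
    have hdvd : part s (Nat.card C) ∣ Nat.card A := by
      rw [hA.card]
      exact part_mono hs Nat.card_pos.ne' (Subgroup.card_subgroup_dvd_card C)
    by_cases heq : part s (Nat.card C) = Nat.card A
    · rw [← heq]
      apply ih' C _ (p + 1) hmin'
      rintro ⟨E, hE⟩
      have hE' : NilHall s (E.map C.subtype) := by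
        refine ⟨?_, ?_⟩
        · have : Group.IsNilpotent E := hE.nil
          exact Group.nilpotent_of_surjective (E.equivMapOfInjective C.subtype C.subtype_injective).toMonoidHom
            (E.equivMapOfInjective C.subtype C.subtype_injective).surjective
        · rw [Subgroup.card_map_of_injective C.subtype_injective, hE.card, heq, hA.card]
      obtain ⟨t, ht, a, ha, hne⟩ := hno' T _ hT hE'
      obtain ⟨c, _, rfl⟩ := Subgroup.mem_map.1 ha
      exact hne (Subgroup.mem_centralizer_iff.1 c.2 t ht)
    · have h1 : kc s C ≤ part s (Nat.card C) := kc_le_part s hs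
      refine (Nat.mul_le_mul_left _ h1).trans ?_
      obtain ⟨k, hk⟩ := hdvd
      have hk1 : k ≠ 1 := fun h => heq (by rw [hk, h, mul_one])
      obtain ⟨q, hq, hqk⟩ := Nat.exists_prime_and_dvd hk1
      have hA0 : 0 < Nat.card A := Nat.card_pos
      have hk0 : 0 < k := Nat.pos_of_ne_zero (fun h => by rw [h, mul_zero] at hk; omega)
      have hqs : q ∈ s := hA.mem_of_dvd hs hq (by rw [hk]; exact Dvd.dvd.mul_left hqk _)
      have h2 : p + 1 ≤ k := (hmin' q hqs).trans (Nat.le_of_dvd hk0 hqk)
      calc (p + 1) * part s (Nat.card C) ≤ k * part s (Nat.card C) := Nat.mul_le_mul_right _ h2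
        _ = Nat.card A := by rw [hk, mul_comm]

end Cfsg.Agent.H518.PiMain
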