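import Mathlib
import Cfsg.Agent.H518.PiMain
import Cfsg.Agent.S0133
import Cfsg.Agent.S0134
import Cfsg.Agent.S0135
import Cfsg.Agent.S0154
import Cfsg.Agent.Characters.Core

/-!
# Commuting probability bounds and the interface for S4104, S4105
-/

set_option autoImplicit false

namespace Cfsg.Agent.H518.PiFinal

open Cfsg Cfsg.Agent.H518.PiCount Cfsg.Agent.H518.PiHall Cfsg.Agent.H518.PiCaseOne
open scoped Pointwise

universe u

/-- If all prime divisors of `|H|` are at least `p` and `|H'| > p` then `p k(H) ≤ |H|`. -/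
theorem mul_card_conjClasses_le {H : Type u} [Group H] [Finite H] {p : ℕ} (hp : 2 ≤ p)
    (hH : ∀ q : ℕ, q.Prime → q ∣ Nat.card H → p ≤ q) (hcomm : p + 1 ≤ Nat.card (commutator H)) :
    p * Nat.card (ConjClasses H) ≤ Nat.card H := by
  classical
  have : Fintype H := Fintype.ofFinite H
  have : Finite (IrrCharacter H) := Characters.Core.finite_irr
  have hfI : Fintype (IrrCharacter H) := Fintype.ofFinite _
  have hdeg : ∀ χ : IrrCharacter H, ∃ d : ℕ, (χ : H → ℂ) 1 = d ∧ d ∣ Nat.card H := by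
    rintro ⟨χ, n, ρ, hirr, rfl⟩
    have : ρ.IsIrreducible := hirr
    exact ⟨Module.finrank ℂ (Fin n → ℂ), ρ.char_one, Cfsg.Agent.S0135.result ρ⟩
  choose d hd hdd using hdeg
  have hsum : ∑ χ : IrrCharacter H, d χ ^ 2 = Nat.card H := by
    have h := Cfsg.Agent.S0134.result (G := H)
    rw [finsum_eq_sum_of_fintype] at h
    have h2 : ∑ χ : IrrCharacter H, ((d χ : ℂ)) ^ 2 = (Nat.card H : ℂ) := by
      rw [← h]
      exact Finset.sum_congr rfl (fun χ _ => by rw [hd χ])
    exact_mod_cast h2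
  have hlin : (Finset.univ.filter (fun χ : IrrCharacter H => d χ = 1)).card = (commutator H).index := by
    rw [← Cfsg.Agent.S0154.result (G := H), Nat.card_eq_fintype_card, Fintype.card_subtype]
    congr 1
    ext χ
    simp only [Finset.mem_filter, Finset.mem_univ, true_and]
    rw [hd χ]
    norm_cast
  have hk : Fintype.card (IrrCharacter H) = Nat.card (ConjClasses H) := by
    rw [← Nat.card_eq_fintype_card, Cfsg.Agent.S0133.result]
  set n := (commutator H).index with hn
  set k := Nat.card (ConjClasses H) with hkdef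
  have hdle : ∀ χ : IrrCharacter H, p ^ 2 ≤ d χ ^ 2 + (if d χ = 1 then p ^ 2 - 1 else 0) := by
    intro χ
    have hp2 : 1 ≤ p ^ 2 := Nat.one_le_pow _ _ (by omega)
    split_ifs with h
    · rw [h]; omega
    · obtain ⟨q, hq, hqd⟩ := Nat.exists_prime_and_dvd h
      have h1 := hH q hq (hqd.trans (hdd χ))
      have hpos : 0 < d χ := Nat.pos_of_ne_zero (fun h0 => by
        have := hdd χ
        rw [h0, zero_dvd_iff] at this
        exact Nat.card_pos.ne' this)
      have h2 : p ≤ d χ := h1.trans (Nat.le_of_dvd hpos hqd)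
      exact (Nat.pow_le_pow_left h2 2).trans (Nat.le_add_right _ _)
  have hmain : p ^ 2 * k ≤ Nat.card H + (p ^ 2 - 1) * n := by
    calc p ^ 2 * k = ∑ χ : IrrCharacter H, p ^ 2 := by
          rw [Finset.sum_const, Finset.card_univ, hk, smul_eq_mul, mul_comm]
      _ ≤ ∑ χ : IrrCharacter H, (d χ ^ 2 + (if d χ = 1 then p ^ 2 - 1 else 0)) :=
          Finset.sum_le_sum (fun χ _ => hdle χ)
      _ = Nat.card H + (p ^ 2 - 1) * n := by
          rw [Finset.sum_add_distrib, hsum, ← Finset.sum_filter, Finset.sum_const, hlin, smul_eq_mul, mul_comm n]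
  have hidx : Nat.card (commutator H) * n = Nat.card H := (commutator H).card_mul_index
  have h1 : (p + 1) * n ≤ Nat.card H := by
    rw [← hidx]
    exact Nat.mul_le_mul_right _ hcomm
  obtain ⟨w, hw⟩ : ∃ w, p ^ 2 = w + 1 := ⟨p ^ 2 - 1, by
    have : 1 ≤ p ^ 2 := Nat.one_le_pow _ _ (by omega)
    omega⟩
  have hw1 : p ^ 2 - 1 = w := by omega
  rw [hw1] at hmain
  have h2 : (p * (p + 1)) * (p * k) ≤ (p * (p + 1)) * Nat.card H := by
    calc (p * (p + 1)) * (p * k) = (p + 1) * (p ^ 2 * k) := by ring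
      _ ≤ (p + 1) * (Nat.card H + w * n) := Nat.mul_le_mul_left _ hmain
      _ = (p + 1) * Nat.card H + w * ((p + 1) * n) := by ring
      _ ≤ (p + 1) * Nat.card H + w * Nat.card H := Nat.add_le_add_left (Nat.mul_le_mul_left _ h1) _
      _ = (p + (w + 1)) * Nat.card H := by ring
      _ = (p * (p + 1)) * Nat.card H := by rw [← hw]; ring
  exact Nat.le_of_mul_le_mul_left h2 (by positivity)

/-- the centre of a nonabelian group has index at least `p ^ 2`. -/
theorem sq_mul_card_center_le {A : Type u} [Group A] [Finite A] {p : ℕ}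
    (hA : ∀ q : ℕ, q.Prime → q ∣ Nat.card A → p ≤ q) (hab : ¬ ∀ a b : A, a * b = b * a) :
    p ^ 2 * Nat.card (Subgroup.center A) ≤ Nat.card A := by
  have hmul := (Subgroup.center A).card_mul_index
  set n := (Subgroup.center A).index with hn
  have hn1 : n ≠ 1 := by
    intro h
    apply hab
    intro a b
    have h1 : Subgroup.center A = ⊤ := Subgroup.index_eq_one.1 (hn ▸ h)
    have h2 : b ∈ Subgroup.center A := by rw [h1]; exact Subgroup.mem_top b
    exact Subgroup.mem_center_iff.1 h2 a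
  have hn0 : n ≠ 0 := Subgroup.index_ne_zero_of_finite
  have hnd : n ∣ Nat.card A := ⟨_, by rw [← hmul, mul_comm]⟩
  obtain ⟨q, hq, r, hr⟩ := Nat.exists_prime_and_dvd hn1
  have hpq : p ≤ q := hA q hq ((Dvd.intro r hr.symm).trans hnd)
  have hr1 : r ≠ 1 := by
    intro h
    rw [h, mul_one] at hr
    apply hab
    have hcyc : IsCyclic (A ⧸ Subgroup.center A) := by
      have : Fact q.Prime := ⟨hq⟩
      apply isCyclic_of_prime_card (p := q)
      rw [← hr]
      rfl
    intro a b
    exact commutative_of_cyclic_center_quotient (QuotientGroup.mk' (Subgroup.center A))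
      (by rw [QuotientGroup.ker_mk']) a b
  have hr0 : 0 < r := Nat.pos_of_ne_zero (fun h => hn0 (by rw [hr, h, mul_zero]))
  obtain ⟨q', hq', hqr⟩ := Nat.exists_prime_and_dvd hr1
  have hpr : p ≤ r := (hA q' hq' ((hqr.trans (Dvd.intro_left q hr.symm)).trans hnd)).trans (Nat.le_of_dvd hr0 hqr)
  have h1 : p ^ 2 ≤ n := by
    rw [hr, sq]
    exact Nat.mul_le_mul hpq hpr
  calc p ^ 2 * Nat.card (Subgroup.center A) ≤ n * Nat.card (Subgroup.center A) := Nat.mul_le_mul_right _ h1
    _ = Nat.card A := by rw [← hmul, mul_comm]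

/-- Bound for the number of classes of `s`-elements when the nilpotent Hall subgroup is not abelian. -/
theorem kc_le_of_not_comm {G : Type u} [Group G] [Finite G] {s : Finset ℕ} (hs : ∀ q ∈ s, q.Prime) {p : ℕ}
    (hp : 1 ≤ p) (hps : ∀ q ∈ s, p ≤ q) (A : Subgroup G) (hA : NilHall s A) (hab : ¬ ∀ a b : A, a * b = b * a) :
    p ^ 3 * kc s G ≤ Nat.card A * (p ^ 2 + p - 1) := by
  have hpA : ∀ q : ℕ, q.Prime → q ∣ Nat.card A → p ≤ q := fun q hq hqd => hps q (hA.mem_of_dvd hs hq hqd)
  have h1 := sq_mul_card_center_le hpA hab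
  have hinj := A.subtype_injective
  set Z : Subgroup G := (Subgroup.center A).map A.subtype with hZ
  have hZc : Nat.card Z = Nat.card (Subgroup.center A) := Subgroup.card_map_of_injective hinj
  have h2 := mul_kc_le (H := G) (s := s) (A : Set G) (Z : Set G) p hp (hA.cov hs) ?_
  · have h2' : p * kc s G ≤ Nat.card A + (p - 1) * Nat.card (Subgroup.center A) := by
      rw [← hZc]; exact h2
    obtain ⟨w, rfl⟩ : ∃ w, p = w + 1 := ⟨p - 1, by omega⟩
    have h3 : w + 1 - 1 = w := rfl
    rw [h3] at h2'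
    have h4 : (w + 1) ^ 2 + (w + 1) - 1 = (w + 1) ^ 2 + w := by omega
    rw [h4]
    calc (w + 1) ^ 3 * kc s G = (w + 1) ^ 2 * ((w + 1) * kc s G) := by ring
      _ ≤ (w + 1) ^ 2 * (Nat.card A + w * Nat.card (Subgroup.center A)) := Nat.mul_le_mul_left _ h2'
      _ = (w + 1) ^ 2 * Nat.card A + w * ((w + 1) ^ 2 * Nat.card (Subgroup.center A)) := by ring
      _ ≤ (w + 1) ^ 2 * Nat.card A + w * Nat.card A := Nat.add_le_add_left (Nat.mul_le_mul_left _ h1) _
      _ = Nat.card A * ((w + 1) ^ 2 + w) := by ring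
  · intro v hv hvZ
    have hvA : v ∈ A := hv
    -- class of v in A
    let X := Cfsg.Agent.H518.PiCaseTwo.cls A v
    have hX := Cfsg.Agent.H518.PiCaseTwo.card_cls_mul A v
    have hle : Nat.card X ≤ Nat.card {w : G // w ∈ (A : Set G) ∧ IsConj v w} := by
      have hmem : ∀ y : X, (y : G) ∈ (A : Set G) ∧ IsConj v (y : G) := by
        rintro ⟨_, k, hk, rfl⟩
        exact ⟨mul_mem (mul_mem hk hvA) (inv_mem hk), isConj_iff.2 ⟨k, rfl⟩⟩
      refine Nat.card_le_card_of_injective (fun y : X => (⟨(y : G), hmem y⟩ :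
        {w : G // w ∈ (A : Set G) ∧ IsConj v w})) ?_
      intro y y' h
      exact Subtype.ext (congrArg (fun w => (w.1 : G)) h)
    refine le_trans ?_ hle
    have hpos : 0 < Nat.card X := by
      rcases Nat.eq_zero_or_pos (Nat.card X) with h0 | h0
      · rw [h0, zero_mul] at hX
        exact absurd hX.symm Nat.card_pos.ne'
      · exact h0
    have hne1 : Nat.card X ≠ 1 := by
      intro h8
      have hsub : Subsingleton X := (Nat.card_eq_one_iff_unique.1 h8).1
      apply hvZ
      refine ⟨⟨v, hvA⟩, ?_, rfl⟩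
      show (⟨v, hvA⟩ : A) ∈ Subgroup.center A
      rw [Subgroup.mem_center_iff]
      rintro ⟨a, ha⟩
      have e1 : v ∈ X := ⟨1, one_mem _, by simp⟩
      have e2 : a * v * a⁻¹ ∈ X := ⟨a, ha, rfl⟩
      have e3 : a * v * a⁻¹ = v := congrArg Subtype.val (hsub.elim (⟨_, e2⟩ : X) ⟨_, e1⟩)
      apply Subtype.ext
      rwa [mul_inv_eq_iff_eq_mul] at e3
    obtain ⟨q, hq, hqd⟩ := Nat.exists_prime_and_dvd hne1
    have h9 : q ∣ Nat.card A := hqd.trans ⟨_, hX.symm⟩
    exact (hpA q hq h9).trans (Nat.le_of_dvd hpos hqd)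

/-- The translation between the formulation with a set of primes and the one with a finite set. -/
theorem card_classes_le {G : Type u} [Group G] [Finite G] (π : Set ℕ)
    (m : ℕ) (hm : m ∣ Nat.card G) (hmπ : ∀ q : ℕ, q.Prime → q ∣ m → q ∈ π)
    (hm' : ∀ q ∈ π, ¬ q ∣ Nat.card G / m) :
    m = part m.primeFactors (Nat.card G) ∧
    Nat.card {C : ConjClasses G // ∀ q : ℕ, q.Prime → (∃ g : G, ConjClasses.mk g = C ∧ q ∣ orderOf g) → q ∈ π} ≤
      kc m.primeFactors G := by
  classical
  have hG : Nat.card G ≠ 0 := Nat.card_pos.ne'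
  have hm0 : m ≠ 0 := fun h => by rw [h, zero_dvd_iff] at hm; exact hG hm
  have hs : ∀ q ∈ m.primeFactors, q.Prime := fun q hq => Nat.prime_of_mem_primeFactors hq
  refine ⟨?_, ?_⟩
  · symm
    unfold part
    have h1 : ∏ q ∈ m.primeFactors, q ^ (Nat.card G).factorization q =
        ∏ q ∈ m.primeFactors, q ^ m.factorization q := by
      apply Finset.prod_congr rfl
      intro q hq
      have hqp := hs q hq
      have hqm : q ∣ m := Nat.dvd_of_mem_primeFactors hq
      obtain ⟨c, hc⟩ := hm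
      have hc0 : c ≠ 0 := fun h => hG (by rw [hc, h, mul_zero])
      have hqc : ¬ q ∣ c := by
        have := hm' q (hmπ q hqp hqm)
        rwa [hc, Nat.mul_div_cancel_left _ (Nat.pos_of_ne_zero hm0)] at this
      rw [hc, Nat.factorization_mul hm0 hc0, Finsupp.add_apply, Nat.factorization_eq_zero_of_not_dvd hqc, add_zero]
    rw [h1]
    exact Nat.prod_factorization_pow_eq_self hm0
  · have hin : ∀ C : {C : ConjClasses G // ∀ q : ℕ, q.Prime → (∃ g : G, ConjClasses.mk g = C ∧ q ∣ orderOf g) → q ∈ π},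
        ∃ g : G, ConjClasses.mk g = C.1 ∧ IsElt m.primeFactors g := by
      rintro ⟨C, hC⟩
      obtain ⟨g, rfl⟩ := ConjClasses.exists_rep C
      refine ⟨g, rfl, ?_⟩
      intro q hq hqd
      have hqπ := hC q hq ⟨g, rfl, hqd⟩
      rw [Nat.mem_primeFactors]
      refine ⟨hq, ?_, hm0⟩
      by_contra hqm
      have hqG : q ∣ Nat.card G := hqd.trans (orderOf_dvd_natCard g)
      apply hm' q hqπ
      have h2 : m * (Nat.card G / m) = Nat.card G := Nat.mul_div_cancel' hm
      rw [← h2] at hqG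
      exact (hq.dvd_mul.1 hqG).resolve_left hqm
    refine Nat.card_le_card_of_injective (fun C => (⟨C.1, hin C⟩ : {C : ConjClasses G // ∃ g : G,
      ConjClasses.mk g = C ∧ IsElt m.primeFactors g})) ?_
    intro C D h
    rw [Subtype.mk.injEq] at h
    exact Subtype.ext h

end Cfsg.Agent.H518.PiFinal
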