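import Mathlib
import Cfsg.Agent.H585.GoodW
import Cfsg.Agent.H518.SUTable
import Cfsg.Agent.H518.SUExc

/-!
# The classical rows in the form used for S4384 (`H585.GW.HasGoodW`)

* `hasGoodW_of_rowOutW`, `hasGoodW_of_exc2`, `hasGoodW_of_exc1`;
* `hasGoodW_classical` : every simple classical group is `PSL_2(q)`, one of the ten exceptions, or `HasGoodW`.
-/

set_option autoImplicit false

namespace Cfsg.Agent.H518.SU

open Cfsg.Agent.H465.SU Cfsg.Agent.H585.Good Cfsg.Agent.H585.GW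

universe u v w

variable {K : Type u} [Group K]

theorem El.suel {p a : ℕ} (hp : p.Prime) (ha : 1 ≤ a) {y : K} (hy : orderOf y = p ^ a) (h : El p y) : SUel p y := by
  refine ⟨?_, ⟨a, hy⟩, fun M hM hyM A B hA hB hA' hB' => h.eq_of_card hp ha hy M hM hyM A B hA hB hA' hB'⟩
  rintro rfl
  rw [orderOf_one] at hy
  exact (Nat.one_lt_pow (by omega) hp.one_lt).ne hy

theorem wit_of_sep [Finite K] {p s : ℕ} {x : K} (hx : orderOf x = p) (hs : s.Prime) (hsp : s ≠ p)
    (hsK : s ∣ Nat.card K) (h : Dghp.Sep K p s) : Wit K p x := by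
  have : Fact s.Prime := ⟨hs⟩
  obtain ⟨c, hc⟩ := exists_prime_orderOf_dvd_card' s hsK
  refine ⟨s, c, hs, hsp, ⟨1, by rw [hc, pow_one]⟩, fun hsol => h _ hsol ?_ ?_⟩
  · have h1 := Subgroup.orderOf_dvd_natCard (s := Subgroup.closure ({x, c} : Set K)) (x := x)
      (Subgroup.subset_closure (by simp))
    rwa [hx] at h1
  · have h1 := Subgroup.orderOf_dvd_natCard (s := Subgroup.closure ({x, c} : Set K)) (x := c)
      (Subgroup.subset_closure (by simp))
    rwa [hc] at h1

theorem hasGoodW_of_rowOutW [Finite K] [IsSimpleGroup K] (hK : ¬ IsMulCommutative K) (h : RowOutW K) : HasGoodW K := by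
  obtain ⟨p, a, hp, hp5, ha, hout, hcard, y, hy, hel, hw⟩ := h
  have hx : orderOf (y ^ p ^ (a - 1)) = p := orderOf_pow_pred hp ha hy
  have hgood : GoodAt K p a y :=
    { prime := hp
      odd := by omega
      pos := ha
      ord := hy
      syl := hcard
      su := hel.suel hp ha hy
      inn := InnAt.of_out hp hout
      wit := by
        rcases hw with h1 | ⟨s, h1, h2, h3, h4⟩
        · exact Wit.of_one hp hx (h1.suel (a := 1) hp le_rfl (by rw [hx, pow_one])) hK
        · exact wit_of_sep hx h1 h2 h3 h4 }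
  exact ⟨p, a, y, hgood.toW hK⟩

theorem hasGoodW_of_exc2 [Finite K] [IsSimpleGroup K] (hK : ¬ IsMulCommutative K) (h : Exc2 K) : HasGoodW K := by
  obtain ⟨r, hr, h5, hout, h2, y, hy, hall⟩ := h
  exact ⟨r, 1, y, GoodW.of_exc hK hr hy h2 (InnAt.of_out hr hout) hall⟩

theorem center_eq_bot_of_simple [IsSimpleGroup K] (hK : ¬ IsMulCommutative K) : Subgroup.center K = ⊥ := by
  rcases (inferInstance : (Subgroup.center K).Normal).eq_bot_or_eq_top with h | h
  · exact h
  · exfalso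
    apply hK
    exact ⟨⟨fun a b => by
      have hb : b ∈ Subgroup.center K := by rw [h]; trivial
      exact Subgroup.mem_center_iff.1 hb a⟩⟩

theorem hasGoodW_of_exc1 [Finite K] [IsSimpleGroup K] (hK : ¬ IsMulCommutative K) (h : Exc1 K) : HasGoodW K :=
  hasGoodW_of_exc2 hK (h.exc2 (center_eq_bot_of_simple hK))

/-- **The classical groups.** -/
theorem hasGoodW_classical [Finite K] [IsSimpleGroup K] (hK : ¬ IsMulCommutative K)
    (h : Cfsg.IsPSL K ∨ Cfsg.IsPSp K ∨ Cfsg.IsPSU K ∨ Cfsg.IsPOmegaOdd K ∨ Cfsg.IsPOmegaPlus K ∨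
      Cfsg.IsPOmegaMinus K) :
    (∃ (F : Type) (_ : Field F) (_ : Fintype F), 4 ≤ Fintype.card F ∧
      Nonempty (K ≃* Matrix.ProjectiveSpecialLinearGroup (Fin 2) F)) ∨ Exceptions K ∨ HasGoodW K :=
  (tableW (center_eq_bot_of_simple hK) h).imp id (Or.imp id (hasGoodW_of_rowOutW hK))

end Cfsg.Agent.H518.SU
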